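import Cfsg.Agent.SC3.E8a

/-! Automizer of order four: the order of the group. -/

set_option autoImplicit false

namespace Cfsg.Agent.SC3

open Subgroup Finset Cfsg.Agent.CharLib

variable {G : Type*} [Group G] [Finite G]

theorem num4 {ι : Type*} [DecidableEq ι] {s : Finset ι} {f : ι → ℤ} {d : ι → ℕ} {e : ℤ} {x : ℕ}
    (h1 : ∑ i ∈ s, f i ^ 2 = (3 : ℕ)) (h2 : ∀ i ∈ s, 1 < d i ∧ 9 ∣ (d i : ℤ) - f i) (he : e = 1 ∨ e = -1)
    (hx : 0 < x) (h3 : 9 ∣ (x : ℤ) + 4 * e) (h4 : 1 + ∑ i ∈ s, (d i : ℤ) * f i + x * e = 0) :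
    (1 : ℚ) / 4 < 1 + ∑ i ∈ s, (f i * f i * f i : ℚ) / d i - 2 * e / x := by
  have h5 := (small_sq le_rfl h1).2
  have h6 : ∀ t ⊆ s, -((∑ i ∈ t, f i ^ 2 : ℤ) : ℚ) / 8 ≤ ∑ i ∈ t, (f i * f i * f i : ℚ) / d i := fun t ht => by
    rw [Int.cast_sum, ← sum_neg_distrib, sum_div]
    refine sum_le_sum fun i hi => ?_
    obtain ⟨j1, j2⟩ := h2 i (ht hi)
    by_cases e : f i = 0
    · simp [e]
    rcases h5 i (ht hi) e with e | e <;> rw [e] at j2 ⊢
    · have : (0 : ℚ) ≤ 1 / d i := by positivity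
      push_cast; linarith
    · have : (1 : ℚ) / d i ≤ 1 / 8 := one_div_le_one_div_of_le (by norm_num) (by exact_mod_cast (by omega))
      push_cast
      rw [show (-1 * -1 * -1 : ℚ) / d i = -(1 / d i) by ring]
      linarith
  have h7 := h6 s subset_rfl
  rw [h1] at h7
  rcases he with rfl | rfl
  swap
  · have : (0 : ℚ) < 2 / x := by positivity
    push_cast at h7 ⊢
    rw [show (2 * -1 : ℚ) / x = -(2 / x) by ring]
    linarith
  by_cases h8 : ∃ i ∈ s, f i = 1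
  · obtain ⟨i, hi, e⟩ := h8
    have j1 := h6 _ (erase_subset i s)
    rw [← add_sum_erase _ _ hi, e] at h1 ⊢
    rw [show ∑ i ∈ s.erase i, f i ^ 2 = 2 by push_cast at h1; linarith] at j1
    have : (0 : ℚ) ≤ 1 / d i := by positivity
    have : (2 : ℚ) / x ≤ 2 / 5 := div_le_div_of_nonneg_left (by norm_num) (by norm_num) (by exact_mod_cast (by omega))
    push_cast at j1 ⊢
    linarith
  · have j1 : ∑ i ∈ s, (d i : ℤ) * f i ≤ ∑ i ∈ s, -8 * f i ^ 2 := sum_le_sum fun i hi => by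
      obtain ⟨j1, j2⟩ := h2 i hi
      by_cases e : f i = 0
      · simp [e]
      rw [(h5 i hi e).resolve_left fun e => h8 ⟨i, hi, e⟩] at j2 ⊢
      omega
    rw [← mul_sum, h1] at j1
    have : (2 : ℚ) / x ≤ 2 / 23 := div_le_div_of_nonneg_left (by norm_num) (by norm_num) (by exact_mod_cast (by omega))
    push_cast at h7 ⊢
    linarith

namespace St

variable {R : Sylow 3 G} {q a b : ℕ} (T : St R q a b) (h4 : (R : Subgroup G).relIndex (Nm R) = 4)
include T h4

theorem ord4 (x : G) (hx : x ∈ (R : Subgroup G)) (h1 : x ≠ 1) : orderOf x = 3 := by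
  obtain ⟨j, hj, e⟩ := (Nat.dvd_prime_pow Nat.prime_three (m := 2)).1 (T.card_R ▸ Subgroup.orderOf_dvd_natCard _ hx)
  interval_cases j
  · exact absurd (orderOf_eq_one_iff.1 e) h1
  · exact e
  exfalso
  obtain ⟨k, hk, ho⟩ := T.exists_k
  have h2 := eq_of_card_le (zpowers_le.2 hx) (by rw [T.card_R, Nat.card_zpowers, e]; norm_num)
  have h3 := card_le_card (t := nt (zpowers (x ^ 3))) fun y (hy : y ∈ Oc R k) => by
    obtain ⟨n, rfl⟩ := h2.ge (mem_Oc.1 hy).1
    have j1 := cube_of_conj (mem_Oc.1 hy).2 ho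
    simp only at j1 ⊢
    rw [← zpow_natCast, ← zpow_mul, ← orderOf_dvd_iff_zpow_eq_one, e] at j1
    obtain ⟨m, rfl⟩ : 3 ∣ n := by omega
    exact mem_nt.2 ⟨⟨m, by simp [zpow_mul]⟩, fun e => ne_one_of_ord ho (isConj_one_left.1 (e ▸ (mem_Oc.1 hy).2))⟩
  rw [T.sc.card_Oc hk (ne_one_of_ord ho), h4, card_nt, Nat.card_zpowers, orderOf_pow' _ (by norm_num), e] at h3
  norm_num at h3

theorem classes4 : ∃ k ∈ (R : Subgroup G), ∃ u ∈ (R : Subgroup G), orderOf k = 3 ∧ u ≠ 1 ∧ u ≠ k ∧ u ≠ k⁻¹ ∧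
    (∀ y ∈ (R : Subgroup G), IsConj k y ↔ y = k ∨ y = k⁻¹ ∨ y = u ∨ y = u⁻¹) ∧
    ∀ x ∈ (R : Subgroup G), x ≠ 1 → ¬ IsConj k x → ∀ y ∈ (R : Subgroup G), y ≠ 1 → ¬ IsConj k y → IsConj x y := by
  classical
  obtain ⟨k, hk, ho⟩ := T.exists_k
  have h1 := T.sc.card_Oc hk (ne_one_of_ord ho)
  obtain ⟨u, hu, h2⟩ := exists_mem_notMem_of_card_lt_card (s := {k, k⁻¹}) (t := Oc R k)
    (card_le_two.trans_lt (by omega))
  simp only [mem_insert, mem_singleton, not_or] at h2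
  obtain ⟨h3, h5⟩ := mem_Oc.1 hu
  have h6 : u ≠ 1 := fun e => ne_one_of_ord ho (isConj_one_left.1 (e ▸ h5))
  have h7 : {k, k⁻¹, u, u⁻¹} = Oc R k := eq_of_subset_of_card_le (by
    simp only [insert_subset_iff, singleton_subset_iff, mem_Oc]
    exact ⟨⟨hk, IsConj.refl k⟩, ⟨inv_mem hk, T.real hk⟩, ⟨h3, h5⟩, inv_mem h3, h5.trans (T.real h3)⟩) (by
    rw [h1, h4, card_insert_of_notMem, card_insert_of_notMem, card_pair (ne_inv3 (T.ord4 h4 u h3 h6))]
    · simp only [mem_insert, mem_singleton, not_or, inv_inj]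
      exact ⟨Ne.symm h2.2, Ne.symm h2.1⟩
    · simp only [mem_insert, mem_singleton, not_or]
      exact ⟨ne_inv3 ho, Ne.symm h2.1, fun e => h2.2 (by rw [e, inv_inv])⟩)
  refine ⟨k, hk, u, h3, ho, h6, h2.1, h2.2, fun y hy => by simpa [mem_Oc, hy] using (Finset.ext_iff.1 h7 y).symm,
    fun x hx i1 i2 y hy i3 i4 => ?_⟩
  have h8 : Oc R k ⊆ nt R := fun z hz => mem_nt.2 ⟨(mem_Oc.1 hz).1, fun e =>
    ne_one_of_ord ho (isConj_one_left.1 (e ▸ (mem_Oc.1 hz).2))⟩
  have h9 : Oc R x = nt R \ Oc R k := eq_of_subset_of_card_le (fun z hz => mem_sdiff.2 ⟨mem_nt.2 ⟨(mem_Oc.1 hz).1,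
    fun e => i1 (isConj_one_left.1 (e ▸ (mem_Oc.1 hz).2))⟩, fun e => i2 ((mem_Oc.1 e).2.trans (mem_Oc.1 hz).2.symm)⟩)
    (by rw [card_sdiff_of_subset h8, card_nt, T.card_R, T.sc.card_Oc hx i1, h1, h4])
  exact (mem_Oc.1 (h9.ge (mem_sdiff.2 ⟨mem_nt.2 ⟨hy, i3⟩, fun e => i4 (mem_Oc.1 e).2⟩))).2

theorem card4 : Nat.card G = 360 := by
  classical
  have := Fintype.ofFinite G
  have := T.simple
  obtain ⟨k, hk, u, hu, ho, u1, u2, u3, hK, hL⟩ := T.classes4 h4
  have h1 := ne_one_of_ord ho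
  have X : Cx k := ⟨T.ss.h3, ho⟩
  have hN : ∀ v ∈ (R : Subgroup G), v ≠ 1 → v ≠ k → v ≠ k⁻¹ → (v = u ∨ v = u⁻¹) →
      v * k ≠ 1 ∧ ¬ IsConj k (v * k) := fun v hv i1 i2 i3 i4 => by
    refine ⟨fun e => i3 (eq_inv_of_mul_eq_one_left e), fun e => ?_⟩
    have i5 : v * k = k ∨ v * k = k⁻¹ ∨ v * k = v ∨ v * k = v⁻¹ := by
      rcases i4 with rfl | rfl <;> simpa [or_comm] using (hK _ (mul_mem hv hk)).1 e
    rcases i5 with e | e | e | e
    · exact i1 (by simpa using e)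
    · exact i2 (mul_right_cancel (e.trans X.sq.symm))
    · exact h1 (by simpa using e)
    · exact i2 (mul_left_cancel (e.trans (sq3 (T.ord4 h4 v hv i1)).symm)).symm
  obtain ⟨l1, l2⟩ := hN u hu u1 u2 u3 (Or.inl rfl)
  obtain ⟨l3, l4⟩ := hN u⁻¹ (inv_mem hu) (inv_ne_one.2 u1) (fun e => u3 (e ▸ (inv_inv u).symm)) (by simpa using u2)
    (Or.inr rfl)
  have hl := mul_mem hu hk
  have hlo := T.ord4 h4 _ hl l1
  have hF : nF k (u * k) k = 2 := by
    rw [nF_eq, ← card_pair (a := u * k) (b := u⁻¹ * k) (by simpa using ne_inv3 (T.ord4 h4 u hu u1))]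
    congr 1
    ext w
    simp only [mem_filter, mem_univ, true_and, mem_insert, mem_singleton]
    constructor
    · rintro ⟨j1, j2⟩
      rcases tri' T.ss ho ho hlo j1 j2 with e | e
      · exact absurd ((T.real hk).trans ((conj_of_WW X e).2.trans j2.symm)) l2
      rcases (hK _ (mul_mem (T.sc.mem hk h1 e) (inv_mem hk))).1 j1 with e | e | e | e <;>
        rw [mul_inv_eq_iff_eq_mul.1 e] at j2 ⊢
      · exact absurd (by simpa using j2) l1
      · exact absurd ((T.real hk).trans (by simpa [X.sq] using j2.symm)) l2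
      · exact Or.inl rfl
      · exact Or.inr rfl
    · rintro (rfl | rfl)
      · exact ⟨by simpa using (hK u hu).2 (by simp), by
          simpa [mul_assoc] using hL _ hl l1 l2 _ (mul_mem (inv_mem hu) hk) l3 l4⟩
      · exact ⟨by simpa using (hK _ (inv_mem hu)).2 (by simp), by
          rw [show k * (u⁻¹ * k)⁻¹ * k = u * k by group]⟩
  generalize u * k = l at *
  have hr := T.real hk
  have hc := fun χ => (cv_spec ho hr χ).1
  have hd := fun χ => (cv_spec hlo (T.real hl) χ).1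
  have h2 := frob_int hc hd (z := k) fun χ =>
    (classFun_of_isConj (isChar_classFun (ch χ)) hr).symm.trans (hc χ)
  have h3 := sum_int_mul hc hc
  have h5 := sum_int_mul hd hd
  have h6 := sum_int_mul hc hd
  have h7 := sum_dg_int h1 hc
  have h8 := sum_dg_int l1 hd
  rw [if_pos (IsConj.refl _)] at h3 h5
  rw [if_neg l2] at h6
  rw [T.C1_card hk h1] at h2 h3
  rw [T.C1_card hl l1] at h2 h5
  have h9 : ∀ χ : IrrCharacter G, 9 ∣ (dg χ : ℤ) + 4 * (cv χ k + cv χ l) := fun χ => by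
    obtain ⟨n, hn⟩ := sum_sub (ch χ) (R : Subgroup G)
    have j1 : ((nt (R : Subgroup G)).filter (IsConj k)).card = 4 := by
      rw [← h4, ← T.sc.card_Oc hk h1]
      congr 1
      ext z
      simp only [mem_filter, mem_nt, mem_Oc]
      exact ⟨fun h => ⟨h.1.1, h.2⟩, fun h => ⟨⟨h.1, fun e => h1 (isConj_one_left.1 (e ▸ h.2))⟩, h.2⟩⟩
    have j2 := card_filter_add_card_filter_not (s := nt (R : Subgroup G)) (IsConj k)
    rw [j1, card_nt, T.card_R] at j2
    rw [sum_nt, ← sum_filter_add_sum_filter_not _ (IsConj k), sum_congr rfl (g := fun _ => (cv χ k : ℂ))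
      fun x hx => (classFun_of_isConj (isChar_classFun (ch χ)) (mem_filter.1 hx).2).symm.trans (hc χ),
      sum_congr rfl (s₁ := filter (fun x => ¬ IsConj k x) _) (g := fun _ => (cv χ l : ℂ))
      fun x hx => (classFun_of_isConj (isChar_classFun (ch χ)) (hL l hl l1 l2 x (mem_nt.1 (mem_filter.1 hx).1).1
        (mem_nt.1 (mem_filter.1 hx).1).2 (mem_filter.1 hx).2)).symm.trans (hd χ), sum_const, sum_const, j1,
      show ((nt (R : Subgroup G)).filter fun x => ¬ IsConj k x).card = 4 by omega, T.card_R, dg_eq] at hn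
    exact ⟨n, by
      have : (dg χ : ℂ) + 4 * (cv χ k + cv χ l) = 9 * n := by simp only [nsmul_eq_mul] at hn; push_cast at hn; linear_combination hn
      exact_mod_cast this⟩
  have h10 : ∀ χ : IrrCharacter G, cv χ l = cv χ k - 3 * ((cv χ k - cv χ l) / 3) := fun χ => by
    have := (cv_spec ho hr χ).2
    have := (cv_spec hlo (T.real hl) χ).2
    omega
  generalize hn : (fun χ => (cv χ k - cv χ l) / 3) = n
  simp only [congrFun hn] at h10
  have h11 : ∑ χ, n χ ^ 2 = 2 := by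
    have : ∑ χ, (cv χ k * cv χ k + cv χ l * cv χ l - 2 * (cv χ k * cv χ l)) = ∑ χ, 9 * n χ ^ 2 :=
      sum_congr rfl fun χ _ => by rw [h10]; ring
    rw [sum_sub_distrib, sum_add_distrib, ← mul_sum, ← mul_sum, h3, h5, h6] at this
    omega
  obtain ⟨α, -, β, -, hab, ha, hb, h12, hs⟩ := two_sq h11
  have h13 : (dg α : ℤ) * n α + dg β * n β = 0 := by
    have : ∑ χ, ((dg χ : ℤ) * cv χ k - dg χ * cv χ l) = ∑ χ, 3 * (dg χ * n χ) :=
      sum_congr rfl fun χ _ => by rw [h10]; ring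
    rw [sum_sub_distrib, ← mul_sum, h7, h8, hs _ fun i hi => by simp [hi]] at this
    omega
  have h14 : cv α k * n α + cv β k * n β = 3 := by
    have : ∑ χ, (cv χ k * cv χ k - cv χ k * cv χ l) = ∑ χ, 3 * (cv χ k * n χ) :=
      sum_congr rfl fun χ _ => by rw [h10]; ring
    rw [sum_sub_distrib, ← mul_sum, h3, h6, hs _ fun i hi => by simp [hi]] at this
    omega
  have h15 : n (triv G) = 0 := by rw [← hn]; simp [cv_triv]
  have hα : α ∈ univ.erase (triv G) := by simpa using fun e => by rw [e] at ha; omega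
  have hβ : β ∈ (univ.erase (triv G)).erase α := by simpa using ⟨hab.symm, fun e => by rw [e] at hb; omega⟩
  have h16 : ∀ χ ∈ ((univ.erase (triv G)).erase α).erase β, cv χ l = cv χ k := fun χ hχ => by
    simp only [mem_erase] at hχ
    rw [h10, h12 χ (mem_univ _) hχ.2.1 hχ.1]; simp
  rw [← add_sum_erase _ _ (mem_univ (triv G)), ← add_sum_erase _ _ hα, ← add_sum_erase _ _ hβ] at h2 h3 h7
  rw [sum_congr rfl fun χ hχ => by rw [h16 χ hχ], hF, h10 α, h10 β] at h2
  simp only [cv_triv, dg_triv, ← sq, Nat.cast_ofNat, Nat.cast_one] at h3 h7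
  have p1 := dg_pos α
  have p2 := dg_pos β
  have h17 := h9 α
  have h18 := sum_nonneg (s := ((univ.erase (triv G)).erase α).erase β) fun χ _ => sq_nonneg (cv χ k)
  rw [h10 α] at h17
  have h19 : dg β = dg α ∧ (cv α k + cv β k = 1 ∨ cv α k + cv β k = -1) ∧ cv α k * cv β k = -2 ∧
      cv α k - 3 * n α = cv β k ∧ cv β k - 3 * n β = cv α k := by
    have i1 : -3 < cv α k := by nlinarith
    have i2 : cv α k < 3 := by nlinarith
    have i3 : -3 < cv β k := by nlinarith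
    have i4 : cv β k < 3 := by nlinarith
    rcases ha with e | e <;> rcases hb with e' | e' <;> rw [e, e'] at h13 h14 ⊢ <;>
      generalize cv α k = x at * <;> generalize cv β k = y at * <;> interval_cases x <;> omega
  obtain ⟨i1, i2, i3, i4, i5⟩ := h19
  rw [i4] at h2 h17
  rw [i5, i1] at h2
  have h20 := num4 (s := ((univ.erase (triv G)).erase α).erase β) (f := fun χ => cv χ k) (d := dg)
    (by push_cast; rcases i2 with e | e <;> nlinarith) (fun χ hχ => ⟨one_lt_dg T.nc (by simp at hχ; exact hχ.2.2), by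
      have := h9 χ
      rw [h16 χ hχ] at this
      omega⟩) i2 p1 h17 (by rw [i1] at h7; linarith)
  have h21 : ((cv α k : ℚ) * cv β k * cv α k) / dg α + (cv β k : ℚ) * cv α k * cv β k / dg α =
      -(2 * (cv α k + cv β k : ℤ) / dg α) := by
    have : (cv α k : ℚ) * cv β k = -2 := by exact_mod_cast i3
    rw [mul_comm (cv β k : ℚ) (cv α k), this]; push_cast; ring
  have h22 : (0 : ℚ) < Nat.card G := by exact_mod_cast Nat.card_pos
  have h23 : (Nat.card G : ℚ) < 648 := by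
    simp only [cv_triv, dg_triv] at h2
    rw [← add_assoc (_ * _ * (cv α k : ℚ) / _), h21] at h2
    push_cast at h2 h20
    nlinarith
  have h24 : Nat.card G < 648 := by exact_mod_cast h23
  obtain ⟨j1, j2⟩ := T.index_Nm
  have j3 := T.big
  rw [T.card, mul_assoc, ← j1, h4] at h24 j3 ⊢
  omega

end St

end Cfsg.Agent.SC3
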