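import Cfsg.Agent.SC3.E8b

/-! Automizer of order eight: the contradiction. -/

set_option autoImplicit false

namespace Cfsg.Agent.SC3

open Subgroup Finset Cfsg.Agent.CharLib
open scoped commutatorElement

variable {G : Type*} [Group G] [Finite G]

theorem six_le' {k t : G} (ho : orderOf k = 3) {J : Subgroup G} (hk : k ∈ J) (ht : t ∈ J)
    (e : t * k * t⁻¹ = k⁻¹) : 6 ≤ Nat.card (Ak k ⊓ J : Subgroup G) := by
  have h1 : zpowers k ≤ Ak k ⊓ J := le_inf le_normalizer (zpowers_le.2 hk)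
  have h2 := card_lt h1 fun e' => ne_inv3 ho (by
    obtain ⟨n, rfl⟩ := e'.ge ⟨(mem_Ak ho).2 (Or.inr e), ht⟩
    rw [← e]; group)
  have h3 := card_dvd_of_le h1
  rw [Nat.card_zpowers, ho] at h2 h3
  omega

namespace Bad0

variable {k : G} {D O T₁ T₂ : Subgroup G}

omit [Finite G] in
theorem symm (B : Bad0 k D O T₁ T₂) : Bad0 k D O T₂ T₁ :=
  ⟨B.le, B.ce, B.nm, B.o2, B.o1, B.t2, B.t1, B.i2, B.i1, B.c2, B.c1, B.cn, sup_comm T₁ T₂ ▸ B.th,
    fun U h h' => (B.all U h h').symm⟩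

theorem one (B : Bad0 k D O T₁ T₂) (X : Cx k) {u : G} (hu : u ∈ O) (h1 : ∀ x ∈ T₁, Commute u x)
    (h2 : ∀ x ∈ T₂, Commute u x) : u = 1 :=
  X.h3.eq_one B.th (nd_ord B.i1.nd (B.o1 hu)) fun _ hx => (mem_C1.1 ((sup_le (fun x hx => mem_C1.2 (h1 x hx))
    (fun x hx => mem_C1.2 (h2 x hx)) : T₁ ⊔ T₂ ≤ C1 u) hx)).symm

theorem ab (B : Bad0 k D O T₁ T₂) (X : Cx k) : O ≤ Ce O := fun _ hx => mem_Ce.2 fun _ hy =>
  commutatorElement_eq_one_iff_commute.1 (B.one X (comm_mem hx hy) (fun _ hz => X.cls2 B.i1 (B.o1 hx) (B.o1 hy) hz)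
    fun _ hz => X.cls2 B.i2 (B.o2 hx) (B.o2 hy) hz)

variable (B : Bad0 k D D T₁ T₂) (Z : Gx k)
include B Z

theorem mx : Mx k T₁ := by
  obtain ⟨W, h1, hW⟩ := B.i1.exists_mx
  have h2 := Z.cx.normal_of_center hW.1 (B.o1.trans h1)
    (inf_le_right.trans ((centralizer_le (B.o1.trans h1)).trans B.ce))
  rwa [eq_of_card_le h1 ((B.all W hW.1 h2).elim card_le_of_le fun e => B.c1 ▸ B.c2 ▸ card_le_of_le e)]

theorem ne_four : Nat.card D ≠ 4 := fun e => by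
  have h1 := Z.cx.four_le (Cx.iv_center B.i1) (Z.cx.center_ne B.i1 fun e' => by
    have := B.c1; simp [e, e'] at this)
  have h2 := eq_of_card_le (inf_le_right.trans ((centralizer_le B.o1).trans B.ce) : T₁ ⊓ Ce T₁ ≤ D) (e ▸ h1)
  have h3 := card_le_of_le ((le_centralizer_iff.1 (h2.ge.trans inf_le_right)).trans B.ce)
  have := B.c1
  omega

theorem half (hD : Iv k D) (h : Nat.card (Nm T₁) = 6 * Nat.card T₁) :
    Nat.card D ≤ Nat.card (D ⊓ Ce T₁ : Subgroup G) * 4 := by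
  have hp := card_pos' D
  have c1 := B.c1
  obtain ⟨-, t, ht, e⟩ := (Z.idx (B.mx Z) fun e => by simp [e] at c1; omega).resolve_left (by omega)
  have h1 : t ∉ Nm D := fun h1 => by
    have j1 := six_le' Z.ord (J := Nm T₁ ⊓ Nm D) ⟨B.i1.nm, hD.nm⟩ ⟨ht, h1⟩ e
    have j2 := card_mul_le (A := T₁) (B := Ak k ⊓ (Nm T₁ ⊓ Nm D)) (U := Nm T₁ ⊓ Nm D) (le_inf (le_Nm _) B.t1)
      inf_le_right (eq_bot_iff.2 fun x hx => ((mem_Ak Z.ord).1 hx.2.1).elim
        (fun e => Z.cx.fix B.i1 hx.1 (mul_inv_eq_iff_eq_mul.1 e).symm) fun e => absurd (by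
          have := mul_mem hx.1 (Nm_conj B.i1.nm (inv_mem hx.1))
          rwa [← mul_assoc, ← mul_assoc, e, Z.cx.inv.sq, inv_inv] at this) (Z.cx.not_mem B.i1))
    have j3 := Nat.le_of_dvd (by omega) (show Nat.card (Nm T₁ ⊓ Nm D : Subgroup G) ∣ 12 * Nat.card D by
      have i1 := card_dvd_of_le (inf_le_left : Nm T₁ ⊓ Nm D ≤ _)
      have i2 := card_dvd_of_le (inf_le_right : Nm T₁ ⊓ Nm D ≤ _)
      rw [h, c1] at i1
      rw [B.cn] at i2
      convert Nat.dvd_sub i2 (i1.mul_left 2) using 1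
      omega)
    nlinarith
  have h2 : cj t D ≤ T₁ := cj_eq_iff.2 ht ▸ cj_mono B.o1
  have h3 : Iv k (cj t D) := by simpa [e] using (hD.cj t).inv
  have h4 : D ⊔ cj t D = T₁ := by
    have j1 := Z.cx.card_mod (hD.sup h3 (h2.trans B.t1))
    have j2 := Z.cx.card_mod hD
    have j3 := card_lt (le_sup_left : D ≤ D ⊔ cj t D) fun e => h1 (cj_eq_iff.1
      (eq_of_card_le (le_sup_right.trans e.ge) (card_cj t D).ge))
    obtain ⟨r, hr⟩ := card_dvd_of_le (le_sup_left : D ≤ D ⊔ cj t D)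
    have j4 := card_dvd_of_le (sup_le B.o1 h2)
    refine eq_of_card_le (sup_le B.o1 h2) ?_
    rw [hr] at j1 j3 ⊢
    rw [hr, c1, mul_comm 4] at j4
    have j5 := Nat.dvd_of_mul_dvd_mul_left hp j4
    have := Nat.le_of_dvd (by norm_num) j5
    interval_cases r <;> omega
  have h5 : D ⊓ cj t D ≤ D ⊓ Ce T₁ := fun x hx => ⟨hx.1, mem_Ce.2 fun y hy => mem_C1.1
    ((sup_le (fun y hy => mem_C1.2 (mem_Ce.1 (B.ab Z.cx hx.1) y hy))
      (fun y hy => mem_C1.2 (mem_Ce.1 (Ce_cj t D ▸ cj_mono (B.ab Z.cx) hx.2) y hy)) : D ⊔ cj t D ≤ C1 x)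
        (h4.ge hy))⟩
  have h6 := card_mul_relIndex h2
  rw [card_cj, c1, mul_comm 4] at h6
  have h7 := relIndex_le_of_le_right (H := cj t D) B.o1 index_ne_zero_of_finite
  rw [Nat.eq_of_mul_eq_mul_left hp h6, ← inf_relIndex_left] at h7
  rw [← card_mul_relIndex (inf_le_left : D ⊓ cj t D ≤ D)]
  exact Nat.mul_le_mul (card_le_of_le h5) h7

theorem pow4 {d : G} (hd : d ∈ D) : d ^ 4 = 1 := by
  have h : ∀ {T₁ T₂}, Bad0 k D D T₁ T₂ → ∀ x ∈ T₁, Commute (d ^ 4) x := fun {T₁ T₂} B x hx => by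
    have := normal_subgroupOf_of_le_normalizer B.t1
    have h1 := card_mul_relIndex B.o1
    rw [B.c1, mul_comm 4] at h1
    have h2 : x ^ 4 ∈ D := Nat.eq_of_mul_eq_mul_left (card_pos' D) h1 ▸
      (D.subgroupOf T₁).pow_index_mem ⟨x, hx⟩
    rw [← commutatorElement_eq_one_iff_commute, Z.cx.comm_pow' B.i1 (B.o1 hd) hx,
      commutatorElement_eq_one_iff_commute]
    exact mem_Ce.1 (B.ab Z.cx hd) _ h2
  exact B.one Z.cx (pow_mem hd 4) (h B) (h B.symm)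

theorem real (hD : Iv k D) (h0 : D ≠ ⊥) : ∃ t ∈ Nm D, t * k * t⁻¹ = k⁻¹ := by
  by_contra h
  obtain ⟨K, -, h1, h2⟩ := (Z.m3 hD h0).compl fun e => h (by
    obtain ⟨t, ht⟩ := isConj_iff.1 e
    exact ⟨t, t.2, congrArg Subtype.val ht⟩)
  have h3 := B.all _ h1.map_sub (map_subtype_le _)
  have := card_pos' D
  have := B.cn
  have := B.c1
  have := B.c2
  rcases h3 with e | e <;> have := card_le_of_le e <;> rw [card_map_sub] at this <;> omega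

theorem count (hD : Iv k D) (h0 : D ≠ ⊥) (hA : Nat.card (Ak k) ≤ 18) (h : ∀ W, Mx k W → ∃ g, W = cj g T₁) :
    (WW k).ncard + 2 ≤ 21 * Nat.card D := by
  classical
  obtain ⟨t, ht, e⟩ := B.real Z hD h0
  have h1 := six_le' Z.ord hD.nm ht e
  let X := (Set.toFinite {E | ∃ a ∈ Ak k, E = cj a D}).toFinset
  have hX : ∀ E, E ∈ X ↔ ∃ a ∈ Ak k, E = cj a D := fun _ => Set.Finite.mem_toFinset _
  have h2 := orbit_count fun E => (hX E).1
  have h3 : X.card ≤ 3 := by nlinarith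
  choose! f hf hf' using fun E => (hX E).1
  have hp := card_pos' D
  have h4 : ∀ E ∈ X, (nt (cj (f E) T₁) ∪ nt (cj (f E) T₂)).card ≤ 7 * Nat.card D - 1 := fun E _ => by
    have j1 := card_union_add_card_inter (nt (cj (f E) T₁)) (nt (cj (f E) T₂))
    have j2 : (nt (cj (f E) D)).card ≤ _ := card_le_card (t := nt (cj (f E) T₁) ∩ nt (cj (f E) T₂)) fun x hx =>
      mem_inter.2 ⟨mem_nt.2 ⟨cj_mono B.o1 (mem_nt.1 hx).1, (mem_nt.1 hx).2⟩,
        mem_nt.2 ⟨cj_mono B.o2 (mem_nt.1 hx).1, (mem_nt.1 hx).2⟩⟩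
    simp only [card_nt, card_cj, B.c1, B.c2] at j1 j2
    omega
  have h5 : (MX k).biUnion nt ⊆ X.biUnion fun E => nt (cj (f E) T₁) ∪ nt (cj (f E) T₂) := fun w hw => by
    obtain ⟨W, hW, j1⟩ := mem_biUnion.1 hw
    obtain ⟨c, hc, rfl⟩ := Z.orb' (B.mx Z) (fun e => h0 (eq_bot_iff.2 (e ▸ B.o1))) (mem_MX.1 hW).1
      (h W (mem_MX.1 hW))
    have j2 : cj c D ∈ X := (hX _).2 ⟨c, hc, rfl⟩
    have j3 : (f (cj c D))⁻¹ * c ∈ Nm D := by
      rw [← cj_eq_iff, ← cj_cj, hf' _ j2, cj_cj, ← hf' _ j2, inv_mul_cancel, cj_one]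
    have j4 : Iv k (cj ((f (cj c D))⁻¹ * c) T₁) := by
      have := B.i1.cj ((f (cj c D))⁻¹ * c)
      rcases (mem_Ak Z.ord).1 (mul_mem (inv_mem (hf _ j2)) hc) with e | e <;> rw [e] at this
      exacts [this, by simpa using this.inv]
    have j5 := B.all _ j4 (by rw [← cj_eq_iff.2 (le_Nm _ j3)]; exact cj_mono B.t1)
    have j6 : (f (cj c D))⁻¹ * w * f (cj c D) ∈ cj ((f (cj c D))⁻¹ * c) T₁ :=
      mem_cj.2 (by simpa [mul_assoc] using mem_cj.1 (mem_nt.1 j1).1)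
    exact mem_biUnion.2 ⟨_, j2, mem_union.2 (j5.imp (fun e => mem_nt.2 ⟨mem_cj.2 (e j6), (mem_nt.1 j1).2⟩)
      fun e => mem_nt.2 ⟨mem_cj.2 (e j6), (mem_nt.1 j1).2⟩)⟩
  have h6 := (card_le_card h5).trans (card_biUnion_le_card_mul _ _ _ h4)
  have h7 : X.card * (7 * Nat.card D - 1) ≤ 3 * (7 * Nat.card D - 1) := Nat.mul_le_mul_right _ h3
  rw [WW_eq]
  omega

end Bad0

namespace St

variable {R : Sylow 3 G} {a b : ℕ} {k : G}

theorem bad (T : St R 5 a b) (Z : Gx k) (h8 : (R : Subgroup G).relIndex (Nm R) = 8) (hk : k ∈ (R : Subgroup G))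
    {D T₁ T₂ : Subgroup G} (hD : Iv k D) (h0 : D ≠ ⊥) (hP : IsPGroup 2 D) (B : Bad0 k D D T₁ T₂) : False := by
  have := T.simple
  obtain ⟨ha, h9⟩ := T.h9 h8
  obtain ⟨M, A, eM, hM⟩ := T.adm8 h8 hk Z.cx.ne_one
  have hl := A.lower T.hq (by rw [eM]; positivity)
  rw [eM] at hl
  obtain ⟨d, hd⟩ := hP.exists_card_eq
  have c1 : Nat.card T₁ = 2 ^ (d + 2) := by rw [B.c1, hd]; ring
  have c2 : Nat.card T₂ = 2 ^ (d + 2) := by rw [B.c2, hd]; ring
  have h1 := pow_mod3 (hd ▸ Z.cx.card_mod hD)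
  have h2 : d ≠ 0 := fun e => h0 (eq_bot_of_card_eq _ (by rw [hd, e, pow_zero]))
  have h3 : d ≠ 2 := fun e => B.ne_four Z (by rw [hd, e]; rfl)
  have ty : ∀ {W}, Mx k W → W ≠ ⊥ → ∀ {n}, Nat.card W = 2 ^ n → _ := fun hW h0 _ hn =>
    Z.two_type hW le_rfl hn h0 (fun _ h _ _ => h) (by simp) rfl T.nd2 T.d2
  have n1 : T₁ ≠ ⊥ := fun e => h0 (eq_bot_iff.2 (e ▸ B.o1))
  rcases ty (B.mx Z) n1 c1 with ⟨-, rfl⟩ | ⟨e, -, -, -, rfl | e'⟩
  rotate_left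
  · obtain ⟨e', -⟩ := (ty (B.symm.mx Z) (fun e => h0 (eq_bot_iff.2 (e ▸ B.o2))) c2).resolve_left (by omega)
    have j1 := Nat.mul_le_mul (B.half Z hD e) (B.symm.half Z hD e')
    have j2 := card_mul_le (A := D ⊓ Ce T₁) (B := D ⊓ Ce T₂) inf_le_left inf_le_left
      (eq_bot_iff.2 fun x hx => B.one Z.cx hx.1.1 (mem_Ce.1 hx.1.2) (mem_Ce.1 hx.2.2))
    have j3 : Nat.card D ≤ 2 ^ 4 := by have := card_pos' D; nlinarith
    have j4 := (Nat.pow_le_pow_iff_right one_lt_two).1 (hd ▸ j3)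
    obtain rfl : d = 4 := by omega
    obtain ⟨nq, nS, nH, nV, i0, i1, i2, i3, i4, i5, i6, i7, i8⟩ := T.sum_mx Z h8 hk
    obtain rfl : nq = 0 := by_contra fun e => by have := (i2 (by omega)).2; omega
    obtain rfl : nS = 0 := by omega
    have j5 := WW_le k
    rw [i0] at j5
    have j6 : 5 ^ b < 5 ^ 4 := by omega
    have j7 := (Nat.pow_lt_pow_iff_right (by norm_num)).1 j6
    interval_cases b <;> omega
  · omega
  have h4 : b % 2 = 1 := by_contra fun e => by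
    rw [show d + 2 - 3 = 2 * (d / 2 - 1) + 1 by omega, ← Nat.div_add_mod b 2, show b % 2 = 0 by omega, add_zero,
      pow_succ, pow_mul, pow_mul] at h9
    have : (2 ^ 2) ^ (d / 2 - 1) * 2 * (5 ^ 2) ^ (b / 2) % 3 = 2 := by simp [Nat.mul_mod, Nat.pow_mod]
    omega
  have h5 : ¬ qc (d + 2) 5 b := fun e => by
    have := e.1
    rw [← Nat.div_add_mod b 2, h4, pow_succ, pow_mul] at this
    simp [Nat.mul_mod, Nat.pow_mod] at this
  have hA := card_Ak Z.ord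
  rw [T.C1_card hk Z.cx.ne_one] at hA
  have h6 := B.count Z hD h0 hA fun W hW => by
    have j0 : W ≠ ⊥ := fun e => h0 (eq_bot_iff.2 (e ▸ hW.2 hD (e ▸ bot_le)))
    obtain ⟨n, hn⟩ := ((T.mx_type Z h8 hW j0).resolve_right fun e => h5 e.2).exists_card_eq
    have j1 := pow_mod3 (hn ▸ Z.cx.card_mod hW.1)
    rcases ty hW j0 hn with ⟨-, rfl⟩ | ⟨-, -, -, -, e | ⟨rfl, e⟩⟩
    · exact conj_of_card c1 hn T.nd2
    · omega
    · exact (Z.V_excl hW hn e T.nd2 B.i1 c1).elim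
  have h7 : 2 ^ 4 ≤ 2 ^ d := Nat.pow_le_pow_right two_pos (by omega)
  rw [hd] at h6
  have h10 : 5 ^ b < 5 ^ 4 := by
    by_contra h10
    have : 2 ^ d * 5 ^ 4 ≤ 2 ^ d * 5 ^ b := Nat.mul_le_mul_left _ (by omega)
    rw [pow_add, mul_right_comm] at hl
    omega
  have h11 := (Nat.pow_lt_pow_iff_right (by norm_num)).1 h10
  obtain rfl | rfl : b = 1 ∨ b = 3 := by omega
  · exact T.idx3 (B := Nm D) (by rw [B.cn, hd]; ring)
  obtain ⟨i, rfl⟩ : ∃ i, d = 6 * i + 4 := ⟨d / 6, by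
    rw [show d + 2 - 3 = 6 * (d / 6) + d % 6 - 1 by omega] at h9
    have : d % 6 = 0 ∨ d % 6 = 2 ∨ d % 6 = 4 := by omega
    rcases this with e | e | e
    · rw [show 6 * (d / 6) + d % 6 - 1 = 6 * (d / 6 - 1) + 5 by omega, pow_add, pow_mul] at h9
      simp [Nat.mul_mod, Nat.pow_mod] at h9
    · rw [show 6 * (d / 6) + d % 6 - 1 = 6 * (d / 6) + 1 by omega, pow_add, pow_mul] at h9
      simp [Nat.mul_mod, Nat.pow_mod] at h9
    · omega⟩
  obtain ⟨x, hx, h12⟩ : ∃ x ∈ M, x.1 ≤ 25 := by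
    by_contra h12
    have := A.small fun x hx => by_contra fun e => h12 ⟨x, hx, by omega⟩
    rw [eM, pow_add] at this
    omega
  obtain ⟨χ, h13, h14⟩ := hM x hx
  obtain ⟨K, h15, h16⟩ := index_le_pow (G := D) (fun x y => Subtype.ext (mem_Ce.1 (B.ab Z.cx x.2) _ y.2))
    (e := 2 ^ 2) (by norm_num) (fun x => Subtype.ext (B.pow4 Z x.2)) (isChar_comp D.subtype (ch χ))
  rw [show K = ⊥ from eq_bot_iff.2 fun g hg => by_contra fun e =>
      faithful h13 (fun e' => e (Subtype.ext e')) (h15 g hg),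
    index_bot, hd, charDegree_eq (n := x.1) (h14 ▸ dg_eq χ), ← pow_mul, Nat.pow_le_pow_iff_right one_lt_two] at h16
  refine Adm.bad (i := i) A (by omega) (by rw [eM]; positivity) ?_
  rw [eM]
  exact_mod_cast (by omega)

theorem not8' {q : ℕ} (T : St R q a b) (hb : b ≠ 0 ∨ q = 5) : (R : Subgroup G).relIndex (Nm R) ≠ 8 := fun h8 => by
  obtain ⟨k, hk, ho⟩ := T.exists_k
  have Z := T.gx (T.ord8 h8) hk (ne_one_of_ord ho)
  have hc : Nat.card G ∣ 9 * 2 ^ a * q ^ b := T.card ▸ dvd_rfl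
  have h5 := T.h5
  have h1 : ∀ D, Iv k D → D ≠ ⊥ → IsPGroup 2 D ∨ IsPGroup q D → Good k D := fun D hD h0 hP => by
    rcases hP with hP | hP
    swap
    · exact (Z.local T.hq h5 hc hD h0 (Or.inr rfl) hP).resolve_right (by omega)
    refine (Z.local T.hq h5 hc hD h0 (Or.inl rfl) hP).resolve_right ?_
    rintro ⟨-, rfl, O, T₁, T₂, B⟩
    have hO : Iv k O := B.i1.of_le B.o1 (B.nm hD.nm)
    have h2 : O ≠ ⊥ := fun e => h0 (eq_bot_iff.2 (e ▸ B.le))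
    obtain ⟨W, h3, hW⟩ := hO.exists_mx
    have h4 : IsPGroup 2 O := ((T.mx_type Z h8 hW fun e => h2 (eq_bot_iff.2 (e ▸ h3))).resolve_right fun e =>
      h0 (eq_bot_of_pp Nat.prime_two T.hq (by norm_num) hP (IsPGroup.of_card e.1) (B.le.trans h3))).to_le h3
    rcases Z.local T.hq h5 hc hO h2 (Or.inl rfl) h4 with ⟨O', j1, -, j2⟩ | ⟨-, -, O', T₁', T₂', B'⟩
    · exact j1.nd (B.th.trans (card_dvd_of_le (sup_le (j2 _ B.i1 (B.t1.trans B.nm)) (j2 _ B.i2 (B.t2.trans B.nm)))))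
    · obtain rfl : O' = O := le_antisymm ((B'.ab Z.cx).trans ((centralizer_le (B.le.trans B'.le)).trans B.ce)) B'.le
      exact T.bad Z h8 hk hO h2 h4 B'
  have h2 := WW_ti (Z.ti fun V W hV hW h => h1 _ (hV.1.inf hW.1.nm) h
    ((T.mx_type Z h8 hV fun e => h (by simp [e])).imp (·.to_le inf_le_left) fun e =>
      (IsPGroup.of_card e.1).to_le inf_le_left))
  obtain ⟨nq, nS, nH, nV, i0, i1, i2, i3, i4, i5, i6, i7, i8⟩ := T.sum_mx Z h8 hk
  obtain ⟨ha, h9⟩ := T.h9 h8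
  obtain ⟨M, A, eM, -⟩ := T.adm8 h8 hk Z.cx.ne_one
  obtain ⟨rfl, rfl, rfl⟩ := A.main T.hq h5 hb ha h9 i1 i2 i3 i4 i5 i6 i7 i8 (by rw [eM, h2, i0]; congr 2; omega)
  exact no9792 T

theorem not8 {q : ℕ} (T : St R q a b) : (R : Subgroup G).relIndex (Nm R) ≠ 8 := by
  by_cases hb : b = 0
  · subst hb
    exact not8' (a := a) (b := 0) ⟨T.simple, T.nc, Nat.prime_five, le_rfl, by simpa using T.card, T.sc⟩ (Or.inr rfl)
  · exact T.not8' (Or.inl hb)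

end St

end Cfsg.Agent.SC3
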