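import Cfsg.Agent.SC3.E2c
import Cfsg.Agent.SC3.E4a
import Cfsg.Agent.SC3.E8c
import Cfsg.Agent.S2202
import Cfsg.Agent.SL2.Torus

/-! The three possibilities. -/

set_option autoImplicit false

namespace Cfsg.Agent.SC3

open Subgroup

variable {G : Type*} [Group G] [Finite G]

theorem o504 [IsSimpleGroup G] (hG : ¬ IsMulCommutative G) (hc : Nat.card G = 504)
    (h : ∀ t : G, orderOf t = 2 → IsMulCommutative (C1 t)) : ∃ (F : Type) (_ : Field F) (_ : Fintype F),
      Fintype.card F = 8 ∧ Nonempty (G ≃* Matrix.ProjectiveSpecialLinearGroup (Fin 2) F) := by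
  have P : Sylow 2 G := default
  have hP : (P : Subgroup G) ≠ ⊥ := P.ne_bot_of_dvd_card (by rw [hc]; norm_num)
  rcases Cfsg.Agent.S2202.result (by rw [hc]; norm_num) h with h1 | h1 | ⟨F, _, _, A, _, _, -, h2, ⟨e⟩⟩
  · exact absurd (IsCyclic.normalizer_le_centralizer (by rw [hc]; norm_num) (h1 P)) (transfer hG P hP)
  · exact absurd (normalizer_eq_top_iff.2 (h1 P)) (not_normal hG P.isPGroup' hP)
  have hc' : center G = ⊥ := (inferInstance : (center G).Normal).eq_bot_or_eq_top.resolve_right fun e =>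
    hG ⟨⟨fun a b => mem_center_iff.1 (e.ge (mem_top b)) a⟩⟩
  have h3 : ∀ x, x ∈ center (Matrix.SpecialLinearGroup (Fin 2) F × A) → x = 1 := fun x hx =>
    e.symm.injective ((hc'.le (mem_center_iff.2 fun g => e.injective (by
      simpa using mem_center_iff.1 hx (e g)))).trans (map_one _).symm)
  have h4 : ∀ a : A, a = 1 := fun a => congrArg Prod.snd (h3 (1, a) (mem_center_iff.2 fun g => by
    ext <;> simp [mul_comm]))
  have h5 : center (Matrix.SpecialLinearGroup (Fin 2) F) = ⊥ := eq_bot_iff.2 fun x hx =>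
    congrArg Prod.fst (h3 (x, 1) (mem_center_iff.2 fun g => Prod.ext (mem_center_iff.1 hx _) (mul_comm _ _)))
  have : Unique A := ⟨⟨1⟩, h4⟩
  have e' := e.trans MulEquiv.prodUnique
  refine ⟨F, inferInstance, inferInstance, ?_,
    ⟨e'.trans (QuotientGroup.quotientBot.symm.trans (QuotientGroup.quotientMulEquivOfEq h5.symm))⟩⟩
  have h6 := SL2.card_sl (F := F)
  rw [← Nat.card_congr e'.toEquiv, hc] at h6
  generalize Fintype.card F = n at h6
  have : n < 9 := by
    by_contra h7
    have : 9 * (9 ^ 2 - 1) ≤ n * (n ^ 2 - 1) := Nat.mul_le_mul (by omega) (Nat.sub_le_sub_right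
      (Nat.pow_le_pow_left (by omega) 2) 1)
    omega
  interval_cases n <;> omega

theorem St.three {R : Sylow 3 G} {q a b : ℕ} (T : St R q a b) :
    (Nat.card G = 360 ∧ Nat.card (Nm (R : Subgroup G)) = 36 ∧ ∀ k ∈ (R : Subgroup G), k ^ 3 = 1) ∨
      (∃ (F : Type) (_ : Field F) (_ : Fintype F), Fintype.card F = 8 ∧
        Nonempty (G ≃* Matrix.ProjectiveSpecialLinearGroup (Fin 2) F)) ∨ Nat.card G = 2448 := by
  have := T.simple
  rcases T.cases with e | e | e
  · obtain ⟨ψ, δ, X, E⟩ := T.ex e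
    exact Or.inr ((T.order2 E).symm.imp_left fun h => o504 T.nc h.1 h.2)
  · refine Or.inl ⟨T.card4 e, by rw [← card_mul_relIndex (le_Nm _), e, T.card_R], fun k hk => ?_⟩
    by_cases h : k = 1
    · rw [h, one_pow]
    · rw [← T.ord4 e k hk h, pow_orderOf_eq_one]
  · exact absurd e T.not8

end Cfsg.Agent.SC3
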