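import Cfsg.Agent.SC3.E8a
import Cfsg.Agent.Tw.A8

/-! Recognition of the alternating group of degree six. -/

set_option autoImplicit false

namespace Cfsg.Agent.SC3

open Subgroup

/-- the ten points -/
abbrev Pt := Option (ZMod 3 × ZMod 3)

/-- rotation -/
def rot : Pt → Pt := Option.map fun u => (-u.2, u.1)

/-- translation -/
def trl (v : ZMod 3 × ZMod 3) : Pt → Pt := Option.map fun u => v + u

/-- candidates for the last generator -/
def tab (f : Pt → Pt) (x y : Pt) (i : Pt) : Pt :=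
  if i = none then some 0 else if i = some 0 then none else
  if i = some (1, 0) then x else if i = rot (some (1, 0)) then f x else
  if i = rot (rot (some (1, 0))) then f (f x) else if i = rot (rot (rot (some (1, 0)))) then f (f (f x)) else
  if i = some (1, 1) then y else if i = rot (some (1, 1)) then f y else
  if i = rot (rot (some (1, 1))) then f (f y) else f (f (f y))

/-- the generators -/
def gens (σ : Pt → Pt) (n : ℕ) : Pt → Pt :=
  if n = 0 then trl (1, 0) else if n = 1 then trl (0, 1) else if n = 2 then rot else σ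

/-- evaluation of words -/
def evP (σ : Pt → Pt) (w : List ℕ) (i : Pt) : Pt := w.foldr (gens σ) i

/-- words excluding candidates -/
def badW : List (List ℕ) := [[3, 3], [0, 2, 3, 0, 3, 1, 3], [0, 3, 1, 3, 0, 0, 3], [0, 0, 3, 1, 3, 0, 3],
  [0, 0, 3, 0, 2, 3, 1, 3], [0, 3, 0, 1, 1, 3, 1, 3], [0, 0, 3, 0, 1, 2, 3, 1, 3], [0, 3, 0, 1, 3, 0, 0, 3],
  [0, 2, 3, 0, 1, 3, 1, 1, 3], [1, 3, 0, 1, 3, 1, 1, 3], [0, 3, 0, 1, 3, 1, 1, 3], [0, 3, 0, 3, 0, 3],
  [1, 1, 3, 0, 1, 3, 1, 3], [1, 3, 0, 1, 2, 3, 0, 3], [0, 0, 3, 0, 1, 3, 1, 3], [0, 2, 3, 0, 1, 3, 0, 3],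
  [0, 0, 3, 0, 1, 3, 0, 3], [0, 3, 0, 1, 3, 0, 2, 3], [0, 0, 3, 1, 3, 2, 1, 3], [0, 3, 1, 2, 3, 1, 3],
  [1, 3, 1, 3, 1, 3], [2, 3, 3]]

/-- words for the generators of the alternating group -/
def goodW : List (List (List ℕ)) := [[[0, 0], [1, 3, 1, 3, 0], [3, 1, 3, 0, 1], [0, 1, 3, 1, 1, 3, 1]],
  [[0], [3, 0, 1, 2, 3], [1, 3, 1, 3, 0, 0], [3, 1, 3, 0, 0, 1]],
  [[0, 0], [3, 0, 1, 2, 3], [0, 1, 3, 1, 1, 3], [0, 3, 1, 1, 3, 1]],
  [[0, 0], [0, 1, 1, 3, 1, 3], [0, 1, 3, 1, 3, 1], [0, 3, 1, 3, 1, 1]],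
  [[0], [2, 1, 3], [1, 1, 2, 1, 3, 1], [1, 2, 1, 3, 1, 1]], [[0, 0], [0, 3, 2], [0, 1, 3, 0, 2], [0, 1, 1, 3, 2, 1]],
  [[0], [3, 0, 3], [1, 1, 3, 0, 3, 1], [1, 3, 0, 3, 1, 1]], [[0], [3, 0, 1, 3], [1, 2, 1, 3, 0, 3], [2, 1, 3, 0, 3, 1]],
  [[0, 1], [3, 1, 1, 3], [0, 3, 1, 3, 1], [1, 3, 1, 3, 0]], [[0, 0], [0, 3], [0, 1, 1, 3, 1], [0, 1, 3, 1, 1]],
  [[1], [3, 0, 1, 3], [0, 3, 1, 3, 0, 2], [3, 1, 3, 0, 1, 2]], [[0, 1], [3, 0, 0, 3], [0, 3, 0, 3, 1], [1, 3, 0, 3, 0]]]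

/-- the check -/
def okP (σ : Pt → Pt) : Prop := (∃ i j, i ≠ j ∧ σ i = σ j) ∨
  (∃ w ∈ badW, evP σ w none = none ∧ evP σ w (some 0) = some 0 ∧ (∃ u, u ≠ 0 ∧ evP σ w (some u) = some u) ∧
    ∃ i, evP σ w i ≠ i) ∨ ∃ l ∈ goodW, (∃ i, evP σ (l.getD 0 []) i ≠ i) ∧ ∀ m : Fin 6, m ≠ 4 → m ≠ 5 →
      (∀ i, evP σ (l.getD m [] ++ (l.getD m [] ++ l.getD m [])) i = i) ∧ ∀ n : Fin 6, n ≠ 4 → n ≠ 5 → m ≠ n →
        ∀ i, evP σ (l.getD m [] ++ l.getD n [] ++ (l.getD m [] ++ l.getD n [])) i = i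

set_option synthInstance.maxSize 4000 in
instance (σ : Pt → Pt) : Decidable (okP σ) := by unfold okP; infer_instance

theorem ok_all : ∀ x y, okP (tab rot x y) ∧ okP (tab (fun i => rot (rot (rot i))) x y) := by decide +kernel

set_option synthInstance.maxSize 4000 in
theorem eq_tab {σ f : Pt → Pt} (h0 : σ none = some 0) (h1 : σ (some 0) = none) (h : ∀ i, σ (rot i) = f (σ i)) :
    σ = tab f (σ (some (1, 0))) (σ (some (1, 1))) := by
  funext i
  unfold tab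
  split_ifs with e1 e2 e3 e4 e5 e6 e7 e8 e9
  iterate 9 simp only [*]
  rw [show i = rot (rot (rot (some (1, 1)))) by revert i; decide, h, h, h]

variable {G : Type*} [Group G] [Finite G]

omit [Finite G] in
theorem pw3 {x : G} (h : x ^ 3 = 1) (a b : ZMod 3) : x ^ (a + b).val = x ^ a.val * x ^ b.val := by
  rw [ZMod.val_add, ← pow_add, ← pow_eq_pow_mod _ h]

omit [Finite G] in
theorem SC.inv_of {R : Subgroup G} (h : SC R) {t : G} (ht : t ∈ Nm R) (h3 : t * t = 1) (h4 : t ∉ R) {x : G}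
    (hx : x ∈ R) : t * x * t⁻¹ = x⁻¹ := eq_inv_of_mul_eq_one_right (by_contra fun e => h4 (by
  refine h.mem (mul_mem hx (Nm_conj ht hx)) e ?_
  calc x * (t * x * t⁻¹) * t = (t * t) * x * (t * t)⁻¹ * (t * x * t⁻¹) * t := by rw [h3]; group
    _ = t * (t * x * t⁻¹ * x) := by group
    _ = _ := by rw [(h.comm hx (Nm_conj ht hx)).eq]))

theorem o360 [IsSimpleGroup G] (hc : Nat.card G = 360) (R : Sylow 3 G) (h : SC (R : Subgroup G))
    (hR : Nat.card (R : Subgroup G) = 9) (hN : Nat.card (Nm (R : Subgroup G)) = 36)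
    (h3 : ∀ k ∈ (R : Subgroup G), k ^ 3 = 1) : Nonempty (G ≃* alternatingGroup (Fin 6)) := by
  classical
  have hΩ : Nat.card (Sylow 3 G) = 10 := by
    have := (Nm (R : Subgroup G)).card_mul_index
    rw [hN, hc] at this
    rw [R.card_eq_index_normalizer]
    change (Nm (R : Subgroup G)).index = 10
    omega
  have := Finite.one_lt_card_iff_nontrivial.1 (hΩ ▸ (by norm_num : 1 < 10))
  obtain ⟨Q, hQ⟩ := exists_ne R
  have hs : ∀ (g : G) (P : Sylow 3 G), g • P = P ↔ g ∈ Nm (P : Subgroup G) := fun _ _ =>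
    Sylow.smul_eq_iff_mem_normalizer
  have h1 : ∀ x ∈ (R : Subgroup G), x • Q = Q → x = 1 := fun x hx e => by_contra fun e' => hQ (h.fix hx e' e)
  have h2 : Nat.card (Nm (R : Subgroup G) ⊓ Nm (Q : Subgroup G) : Subgroup G) = 4 := by
    have i1 := card_mul_le (A := R) (B := Nm (R : Subgroup G) ⊓ Nm (Q : Subgroup G)) (le_Nm _) inf_le_left
      (eq_bot_iff.2 fun x hx => h1 x hx.1 ((hs x Q).2 hx.2.2))
    have i2 := card_mul_relIndex (inf_le_left : Nm (R : Subgroup G) ⊓ Nm (Q : Subgroup G) ≤ _)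
    have i3 : (Nm (R : Subgroup G) ⊓ Nm (Q : Subgroup G)).relIndex (Nm (R : Subgroup G)) ≤ 9 := by
      rw [inf_relIndex_left, relIndex, show (Nm (Q : Subgroup G)).subgroupOf (Nm (R : Subgroup G)) =
        MulAction.stabilizer _ Q from Subgroup.ext fun g => (hs g Q).symm, MulAction.index_stabilizer]
      have := Set.ncard_lt_card (s := MulAction.orbit (Nm (R : Subgroup G)) Q) fun e => by
        obtain ⟨g, hg⟩ : R ∈ MulAction.orbit (Nm (R : Subgroup G)) Q := e ▸ Set.mem_univ _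
        exact hQ (smul_left_cancel (g : G) (hg.trans ((hs g R).2 g.2).symm))
      omega
    rw [hN] at i1 i2
    rw [hR] at i1
    nlinarith
  set H := Nm (R : Subgroup G) ⊓ Nm (Q : Subgroup G)
  obtain ⟨k, hk, ho⟩ := exists_ord (U := (R : Subgroup G)) Nat.prime_three (by rw [hR]; norm_num)
  have k1 := ne_one_of_ord ho
  have h4 : ∀ t ∈ H, t * t = 1 → t ≠ 1 → ∀ x ∈ (R : Subgroup G), t * x * t⁻¹ = x⁻¹ := fun t ht i1 i2 x hx =>
    h.inv_of ht.1 i1 (fun e => i2 (h1 t e ((hs t Q).2 ht.2))) hx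
  have h5 : ∀ t ∈ H, t * k * t⁻¹ = k → t = 1 := fun t ht e =>
    h1 t (h.mem hk k1 (mul_inv_eq_iff_eq_mul.1 e).symm) ((hs t Q).2 ht.2)
  obtain ⟨s, hs1, hs2⟩ : ∃ s ∈ H, s * s ≠ 1 := by
    by_contra e
    push Not at e
    obtain ⟨t, ht, u, hu, i1⟩ := Finset.one_lt_card.1 (show 1 < (nt H).card by rw [card_nt, h2]; norm_num)
    rw [mem_nt] at ht hu
    refine i1 (inv_mul_eq_one.1 (h5 _ (mul_mem (inv_mem ht.1) hu.1) ?_))
    calc _ = t⁻¹ * (u * k * u⁻¹) * t := by group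
      _ = _ := by rw [h4 u hu.1 (e u hu.1) hu.2 k hk, ← h4 t ht.1 (e t ht.1) ht.2 k hk]; group
  have hs3 : s ^ 4 = 1 := by rw [← h2]; exact congrArg Subtype.val (pow_card_eq_one' (x := (⟨s, hs1⟩ : H)))
  have hs4 : s * (s * k * s⁻¹) * s⁻¹ = k⁻¹ := by
    rw [← h4 (s * s) (mul_mem hs1 hs1) (by rw [← hs3]; simp [pow_succ, mul_assoc]) hs2 k hk]; group
  have hs5 : zpowers s = H := eq_of_card_le (zpowers_le.2 hs1) (by
    rw [h2, Nat.card_zpowers, orderOf_eq_prime_pow (p := 2) (n := 1) (by simpa [sq] using hs2) hs3]; rfl)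
  have hk' := Nm_conj hs1.1 hk
  have hk3 := h3 k hk
  have hk3' := h3 _ hk'
  let r : ZMod 3 × ZMod 3 → G := fun u => k ^ u.1.val * (s * k * s⁻¹) ^ u.2.val
  have r0 : ∀ u, r u ∈ (R : Subgroup G) := fun u => mul_mem (pow_mem hk _) (pow_mem hk' _)
  have r1 : ∀ u v, r (u + v) = r u * r v := fun u v => by
    simp only [r, Prod.fst_add, Prod.snd_add, pw3 hk3, pw3 hk3']
    exact ((h.comm hk hk').pow_pow _ _).mul_mul_mul_comm _ _
  have r2 : r 0 = 1 := by simp [r]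
  have r3 : ∀ u, s * r u * s⁻¹ = r (-u.2, u.1) := fun u => by
    have : k ^ (-u.2).val = k⁻¹ ^ u.2.val := by
      rw [inv_pow, eq_inv_iff_mul_eq_one, ← pw3 hk3]; simp
    simp only [r]
    rw [this, ← hs4, ← ((h.comm hk' (Nm_conj hs1.1 hk')).pow_pow _ _).eq, ← conj_mul, ← conj_pow, ← conj_pow]
  have r4 : ∀ u, r u = 1 → u = 0 := fun u e => by
    have e' : r (-u.2, u.1) = 1 := by rw [← r3, e]; group
    by_contra e0
    obtain ⟨i, j, hij⟩ := (by decide : ∀ u : ZMod 3 × ZMod 3, u ≠ 0 → ∃ i j : Fin 3,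
      i.1 • u + j.1 • (-u.2, u.1) = (1, 0)) u e0
    have i1 : ∀ v, r v = 1 → ∀ n : ℕ, r (n • v) = 1 := fun v e n => by
      induction n with
      | zero => rw [zero_smul, r2]
      | succ n ih => rw [succ_nsmul, r1, ih, e, one_mul]
    have := congrArg r hij
    rw [r1, i1 u e, i1 _ e', one_mul] at this
    exact k1 (by simpa [r, ZMod.val_one] using this.symm)
  clear_value r
  let P : Pt → Sylow 3 G := fun i => i.elim R fun u => r u • Q
  have p0 : P (some 0) = Q := by simp [P, r2]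
  have p1 : Function.Injective P := by
    have i1 : ∀ u, r u • Q ≠ R := fun u e => hQ (smul_left_cancel (r u) (e.trans ((hs _ R).2 (le_Nm _ (r0 u))).symm))
    rintro (_ | u) (_ | v) e
    · rfl
    · exact absurd e.symm (i1 v)
    · exact absurd e (i1 u)
    · have : r (-v + u) • Q = Q := by
        rw [r1, mul_smul, show r u • Q = r v • Q from e, ← mul_smul, ← r1, neg_add_cancel, r2, one_smul]
      rw [neg_add_eq_zero.1 (r4 _ (h1 _ (r0 _) this))]
  have p2 := ((Nat.bijective_iff_injective_and_card P).2 ⟨p1, by rw [hΩ]; simp⟩).2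
  have p3 : ∀ g : G, (∀ i, g • P i = P i) → g = 1 := fun g hg => by
    refine ((MonoidHom.normal_ker (MulAction.toPermHom G (Sylow 3 G))).eq_bot_or_eq_top.resolve_right fun e =>
      k1 (h1 k hk (congrArg (· Q) (e.ge (mem_top k))))).le (Equiv.ext fun X => ?_)
    obtain ⟨i, rfl⟩ := p2 X
    exact hg i
  obtain ⟨w, w1, w2⟩ : ∃ w : G, w • R = Q ∧ w • Q = R := by
    obtain ⟨g, hg⟩ := MulAction.exists_smul_eq G Q R
    obtain ⟨_ | u, e⟩ := p2 (g • R)
    · exact absurd (smul_left_cancel g (hg.trans e)) hQ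
    · exact ⟨(r u)⁻¹ * g, by rw [mul_smul, ← e]; exact inv_smul_smul _ _,
        by rw [mul_smul, hg, (hs _ R).2 (le_Nm _ (inv_mem (r0 u)))]⟩
  choose σ hσ using fun i => p2 (w • P i)
  have a1 : ∀ v i, r v • P i = P (trl v i) := by
    rintro v (_ | u)
    · exact (hs _ R).2 (le_Nm _ (r0 v))
    · exact (mul_smul _ _ _).symm.trans (by rw [← r1]; rfl)
  have a2 : ∀ i, s • P i = P (rot i) := by
    rintro (_ | u)
    · exact (hs _ R).2 hs1.1
    · change s • r u • Q = r (-u.2, u.1) • Q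
      rw [← r3, mul_smul, mul_smul, (hs _ Q).2 (inv_mem hs1.2)]
  let g : ℕ → G := fun n => if n = 0 then r (1, 0) else if n = 1 then r (0, 1) else if n = 2 then s else w
  have a3 : ∀ l : List ℕ, ∀ i, (l.map g).prod • P i = P (evP σ l i) := fun l i => by
    induction l with
    | nil => simp [evP]
    | cons n l ih =>
      rw [List.map_cons, List.prod_cons, mul_smul, ih, evP, evP, List.foldr_cons]
      simp only [g, gens]
      split_ifs
      exacts [a1 _ _, a1 _ _, a2 _, (hσ _).symm]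
  have s0 : σ none = some 0 := p1 ((hσ _).trans (w1.trans p0.symm))
  have s1 : σ (some 0) = none := p1 ((hσ _).trans (p0 ▸ w2))
  have hok : okP σ := by
    have i1 : w * s * w⁻¹ ∈ zpowers s := hs5.ge ⟨(hs _ R).1 (by
      rw [mul_smul, mul_smul, inv_smul_eq_iff.2 w2.symm, (hs _ Q).2 hs1.2, w2]), (hs _ Q).1 (by
        rw [mul_smul, mul_smul, inv_smul_eq_iff.2 w1.symm, (hs _ R).2 hs1.1, w1])⟩
    have i2 : ∀ i, P (σ (rot i)) = (w * s * w⁻¹) • P (σ i) := fun i => by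
      rw [hσ, hσ, ← a2, ← mul_smul, ← mul_smul, inv_mul_cancel_right]
    obtain ⟨n, hn⟩ := (mem_powers_iff_mem_zpowers.2 i1)
    simp only at hn
    rw [pow_eq_pow_mod n hs3] at hn
    have i3 : (w * s * w⁻¹) ^ 2 ≠ 1 := by simpa [sq] using hs2
    have i4 := Nat.mod_lt n four_pos
    generalize n % 4 = m at hn i4
    rw [← hn] at i2 i3
    interval_cases m
    · simp at i3
    · rw [eq_tab s0 s1 fun i => p1 (by rw [i2, pow_one, a2])]
      exact (ok_all _ _).1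
    · exact absurd (by rw [← pow_mul, hs3]) i3
    · rw [eq_tab (f := fun i => rot (rot (rot i))) s0 s1 fun i => p1 (by
        rw [i2, pow_three, mul_smul, mul_smul, a2, a2, a2])]
      exact (ok_all _ _).2
  rcases hok with ⟨i, j, e, e'⟩ | ⟨l, -, e1, e2, ⟨u, e3, e4⟩, i, e5⟩ | ⟨l, -, ⟨i, e1⟩, e2⟩
  · exact absurd (p1 (smul_left_cancel w ((hσ i).symm.trans (e' ▸ hσ j)))) e
  · have i1 := a3 l none
    have i2 := a3 l (some 0)
    have i3 := a3 l (some u)
    rw [e1] at i1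
    rw [e2, p0] at i2
    rw [e4] at i3
    have i4 := (hs _ R).1 i1
    have i5 : (l.map g).prod * r u * ((l.map g).prod)⁻¹ = r u := inv_mul_eq_one.1 (h1 _ (mul_mem (inv_mem
      (Nm_conj i4 (r0 u))) (r0 u)) (by
        rw [mul_smul, inv_smul_eq_iff, mul_smul, mul_smul, inv_smul_eq_iff.2 i2.symm]; exact i3.symm))
    have i6 := h1 _ (h.mem (r0 u) (fun e => e3 (r4 u e)) (mul_inv_eq_iff_eq_mul.1 i5).symm) i2
    exact absurd (p1 ((a3 l i).symm.trans (by rw [i6, one_smul]))) e5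
  obtain ⟨φ, hφ⟩ := Tw.exists_fromAlt (u := (4 : Fin 6)) (v := 5) (by decide) (fun m => ((l.getD m []).map g).prod)
    (fun m i1 i2 => p3 _ fun i => by
      have := a3 (l.getD m [] ++ (l.getD m [] ++ l.getD m [])) i
      rw [(e2 m i1 i2).1 i] at this
      simpa [pow_three] using this)
    fun m n i1 i2 i3 i4 i5 => p3 _ fun i => by
      have := a3 (l.getD m [] ++ l.getD n [] ++ (l.getD m [] ++ l.getD n [])) i
      rw [(e2 m i1 i2).2 n i3 i4 i5 i] at this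
      simpa [sq, mul_assoc] using this
  have : IsSimpleGroup (alternatingGroup (Fin 6)) := alternatingGroup.isSimpleGroup (by simp)
  have i1 := Tw.inj_of_simple φ (hφ 0 (by decide) (by decide)) fun e =>
    e1 (p1 ((a3 _ i).symm.trans ((congrArg (· • P i) e).trans (one_smul _ _))))
  exact ⟨(MulEquiv.ofBijective φ ((Nat.bijective_iff_injective_and_card φ).2 ⟨i1, by
    rw [hc, nat_card_alternatingGroup]; simp [Nat.factorial]⟩)).symm⟩

end Cfsg.Agent.SC3
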