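import Cfsg.Agent.SC3.E2a

/-! Automizer of order two: degrees and involutions. -/

set_option autoImplicit false

namespace Cfsg.Agent.SC3

open Subgroup Finset Cfsg.Agent.CharLib
open scoped ComplexConjugate

theorem geom_odd {z : ℤ} (hz : Odd z) (m : ℕ) : Odd (∑ i ∈ range (2 * m + 1), z ^ i) := by
  induction m with
  | zero => simp
  | succ m ih =>
    rw [show 2 * (m + 1) + 1 = 2 * m + 1 + 1 + 1 by ring, sum_range_succ, sum_range_succ, add_assoc]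
    exact ih.add_even (hz.pow.add_odd hz.pow)

theorem catalan {q x y : ℕ} (hq : q.Prime) (h5 : 5 ≤ q) (h : q ^ y = 2 ^ x + 1 ∨ q ^ y + 1 = 2 ^ x)
    (hy : y ≠ 0) : y = 1 := by
  have ho : Odd q := hq.odd_of_ne_two (by omega)
  have h1 : ∀ z : ℤ, Odd z → ∀ m, z ^ (2 * m + 1) - 1 ∣ 2 ^ x → z ^ (2 * m + 1) - 1 ∣ z - 1 := fun z hz m h => by
    rw [← mul_geom_sum] at h ⊢
    exact (IsUnit.mul_right_dvd <| ((Int.isCoprime_two_right.2 (geom_odd hz m)).pow_right (n := x)).isUnit_of_dvd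
      ((dvd_mul_left _ _).trans h)).2 dvd_rfl
  rcases Nat.even_or_odd' y with ⟨m, rfl | rfl⟩
  · exfalso
    have h2 : q % 2 = 1 := Nat.odd_iff.1 ho
    have h3 : q % 3 ≠ 0 := fun e => by
      have := (Nat.prime_dvd_prime_iff_eq Nat.prime_three hq).1 (Nat.dvd_of_mod_eq_zero e); omega
    have h4 : q ^ 2 % 12 = 1 := by
      have : q % 12 = 1 ∨ q % 12 = 5 ∨ q % 12 = 7 ∨ q % 12 = 11 := by omega
      rcases this with e | e | e | e <;> simp [Nat.pow_mod, e]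
    have h6 : q ^ (2 * m) % 12 = 1 := by rw [pow_mul, Nat.pow_mod, h4, one_pow]; rfl
    have h7 := Nat.le_self_pow hy q
    rcases h with e | e
    · have := Nat.prime_three.dvd_of_dvd_pow (show 3 ∣ 2 ^ x by omega)
      omega
    · rcases x with _ | _ | x
      · omega
      · omega
      · rw [pow_succ, pow_succ] at e
        omega
  by_contra h2
  have h3 : q ^ 1 < q ^ (2 * m + 1) := Nat.pow_lt_pow_right hq.one_lt (by omega)
  have h4 : (q : ℤ) < q ^ (2 * m + 1) := by exact_mod_cast (by simpa using h3)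
  rcases h with e | e
  · have := Int.le_of_dvd (by omega) (h1 q (by exact_mod_cast ho) m (by
      rw [show (q : ℤ) ^ (2 * m + 1) - 1 = 2 ^ x by have := congrArg (Nat.cast (R := ℤ)) e; push_cast at this; omega]))
    omega
  · have := h1 (-q) (Odd.neg (by exact_mod_cast ho)) m (by
      rw [(odd_two_mul_add_one m).neg_pow, show -(q : ℤ) ^ (2 * m + 1) - 1 = -2 ^ x by
        have := congrArg (Nat.cast (R := ℤ)) e; push_cast at this; omega, neg_dvd])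
    rw [(odd_two_mul_add_one m).neg_pow, ← neg_dvd, ← dvd_neg] at this
    have := Int.le_of_dvd (by omega) this
    omega

theorem sq_aux {a x c : ℕ} {D : ℤ} (h : x ≤ a) (h0 : 0 < D) (h1 : D < 2 * 2 ^ x)
    (e : ((2 ^ a * c) ^ 2 * 2 ^ x : ℕ) = 2 ^ a * D ^ 2) : a = x ∧ c = 1 ∧ D = 2 ^ x := by
  obtain ⟨n, rfl⟩ := Nat.exists_eq_add_of_le h
  have h2 : D ^ 2 = (2 ^ x) ^ 2 * (2 ^ n * c ^ 2) :=
    mul_left_cancel₀ (show (2 : ℤ) ^ (x + n) ≠ 0 by positivity) (by rw [← e]; push_cast; ring)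
  obtain ⟨d, rfl⟩ := (Int.pow_dvd_pow_iff two_ne_zero).1 (Dvd.intro _ h2.symm)
  have h3 : (0 : ℤ) < 2 ^ x := by positivity
  obtain rfl : d = 1 := by
    have : 0 < d := pos_of_mul_pos_right h0 h3.le
    have : d < 2 := by nlinarith
    omega
  have h4 : 2 ^ n * c ^ 2 = 1 := by
    have : (1 : ℤ) = 2 ^ n * c ^ 2 := mul_left_cancel₀ (show ((2 : ℤ) ^ x) ^ 2 ≠ 0 by positivity) (by rw [← h2]; ring)
    exact_mod_cast this.symm
  have h5 := Nat.eq_one_of_mul_eq_one_right h4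
  have h6 := Nat.eq_one_of_mul_eq_one_left h4
  simp at h5 h6
  simp [h5, h6]

variable {G : Type*} [Group G] [Finite G]

namespace St

variable {R : Sylow 3 G} {q a b : ℕ} (T : St R q a b)
include T

theorem b_one {θ : IrrCharacter G} (h : θ ≠ triv G) (hd : dg θ = q) : b = 1 := by
  have := T.simple
  have := Fact.mk T.hq
  obtain ⟨Q, hQ⟩ := Sylow.exists_subgroup_card_pow_prime q T.dq
  obtain ⟨Q, rfl⟩ := exists_sylow_eq hQ T.ndq
  have := Fintype.ofFinite (Q : Subgroup G)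
  have hb : b ≠ 0 := fun e => T.ndq (by simpa [e, hd] using dg_dvd θ)
  have h1 : ∀ z ∈ Ce (Q : Subgroup G), (C1 z).index.Coprime (dg θ) := fun z hz => hd ▸
    (T.hq.coprime_iff_not_dvd.2 fun e => Q.not_dvd_index (e.trans (index_dvd_of_le fun x hx =>
      mem_C1.2 (mem_Ce.1 hz x hx)))).symm
  obtain ⟨z, hz, h2⟩ := exists_central Q.isPGroup' fun e => by
    rw [e, card_bot] at hQ
    exact (Nat.one_lt_pow hb T.hq.one_lt).ne hQ
  have h3 : (Q : Subgroup G) ≤ Ce Q := fun x hx => mem_Ce.2 fun y hy => by_contra fun e =>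
    faithful h (fun e' => e (mul_inv_eq_one.1 e')) (comm_ker T.hq Q.isPGroup' (isChar_comp (Q : Subgroup G).subtype
      (ch θ)) (hd ▸ dg_eq θ) (z := ⟨z, hz.1⟩) (mem_center_iff.2 fun g => Subtype.ext (mem_Ce.1 hz.2 g g.2).symm)
        (vanish T.nc h _ h1 hz.2 h2) ⟨x, hx⟩ ⟨y, hy⟩)
  obtain ⟨n, hn⟩ := sum_sub (ch θ) (Q : Subgroup G)
  rw [sum_nt, sum_eq_zero fun x hx => vanish T.nc h _ h1 (h3 (mem_nt.1 hx).1) (mem_nt.1 hx).2, add_zero, dg_eq,
    hd, hQ] at hn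
  have h4 : q ^ b ∣ q ^ 1 := ⟨n, by exact_mod_cast (pow_one (q : ℂ)).trans hn⟩
  have := (Nat.pow_dvd_pow_iff_le_right T.hq.one_lt).1 h4
  omega

theorem nconj {g : G} {n : ℕ} (h : g ^ 2 ^ n = 1) (x : G) (hx : x ∈ (R : Subgroup G)) (h1 : x ≠ 1) :
    ¬ IsConj g x := fun e => h1 (by
  obtain ⟨c, rfl⟩ := isConj_iff.1 e
  have i1 := T.card_R ▸ Subgroup.orderOf_dvd_natCard _ hx
  have i2 := orderOf_dvd_of_pow_eq_one h
  rw [← orderOf_conj c] at i2
  exact orderOf_eq_one_iff.1 (Nat.eq_one_of_dvd_coprimes (Nat.Coprime.pow 2 n (by norm_num : Nat.Coprime 3 2)) i1 i2))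

theorem mod9 {η : IrrCharacter G} {c : ℤ} (h : ∀ x ∈ (R : Subgroup G), x ≠ 1 → (η : G → ℂ) x = c) :
    9 ∣ (dg η : ℤ) - c := by
  have := Fintype.ofFinite (R : Subgroup G)
  obtain ⟨n, hn⟩ := sum_sub (ch η) (R : Subgroup G)
  rw [sum_nt, sum_congr rfl fun x hx => h x (mem_nt.1 hx).1 (mem_nt.1 hx).2, sum_const, card_nt, T.card_R,
    dg_eq, nsmul_eq_mul] at hn
  have : (dg η : ℤ) + (9 - 1 : ℕ) * c = (9 : ℕ) * n := by exact_mod_cast hn
  omega

variable {ψ : IrrCharacter G} {δ : ℤ} {X : Finset (IrrCharacter G)} (E : Ex (R : Subgroup G) ψ δ X)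
include E

omit T [Finite G] in
theorem dX {χ : IrrCharacter G} (h : χ ∈ X) : (dg χ : ℤ) = dg ψ + δ := by
  have := E.vX χ h 1 fun x _ e e' => e (isConj_one_right.1 e')
  rw [dg_eq, dg_eq] at this
  exact_mod_cast this

omit T in
theorem split_sum {M : Type*} [AddCommMonoid M] (f : IrrCharacter G → M) : ∃ Y : Finset (IrrCharacter G),
    (∀ η ∈ Y, η ≠ triv G ∧ η ≠ ψ ∧ η ∉ X) ∧ ∑ η, f η = f (triv G) + f ψ + ∑ η ∈ X, f η + ∑ η ∈ Y, f η := by
  classical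
  refine ⟨univ \ insert (triv G) (insert ψ X), fun η h => by simpa using h, ?_⟩
  rw [← sum_sdiff (subset_univ (insert (triv G) (insert ψ X))), sum_insert (by simp [E.ne.symm, E.tX]),
    sum_insert E.nX, add_comm, ← add_assoc]

theorem degs {χ : IrrCharacter G} (h : χ ∈ X) : b = 1 ∧ ∃ x ≤ a,
    (dg ψ = 2 ^ x ∧ dg χ = q) ∨ (dg ψ = q ∧ dg χ = 2 ^ x) := by
  have := T.simple
  have h1 := T.mod9 E.vψ
  have h2 := dX E h
  have h3 := E.hδ
  have hχ : χ ≠ triv G := fun e => E.tX (e ▸ h)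
  have h4 : ∀ η : IrrCharacter G, ¬ 3 ∣ dg η → ∃ i ≤ a, ∃ j, dg η = 2 ^ i * q ^ j := fun η e => by
    obtain ⟨u, v, hu, hv, e⟩ := (Nat.dvd_mul).1 (T.dvd_of_nd (dg_dvd η) e)
    obtain ⟨i, hi, rfl⟩ := (Nat.dvd_prime_pow Nat.prime_two).1 hu
    obtain ⟨j, -, rfl⟩ := (Nat.dvd_prime_pow T.hq).1 hv
    exact ⟨i, hi, j, e.symm⟩
  obtain ⟨i, hi, j, e⟩ := h4 ψ (by omega)
  obtain ⟨i', hi', j', e'⟩ := h4 χ (by omega)
  have h5 := one_lt_dg T.nc E.ne
  have h6 := one_lt_dg T.nc hχ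
  have h7 : ∀ p, 1 < p → p ∣ dg ψ → ¬ p ∣ dg χ := fun p i0 i1 i2 => by
    have := dvd_sub (Int.natCast_dvd_natCast.2 i2) (Int.natCast_dvd_natCast.2 i1)
    rw [h2, add_sub_cancel_left] at this
    have := Int.isUnit_iff.1 (isUnit_of_dvd_unit this (Int.isUnit_iff.2 h3))
    omega
  have h8 : i = 0 ∨ i' = 0 := by
    by_contra h8
    exact h7 2 one_lt_two (e ▸ (dvd_pow_self 2 (by omega)).mul_right _) (e' ▸ (dvd_pow_self 2 (by omega)).mul_right _)
  have h9 : j = 0 ∨ j' = 0 := by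
    by_contra h8
    exact h7 q T.hq.one_lt (e ▸ (dvd_pow_self q (by omega)).mul_left _) (e' ▸ (dvd_pow_self q (by omega)).mul_left _)
  rcases h8 with rfl | rfl <;> rcases h9 with rfl | rfl <;> simp only [pow_zero, one_mul, mul_one] at e e'
  · omega
  · obtain rfl := catalan (x := i') (y := j) T.hq T.h5 (by omega) (by rintro rfl; simp at e; omega)
    exact ⟨T.b_one E.ne (e.trans (pow_one q)), i', hi', Or.inr ⟨e.trans (pow_one q), e'⟩⟩
  · obtain rfl := catalan (x := i) (y := j') T.hq T.h5 (by omega) (by rintro rfl; simp at e'; omega)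
    exact ⟨T.b_one hχ (e'.trans (pow_one q)), i, hi, Or.inl ⟨e, e'.trans (pow_one q)⟩⟩
  · omega

theorem pairs [Fintype G] {χ : IrrCharacter G} (h : χ ∈ X) {t k : G} (ht : t * t = 1) (hk : k ∈ (R : Subgroup G))
    (h1 : k ≠ 1) {s : ℤ} (hs : (ψ : G → ℂ) t = s) :
    (nF t t k * Nat.card (C1 t) ^ 2 * (dg ψ * dg χ) : ℤ) = Nat.card G * (dg ψ - s) ^ 2 := by
  have h2 := frob t t k
  have h3 := sum_degree_mul k⁻¹
  have h4 : ((C1 t).index : ℂ) * Nat.card (C1 t) = Nat.card G := by exact_mod_cast index_mul_card _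
  have h5 : ∀ η ∈ X, (η : G → ℂ) 1 = dg ψ + δ := fun η h => by rw [dg_eq]; exact_mod_cast dX E h
  have h6 : ∀ η ∈ X, (η : G → ℂ) t = s + δ := fun η h => by
    rw [E.vX η h t (T.nconj (n := 1) (by simpa [sq] using ht)), hs]
  obtain ⟨Y, i1, i2⟩ := split_sum E fun η => (η : G → ℂ) t * (η : G → ℂ) t * (η : G → ℂ) k⁻¹ / (η : G → ℂ) 1
  obtain ⟨Y', i3, i4⟩ := split_sum E fun η => (η : G → ℂ) 1 * (η : G → ℂ) k⁻¹
  have h7 := fun η j1 j2 j3 => E.v0 η j1 j2 j3 _ (inv_mem hk) (inv_ne_one.2 h1)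
  rw [i2, sum_eq_zero (s := Y) fun η h => by rw [h7 η (i1 η h).1 (i1 η h).2.1 (i1 η h).2.2]; simp,
    sum_congr rfl fun η h => by rw [h5 η h, h6 η h], ← sum_div, ← mul_sum] at h2
  rw [i4, sum_eq_zero (s := Y') fun η h => by rw [h7 η (i3 η h).1 (i3 η h).2.1 (i3 η h).2.2]; simp,
    sum_congr rfl fun η h => by rw [h5 η h], ← mul_sum, regChar_of_ne (inv_ne_one.2 h1)] at h3
  simp only [triv_apply, hs, dg_eq, E.vψ _ (inv_mem hk) (inv_ne_one.2 h1)] at h2 h3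
  have h8 : (dg ψ : ℂ) ≠ 0 := by exact_mod_cast (dg_pos ψ).ne'
  have h9 : (dg χ : ℂ) = dg ψ + δ := by exact_mod_cast dX E h
  have h10 : (dg ψ : ℂ) + δ ≠ 0 := by rw [← h9]; exact_mod_cast (dg_pos χ).ne'
  have h11 : (δ : ℂ) * δ = 1 := by rcases E.hδ with e | e <;> simp [e]
  have h12 : ∑ η ∈ X, (η : G → ℂ) k⁻¹ = -δ := mul_left_cancel₀ h10 (by linear_combination h3 + h11)
  rw [h12] at h2
  have h13 : (nF t t k * Nat.card (C1 t) ^ 2 * (dg ψ * dg χ) : ℂ) = Nat.card G * (dg ψ - s) ^ 2 := by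
    refine mul_left_cancel₀ (card_ne_zero (G := G)) ?_
    rw [h9]
    field_simp at h2
    rw [← h4] at h2 ⊢
    linear_combination (Nat.card (C1 t) : ℂ) ^ 2 * h2 + ((C1 t).index * Nat.card (C1 t)) ^ 2 * (s ^ 2 - 2 * s * dg ψ -
      δ * dg ψ) * h11
  exact_mod_cast h13

end St

end Cfsg.Agent.SC3
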