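import Cfsg.Agent.Forms.URep
import Cfsg.Agent.CharLib.Degrees

/-! Character theoretic tools: kernels, structure constants, integrality. -/

set_option autoImplicit false

namespace Cfsg.Agent.SC3

open Cfsg.Agent.CharLib Subgroup Finset
open scoped ComplexConjugate

variable {G : Type*} [Group G] [Finite G]

/-- the degree -/
noncomputable def dg (χ : IrrCharacter G) : ℕ := charDegree (χ : G → ℂ)

/-- the trivial character -/
def triv (G : Type*) [Group G] : IrrCharacter G := ⟨fun _ => 1, isIrr_one⟩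

omit [Finite G] in
theorem ch (χ : IrrCharacter G) : IsCharacter G χ := isChar_of_irr χ.2

omit [Finite G] in
theorem dg_eq (χ : IrrCharacter G) : (χ : G → ℂ) 1 = dg χ := (isChar_charDegree (ch χ)).symm

omit [Finite G] in
theorem dg_pos (χ : IrrCharacter G) : 0 < dg χ := charDegree_pos χ.2

omit [Finite G] in
theorem triv_apply (g : G) : (triv G : G → ℂ) g = 1 := rfl

omit [Finite G] in
theorem dg_triv : dg (triv G) = 1 := charDegree_eq (by simp [triv_apply])

theorem dg_dvd (χ : IrrCharacter G) : dg χ ∣ Nat.card G := by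
  obtain ⟨χ, n, ρ, h, rfl⟩ := χ
  have := Forms.deg_dvd_card ρ
  rwa [dg, charDegree_eq (ρ.char_one)]

theorem sum_dg_sq : ∑ χ : IrrCharacter G, dg χ ^ 2 = Nat.card G := sum_charDegree_sq

omit [Finite G] in
theorem zp_comm (g : G) (a b : zpowers g) : a * b = b * a := by
  obtain ⟨_, i, rfl⟩ := a
  obtain ⟨_, j, rfl⟩ := b
  exact Subtype.ext (zpow_mul_comm g i j)

theorem re_le {χ : G → ℂ} (hχ : IsCharacter G χ) (g : G) : (χ g).re ≤ (χ 1).re :=
  (Complex.re_le_norm _).trans (isChar_norm_le hχ g)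

theorem eq_of_re {χ : G → ℂ} (hχ : IsCharacter G χ) {g : G} (h : (χ 1).re ≤ (χ g).re) : χ g = χ 1 := by
  have h1 := isChar_norm_le hχ g
  obtain ⟨n, hn⟩ := isChar_degree hχ
  have h2 : (χ g).re = ‖χ g‖ := le_antisymm (Complex.re_le_norm _) (h1.trans h)
  have h3 := Complex.abs_re_eq_norm.1 (by rw [h2]; exact abs_norm _)
  refine Complex.ext (le_antisymm (re_le hχ g) h) ?_
  rw [h3, hn]; simp

theorem lin_pow {A : Type*} [Group A] {l : A → ℂ} (h1 : l 1 = 1) (h : ∀ a b, l (a * b) = l a * l b)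
    (x : A) (j : ℕ) : l (x ^ j) = l x ^ j := by
  induction j with
  | zero => simpa using h1
  | succ j ih => rw [pow_succ, h, ih, pow_succ]

theorem pow_of_eq {χ : G → ℂ} (hχ : IsCharacter G χ) {g : G} (h : χ g = χ 1) (j : ℕ) :
    χ (g ^ j) = χ 1 := by
  have key : ∀ {χ : zpowers g → ℂ}, IsCharacter _ χ → ∀ x, χ x = χ 1 → χ (x ^ j) = χ 1 := fun hχ => by
    refine isChar_induction (P := fun χ => ∀ x, χ x = χ 1 → χ (x ^ j) = χ 1) (fun _ _ => rfl)
      (fun χ hχ x hx => ?_) (fun χ ψ h1 h2 i1 i2 x hx => ?_) hχ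
    · have h1 := isIrr_degree_of_comm (zp_comm g) hχ
      rw [lin_pow h1 (isChar_mul_of_degree_one (isChar_of_irr hχ) h1), hx, h1, one_pow]
    · have h3 := congrArg Complex.re hx
      simp only [Pi.add_apply, Complex.add_re] at h3 ⊢
      have h4 := re_le h1 x
      have h5 := re_le h2 x
      rw [i1 x (eq_of_re h1 (by linarith)), i2 x (eq_of_re h2 (by linarith))]
  exact key (isChar_comp (zpowers g).subtype hχ) ⟨g, mem_zpowers g⟩ h

theorem mul_of_eq {χ : G → ℂ} (hχ : IsCharacter G χ) {g : G} (h : χ g = χ 1) (x : G) :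
    χ (g * x) = χ x := by
  classical
  have h0 := pow_of_eq hχ h
  obtain ⟨n, ρ, rfl⟩ := hχ
  have := Fintype.ofFinite (zpowers g)
  let σ : Representation ℂ (zpowers g) (Fin n → ℂ) := ρ.comp (zpowers g).subtype
  have h1 := σ.card_inv_mul_sum_char_eq_finrank
  have h2 : ∀ y : zpowers g, σ.character y = ρ.character 1 := fun y => by
    obtain ⟨j, hj⟩ := (Submonoid.mem_powers_iff _ _).1 (mem_powers_iff_mem_zpowers.2 y.2)
    rw [← h0 j, hj]; rfl
  simp only [h2, sum_const, card_univ, nsmul_eq_mul, ← Nat.card_eq_fintype_card] at h1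
  rw [← mul_assoc, inv_mul_cancel₀ (by exact_mod_cast Nat.card_pos.ne'), one_mul, ρ.char_one] at h1
  have h3 : σ.invariants = ⊤ := Submodule.eq_top_of_finrank_eq (by exact_mod_cast h1.symm)
  have h4 : ρ g = 1 := LinearMap.ext fun v =>
    (σ.mem_invariants v).1 (h3 ▸ Submodule.mem_top) ⟨g, mem_zpowers g⟩
  simp only [Representation.character, map_mul, h4, one_mul]

/-- the kernel of a character -/
def chKer {χ : G → ℂ} (hχ : IsCharacter G χ) : Subgroup G where
  carrier := {g | χ g = χ 1}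
  one_mem' := rfl
  mul_mem' ha hb := (mul_of_eq hχ ha _).trans hb
  inv_mem' {a} ha := by
    have := mul_of_eq hχ ha a⁻¹
    rw [mul_inv_cancel] at this
    exact this.symm

theorem const_of_eq [IsSimpleGroup G] {χ : G → ℂ} (hχ : IsCharacter G χ) {g : G} (hg : g ≠ 1)
    (h : χ g = χ 1) (x : G) : χ x = χ 1 := by
  have : (chKer hχ).Normal := ⟨fun a ha b => (isChar_classFun hχ a b).trans ha⟩
  rcases this.eq_bot_or_eq_top with e | e
  · exact absurd (e.le h) hg
  · exact e.ge (mem_top x)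

theorem eq_triv {χ : IrrCharacter G} (h : ∀ x, (χ : G → ℂ) x = (χ : G → ℂ) 1) : χ = triv G := by
  have := Fintype.ofFinite G
  refine Subtype.ext (eq_of_inner_ne_zero χ.2 (triv G).2 ?_)
  simp only [classInner, h, triv_apply, map_one, mul_one, sum_const, card_univ, nsmul_eq_mul,
    ← Nat.card_eq_fintype_card]
  rw [← mul_assoc, inv_mul_cancel₀ card_ne_zero, one_mul]
  exact isIrr_one_ne_zero χ.2

theorem one_lt_dg [IsSimpleGroup G] (hG : ¬ IsMulCommutative G) {χ : IrrCharacter G}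
    (h : χ ≠ triv G) : 1 < dg χ := by
  by_contra h1
  have h2 : (χ : G → ℂ) 1 = 1 := by
    have := dg_pos χ
    rw [dg_eq, show dg χ = 1 by omega, Nat.cast_one]
  have h3 := isChar_mul_of_degree_one (ch χ) h2
  refine hG ⟨⟨fun a b => by_contra fun e => h (eq_triv (const_of_eq (ch χ) (g := a * b * (b * a)⁻¹)
    (fun e' => e (mul_inv_eq_one.1 e')) ?_))⟩⟩
  rw [h3, h3 a, mul_comm (χ.1 a), ← h3, ← h3, mul_inv_cancel]

theorem norm_lt [IsSimpleGroup G] (hG : ¬ IsMulCommutative G) {χ : IrrCharacter G}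
    (h : χ ≠ triv G) {g : G} (hg : g ≠ 1) : ‖(χ : G → ℂ) g‖ < dg χ := by
  have := Fintype.ofFinite G
  have h1 := isChar_norm_le (ch χ) g
  rw [dg_eq, Complex.natCast_re] at h1
  refine lt_of_le_of_ne h1 fun e => ?_
  have h2 := const_of_eq (isChar_mul (ch χ) (isChar_star (ch χ))) hg (by
    simp only [Pi.mul_apply, Complex.mul_conj, Complex.normSq_eq_norm_sq, e, dg_eq, Complex.norm_natCast])
  have h3 := inner_irr_self χ.2
  simp only [Pi.mul_apply] at h2
  simp only [classInner, h2, sum_const, card_univ, nsmul_eq_mul, ← Nat.card_eq_fintype_card] at h3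
  rw [← mul_assoc, inv_mul_cancel₀ card_ne_zero, one_mul, dg_eq, Complex.conj_natCast] at h3
  have h4 : dg χ * dg χ = 1 := by exact_mod_cast h3
  have := one_lt_dg hG h
  nlinarith

theorem faithful [IsSimpleGroup G] {χ : IrrCharacter G} (h : χ ≠ triv G) {g : G} (hg : g ≠ 1) :
    (χ : G → ℂ) g ≠ (χ : G → ℂ) 1 := fun e => h (eq_triv (const_of_eq (ch χ) hg e))

omit [Finite G] in
theorem sum_sub {χ : G → ℂ} (hχ : IsCharacter G χ) (H : Subgroup G) [Fintype H] :
    ∃ n : ℕ, ∑ h : H, χ h = Nat.card H * n := by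
  obtain ⟨n, hn⟩ := inner_char_nat (isChar_comp H.subtype hχ) isChar_one
  simp only [classInner, map_one, mul_one] at hn
  exact ⟨n, by rw [← hn, ← mul_assoc, mul_inv_cancel₀ card_ne_zero, one_mul]; rfl⟩

theorem sum_pow {χ : G → ℂ} (hχ : IsCharacter G χ) {g : G} {n : ℕ} (h : g ^ n = 1) :
    ∃ m : ℕ, ∑ i ∈ range n, χ (g ^ i) = n * m := by
  have key : ∀ {χ : zpowers g → ℂ}, IsCharacter _ χ → ∀ x, x ^ n = 1 →
      ∃ m : ℕ, ∑ i ∈ range n, χ (x ^ i) = n * m := fun hχ x hx => by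
    refine isChar_induction (P := fun χ => ∃ m : ℕ, ∑ i ∈ range n, χ (x ^ i) = n * m) ⟨0, by simp⟩
      (fun χ hχ => ?_) (fun χ ψ _ _ ⟨a, i1⟩ ⟨b, i2⟩ => ⟨a + b, ?_⟩) hχ
    · have h1 := isIrr_degree_of_comm (zp_comm g) hχ
      have h2 := lin_pow h1 (isChar_mul_of_degree_one (isChar_of_irr hχ) h1) x
      simp only [h2]
      by_cases e : χ x = 1
      · exact ⟨1, by simp [e]⟩
      · exact ⟨0, by rw [geom_sum_eq e, ← h2, hx, h1]; simp⟩
    · simp only [Pi.add_apply, sum_add_distrib, i1, i2]; push_cast; ring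
  exact key (isChar_comp (zpowers g).subtype hχ) ⟨g, mem_zpowers g⟩ (Subtype.ext h)

theorem int_of_rat {z : ℂ} (hz : IsIntegral ℤ z) {a b : ℤ} (hb : b ≠ 0) (h : z * b = a) :
    ∃ s : ℤ, z = s := by
  have h1 : z = algebraMap ℚ ℂ ((a : ℚ) / b) := by
    simp only [map_div₀, map_intCast]
    rw [eq_div_iff (by exact_mod_cast hb), h]
  rw [h1] at hz ⊢
  obtain ⟨s, hs⟩ := IsIntegrallyClosed.isIntegral_iff.1
    ((isIntegral_algebraMap_iff (algebraMap ℚ ℂ).injective).1 hz)
  exact ⟨s, by rw [← hs]; simp⟩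

theorem val_two (χ : IrrCharacter G) {t : G} (h : t * t = 1) :
    ∃ s : ℤ, (χ : G → ℂ) t = s ∧ 2 ∣ (dg χ : ℤ) - s := by
  obtain ⟨m, hm⟩ := sum_pow (ch χ) (show t ^ 2 = 1 by rwa [sq])
  simp only [sum_range_succ, range_zero, sum_empty, pow_zero, pow_one, zero_add, dg_eq] at hm
  exact ⟨2 * m - dg χ, by push_cast at hm ⊢; linear_combination hm, ⟨dg χ - m, by ring⟩⟩

theorem val_three (χ : IrrCharacter G) {k : G} (h : k ^ 3 = 1) (hr : IsConj k k⁻¹) :
    ∃ s : ℤ, (χ : G → ℂ) k = s ∧ 3 ∣ (dg χ : ℤ) - s := by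
  obtain ⟨m, hm⟩ := sum_pow (ch χ) h
  have h1 : k ^ 2 = k⁻¹ := eq_inv_of_mul_eq_one_left (by rw [← h, pow_succ k 2])
  simp only [sum_range_succ, range_zero, sum_empty, pow_zero, pow_one, zero_add, dg_eq, h1,
    ← classFun_of_isConj (isChar_classFun (ch χ)) hr] at hm
  obtain ⟨s, hs⟩ := int_of_rat (isChar_isIntegral (ch χ) k) (a := 3 * m - dg χ) (b := 2) two_ne_zero
    (by push_cast at hm ⊢; linear_combination hm)
  refine ⟨s, hs, m - s, ?_⟩
  rw [hs] at hm
  have : (dg χ : ℤ) + s + s = 3 * m := by exact_mod_cast hm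
  linarith

open Classical in
/-- the number of factorizations with factors in given classes -/
noncomputable def nF [Fintype G] (x y g : G) : ℕ := ((cls x ×ˢ cls y).filter fun p => p.1 * p.2 = g).card

theorem frob [Fintype G] (x y g : G) : (nF x y g : ℂ) * Nat.card G =
    (centralizer ({x} : Set G)).index * (centralizer ({y} : Set G)).index *
      ∑ χ : IrrCharacter G, (χ : G → ℂ) x * (χ : G → ℂ) y * (χ : G → ℂ) g⁻¹ / (χ : G → ℂ) 1 := by
  classical
  have h1 : ∑ a ∈ cls x, ∑ b ∈ cls y, regChar G (a * (b * g⁻¹)) = (nF x y g : ℂ) * Nat.card G := by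
    rw [← sum_product', nF, card_filter, Nat.cast_sum, sum_mul]
    refine sum_congr rfl fun p _ => ?_
    simp only [regChar, ← mul_assoc, mul_inv_eq_one]
    split_ifs <;> simp
  rw [← h1]
  simp only [← sum_degree_mul]
  rw [sum_comm]
  simp only [sum_comm (s := cls x) (t := univ), sum_comm (s := cls y) (t := univ), ← mul_sum,
    fun χ : IrrCharacter G => sum_cls_mul χ.2]
  rw [mul_sum]
  refine sum_congr rfl fun χ _ => ?_
  have := isIrr_one_ne_zero χ.2
  simp only [centralChar]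
  field_simp

omit [Finite G] in
theorem isChar_pow {χ : G → ℂ} (hχ : IsCharacter G χ) (n : ℕ) : IsCharacter G (fun g => χ g ^ n) := by
  induction n with
  | zero => simpa using isChar_one
  | succ n ih => simp only [pow_succ]; exact isChar_mul ih hχ

/-- Burnside's vanishing lemma -/
theorem vanish [IsSimpleGroup G] (hG : ¬ IsMulCommutative G) {χ : IrrCharacter G} (h : χ ≠ triv G)
    (A : Subgroup G) (hA : ∀ z ∈ A, (centralizer ({z} : Set G)).index.Coprime (dg χ)) {z : G}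
    (hz : z ∈ A) (h1 : z ≠ 1) : (χ : G → ℂ) z = 0 := by
  classical
  have := Fintype.ofFinite A
  have hd : (dg χ : ℂ) ≠ 0 := by exact_mod_cast (dg_pos χ).ne'
  have hd' : (0 : ℝ) < dg χ := by exact_mod_cast dg_pos χ
  have h2 : ∀ z ∈ A, IsIntegral ℤ ((χ : G → ℂ) z / dg χ) := fun z hz => by
    obtain ⟨u, v, huv⟩ := Nat.isCoprime_iff_coprime.2 (hA z hz)
    have h3 := ((isIntegral_algebraMap (x := u)).mul (isIntegral_centralChar χ.2 z)).add
      ((isIntegral_algebraMap (x := v)).mul (isChar_isIntegral (ch χ) z))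
    have h4 : (u : ℂ) * (centralizer ({z} : Set G)).index + v * dg χ = 1 := by exact_mod_cast huv
    simp only [centralChar, dg_eq, algebraMap_int_eq, eq_intCast] at h3
    rw [show (χ : G → ℂ) z / dg χ = u * ((centralizer ({z} : Set G)).index * (χ : G → ℂ) z / dg χ) +
      v * (χ : G → ℂ) z by field_simp; linear_combination (-(χ : G → ℂ) z) * h4]
    exact h3
  let f : A → ℝ := fun y => (‖(χ : G → ℂ) y‖ / dg χ) ^ 2
  have h3 : ∀ y : A, (f y : ℂ) = (χ : G → ℂ) y / dg χ * ((χ : G → ℂ) (y : G)⁻¹ / dg χ) := fun y => by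
    rw [← isChar_conj (ch χ), div_mul_div_comm, Complex.mul_conj, Complex.normSq_eq_norm_sq]
    simp only [f]; push_cast; ring
  have h4 : ∀ n : ℕ, ∃ s : ℤ, ∑ y ∈ univ.erase (1 : A), f y ^ n = s := fun n => by
    obtain ⟨m, hm⟩ := sum_sub (isChar_pow (isChar_mul (ch χ) (isChar_inv (ch χ))) n) A
    obtain ⟨s, hs⟩ := int_of_rat (z := ∑ y ∈ univ.erase (1 : A), (f y : ℂ) ^ n)
      (IsIntegral.sum _ fun y _ => by rw [h3]; exact ((h2 _ y.2).mul (h2 _ (inv_mem y.2))).pow n)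
      (a := Nat.card A * m - (dg χ * dg χ) ^ n) (b := (dg χ * dg χ) ^ n)
      (by have := (dg_pos χ).ne'; positivity) (by
        push_cast
        rw [← hm, ← add_sum_erase _ _ (mem_univ (1 : A)), sum_mul]
        simp only [Pi.mul_apply, OneMemClass.coe_one, inv_one, dg_eq, add_sub_cancel_left, h3, ← mul_pow]
        refine sum_congr rfl fun y _ => ?_
        congr 1; field_simp)
    exact ⟨s, by exact_mod_cast hs⟩
  have h5 : ∀ y ∈ univ.erase (1 : A), 0 ≤ f y ∧ f y < 1 := fun y hy =>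
    ⟨sq_nonneg _, pow_lt_one₀ (by positivity) ((div_lt_one hd').2 (norm_lt hG h fun e =>
      ne_of_mem_erase hy (Subtype.ext e))) two_ne_zero⟩
  have h6 : Filter.Tendsto (fun n : ℕ => ∑ y ∈ univ.erase (1 : A), f y ^ n) Filter.atTop (nhds 0) := by
    have := tendsto_finsetSum (univ.erase (1 : A)) fun y hy =>
      tendsto_pow_atTop_nhds_zero_of_lt_one (h5 y hy).1 (h5 y hy).2
    simpa using this
  obtain ⟨n, hn⟩ := (h6.eventually (gt_mem_nhds zero_lt_one)).exists
  obtain ⟨s, hs⟩ := h4 n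
  have h7 : 0 ≤ ∑ y ∈ univ.erase (1 : A), f y ^ n := sum_nonneg fun y hy => pow_nonneg (h5 y hy).1 n
  rw [hs] at hn h7
  have h8 : s = 0 := by
    have : s < 1 := by exact_mod_cast hn
    have : 0 ≤ s := by exact_mod_cast h7
    omega
  rw [h8, Int.cast_zero, sum_eq_zero_iff_of_nonneg fun y hy => pow_nonneg (h5 y hy).1 n] at hs
  have h9 := pow_eq_zero_iff (two_ne_zero) |>.1 (eq_zero_of_pow_eq_zero (hs ⟨z, hz⟩
    (mem_erase.2 ⟨fun e => h1 (congrArg Subtype.val e), mem_univ _⟩)))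
  simpa [hd'.ne'] using h9

/-- a character of prime degree of a `p`-group vanishing at a central element kills commutators -/
theorem comm_ker {p : ℕ} (hp : p.Prime) (hQ : IsPGroup p G) {χ : G → ℂ} (hχ : IsCharacter G χ)
    (h1 : χ 1 = p) {z : G} (hz : z ∈ center G) (h0 : χ z = 0) (a b : G) :
    χ (a * b * (b * a)⁻¹) = χ 1 := by
  have := Fintype.ofFinite G
  have := Fact.mk hp
  rw [isChar_eq_sum_inner hχ]
  simp only [Finset.sum_apply, Pi.smul_apply]
  refine sum_congr rfl fun η _ => ?_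
  by_cases e : classInner χ η = 0
  · simp [e]
  have h2 := degree_le_of_inner_ne_zero hχ η.2 e
  rw [h1, dg_eq, Complex.natCast_re, Complex.natCast_re, Nat.cast_le] at h2
  obtain ⟨n, hn⟩ := hQ.exists_card_eq
  obtain ⟨j, -, hj⟩ := (Nat.dvd_prime_pow hp).1 (hn ▸ dg_dvd η)
  rcases j with _ | j
  · have h3 : (η : G → ℂ) 1 = 1 := by rw [dg_eq, hj]; simp
    have h4 := isChar_mul_of_degree_one (ch η) h3
    rw [h4, h4 a, mul_comm (η.1 a), ← h4, ← h4, mul_inv_cancel]
  · have h3 : dg η = p := le_antisymm h2 (hj ▸ Nat.le_of_dvd (hj ▸ dg_pos η) (dvd_pow_self _ j.succ_ne_zero))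
    have h4 := eq_of_inner_ne_zero_of_degree hχ η.2 e (by rw [h1, dg_eq, h3])
    have h5 := irr_central η.2 hz z⁻¹
    rw [← h4, h0, zero_mul, mul_inv_cancel, h1, mul_self_eq_zero] at h5
    exact absurd (by exact_mod_cast h5) hp.ne_zero

theorem index_le_pow (hc : ∀ a b : G, a * b = b * a) {e : ℕ} (he : 0 < e) (h : ∀ a : G, a ^ e = 1)
    {χ : G → ℂ} (hχ : IsCharacter G χ) :
    ∃ K : Subgroup G, (∀ g ∈ K, χ g = χ 1) ∧ K.index ≤ e ^ charDegree χ := by
  refine isChar_induction (P := fun χ => ∃ K : Subgroup G, (∀ g ∈ K, χ g = χ 1) ∧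
    K.index ≤ e ^ charDegree χ) ⟨⊤, fun _ _ => rfl, by simp [charDegree]⟩ (fun χ hχ => ?_)
    (fun χ ψ h1 h2 ⟨K, i1, i2⟩ ⟨L, i3, i4⟩ => ⟨K ⊓ L, fun g hg => ?_, ?_⟩) hχ
  · have h1 := isIrr_degree_of_comm hc hχ
    let f : G →* ℂ := ⟨⟨χ, h1⟩, isChar_mul_of_degree_one (isChar_of_irr hχ) h1⟩
    refine ⟨f.toHomUnits.ker, fun g hg => (congrArg Units.val hg).trans h1.symm, ?_⟩
    have := NeZero.of_pos he
    rw [index_ker, charDegree_eq (n := 1) (by simpa using h1), pow_one]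
    refine le_trans (Subgroup.card_le_of_le (K := rootsOfUnity e ℂ) ?_) ?_
    · rintro _ ⟨g, rfl⟩
      rw [mem_rootsOfUnity, ← map_pow, h, map_one]
    · exact card_rootsOfUnity ℂ e
  · simp only [Pi.add_apply, i1 g hg.1, i3 g hg.2]
  · rw [charDegree_eq (n := charDegree χ + charDegree ψ) (by
      simp [isChar_charDegree h1, isChar_charDegree h2]), pow_add]
    exact index_inf_le.trans (Nat.mul_le_mul i2 i4)

end Cfsg.Agent.SC3
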