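import Cfsg.Agent.SC3.Local

/-! The basic setting. -/

set_option autoImplicit false

namespace Cfsg.Agent.SC3

open Subgroup Finset

theorem burn {A X : Type*} [Group A] [Finite A] [Finite X] [MulAction A X] (B : Subgroup A) {u v : ℕ}
    (h1 : ∀ g ∈ B, Nat.card (MulAction.fixedBy X g) = u) (h2 : ∀ g ∉ B, Nat.card (MulAction.fixedBy X g) = v) :
    Nat.card A ∣ Nat.card B * u + (Nat.card A - Nat.card B) * v := by
  classical
  have := Fintype.ofFinite A
  have := Fintype.ofFinite X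
  have h := MulAction.sum_card_fixedBy_eq_card_orbits_mul_card_group A X
  simp only [← Nat.card_eq_fintype_card] at h
  rw [← sum_filter_add_sum_filter_not _ (· ∈ B), sum_congr rfl fun g hg => h1 g (mem_filter.1 hg).2,
    sum_congr rfl fun g hg => h2 g (mem_filter.1 hg).2, sum_const, sum_const, filter_not, card_sdiff_of_subset
      (filter_subset _ _), card_univ, ← Fintype.card_subtype, ← Nat.card_eq_fintype_card,
      ← Nat.card_eq_fintype_card] at h
  exact ⟨_, h.trans (mul_comm _ _)⟩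

variable {G : Type*} [Group G] [Finite G]

theorem no_small_index [IsSimpleGroup G] {B : Subgroup G} (h : B ≠ ⊤) : Nat.card G ∣ B.index.factorial :=
  card_dvd_fact (B.normalCore_normal.eq_bot_or_eq_top.resolve_right fun e => h (top_le_iff.1 (e ▸ B.normalCore_le)))

theorem not_normal [IsSimpleGroup G] (hG : ¬ IsMulCommutative G) {p : ℕ} [Fact p.Prime] {P : Subgroup G}
    (hP : IsPGroup p P) (h : P ≠ ⊥) : Nm P ≠ ⊤ := fun e => by
  obtain rfl := (normalizer_eq_top_iff.1 e).eq_bot_or_eq_top.resolve_left h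
  obtain ⟨z, hz, h1⟩ := exists_central hP h
  have h2 := (inferInstance : (center G).Normal).eq_bot_or_eq_top.resolve_left fun e =>
    h1 (e.le (mem_center_iff.2 fun g => (mem_Ce.1 hz.2 g trivial).symm))
  exact hG ⟨⟨fun a b => mem_center_iff.1 (h2.ge (mem_top b)) a⟩⟩

theorem transfer [IsSimpleGroup G] (hG : ¬ IsMulCommutative G) {p : ℕ} [Fact p.Prime] (P : Sylow p G)
    (h : (P : Subgroup G) ≠ ⊥) : ¬ Nm (P : Subgroup G) ≤ Ce (P : Subgroup G) := fun e => by
  have h1 := MonoidHom.ker_transferSylow_isComplement' P e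
  rcases (MonoidHom.normal_ker (MonoidHom.transferSylow P e)).eq_bot_or_eq_top with e' | e' <;> rw [e'] at h1
  · exact not_normal hG P.isPGroup' h (by rw [isComplement'_bot_left.1 h1, Nm, normalizer_eq_top])
  · exact h (isComplement'_top_left.1 h1)

open Classical in
/-- the conjugates inside a subgroup -/
noncomputable def Oc (R : Subgroup G) (x : G) : Finset G := (Set.toFinite {y | y ∈ R ∧ IsConj x y}).toFinset

theorem mem_Oc {R : Subgroup G} {x y : G} : y ∈ Oc R x ↔ y ∈ R ∧ IsConj x y := by simp [Oc]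

/-- strongly self-centralizing subgroups -/
def SC (R : Subgroup G) : Prop := ∀ x ∈ R, x ≠ 1 → C1 x = R

namespace SC

variable {R : Subgroup G} (h : SC R)
include h

omit [Finite G] in
theorem comm {x y : G} (hx : x ∈ R) (hy : y ∈ R) : Commute x y := by
  by_cases e : x = 1
  · exact e ▸ Commute.one_left y
  · exact mem_C1.1 ((h x hx e).ge hy)

omit [Finite G] in
theorem mem {x y : G} (hx : x ∈ R) (h1 : x ≠ 1) (hc : Commute x y) : y ∈ R := (h x hx h1).le (mem_C1.2 hc)

omit [Finite G] in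
theorem fusion {x g : G} (hx : x ∈ R) (h1 : x ≠ 1) (hg : g * x * g⁻¹ ∈ R) : g ∈ Nm R := by
  rw [← cj_eq_iff, ← h x hx h1, ← C1_cj, h _ hg (by simpa using h1), h x hx h1]

theorem card_Oc {x : G} (hx : x ∈ R) (h1 : x ≠ 1) : (Oc R x).card = R.relIndex (Nm R) := by
  have h2 : MulAction.stabilizer (Nm R) (⟨x, hx⟩ : R) = R.subgroupOf (Nm R) := by
    ext g
    rw [MulAction.mem_stabilizer_iff, mem_subgroupOf, Subtype.ext_iff]
    exact ⟨fun e => h.mem hx h1 (mul_inv_eq_iff_eq_mul.1 e).symm, fun e =>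
      mul_inv_eq_iff_eq_mul.2 (h.comm hx e).symm⟩
  rw [relIndex, ← h2, MulAction.index_stabilizer, ← Set.ncard_image_of_injective _ Subtype.val_injective,
    ← Set.ncard_coe_finset]
  congr 1
  ext y
  rw [mem_coe, mem_Oc]
  constructor
  · rintro ⟨h3, h4⟩
    obtain ⟨g, rfl⟩ := isConj_iff.1 h4
    exact ⟨_, ⟨⟨g, h.fusion hx h1 h3⟩, rfl⟩, rfl⟩
  · rintro ⟨_, ⟨g, rfl⟩, rfl⟩
    exact ⟨Nm_conj g.2 hx, isConj_iff.2 ⟨g, rfl⟩⟩

theorem rel_dvd : R.relIndex (Nm R) ∣ Nat.card R - 1 := by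
  have h1 := burn (X := R) (R.subgroupOf (Nm R)) (u := Nat.card R) (v := 1) (fun g hg => by
    rw [show MulAction.fixedBy R g = Set.univ from Set.eq_univ_of_forall fun x =>
      Subtype.ext (mul_inv_eq_iff_eq_mul.2 (h.comm hg x.2)), Nat.card_congr (Equiv.Set.univ _)]) fun g hg => by
    rw [show MulAction.fixedBy R g = {1} from Set.eq_singleton_iff_unique_mem.2 ⟨smul_one g, fun x hx =>
      by_contra fun e => hg (h.mem x.2 (fun e' => e (Subtype.ext e'))
        (mul_inv_eq_iff_eq_mul.1 (congrArg Subtype.val hx)).symm)⟩, Nat.card_unique]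
  rw [card_subgroupOf (le_Nm R), ← card_mul_relIndex (le_Nm R), mul_one, ← Nat.mul_sub_one, ← mul_add] at h1
  have h2 := Nat.dvd_of_mul_dvd_mul_left (card_pos' R) h1
  have h3 : R.relIndex (Nm R) ≠ 0 := index_ne_zero_of_finite
  have := card_pos' R
  rwa [show Nat.card R + (R.relIndex (Nm R) - 1) = Nat.card R - 1 + R.relIndex (Nm R) by omega,
    Nat.dvd_add_self_right] at h2

theorem exists_inv (ho : ¬ 2 ∣ Nat.card R) (he : 2 ∣ R.relIndex (Nm R)) :
    ∃ t, t * t = 1 ∧ t ∉ R ∧ ∀ x ∈ R, t * x * t⁻¹ = x⁻¹ := by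
  obtain ⟨t, ht, h2⟩ := exists_ord (U := Nm R) Nat.prime_two (card_mul_relIndex (le_Nm R) ▸ he.mul_left _)
  have h3 : t * t = 1 := by rw [← sq, ← h2, pow_orderOf_eq_one]
  have h4 : t ∉ R := fun e => ho (h2 ▸ R.orderOf_dvd_natCard e)
  refine ⟨t, h3, h4, fun x hx => eq_inv_of_mul_eq_one_right (by_contra fun e => h4 ?_)⟩
  refine h.mem (mul_mem hx (Nm_conj ht hx)) e ?_
  calc x * (t * x * t⁻¹) * t = (t * t) * x * (t * t)⁻¹ * (t * x * t⁻¹) * t := by rw [h3]; group
    _ = t * (t * x * t⁻¹ * x) := by group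
    _ = _ := by rw [(h.comm hx (Nm_conj ht hx)).eq]

omit [Finite G] in
theorem cj (g : G) : SC (cj g R) := fun x hx h1 => by
  have := congrArg (SC3.cj g) (h _ (mem_cj.1 hx) fun e => h1 (by
    simpa [mul_assoc] using congrArg (fun t => g * t * g⁻¹) e))
  rw [← C1_cj] at this
  simpa [mul_assoc] using this

end SC

section sylow

variable {p : ℕ} [Fact p.Prime] {P : Sylow p G} (h : SC (P : Subgroup G))
include h

theorem SC.sylow (Q : Sylow p G) : SC (Q : Subgroup G) :=
  let ⟨g, hg⟩ := sylow_conj P Q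
  hg ▸ h.cj g

theorem SC.fix {x : G} (hx : x ∈ (P : Subgroup G)) (h1 : x ≠ 1) {Q : Sylow p G} (e : x • Q = Q) : Q = P := by
  obtain ⟨n, hn⟩ := sylow_pow hx
  exact Sylow.ext ((h.sylow Q x (mem_sylow_of_Nm hn (Sylow.smul_eq_iff_mem_normalizer.1 e)) h1).symm.trans
    (h x hx h1))

theorem SC.card_sylow : Nat.card (P : Subgroup G) ∣ (Nm (P : Subgroup G)).index - 1 := by
  have h1 := burn (A := (P : Subgroup G)) (X := Sylow p G) ⊥ (u := Nat.card (Sylow p G)) (v := 1)
    (fun g hg => by rw [mem_bot.1 hg, MulAction.fixedBy_one_eq_univ, Nat.card_congr (Equiv.Set.univ _)])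
    fun g hg => by
      rw [show MulAction.fixedBy (Sylow p G) g = {P} from Set.eq_singleton_iff_unique_mem.2
        ⟨Sylow.smul_eq_iff_mem_normalizer.2 (le_Nm _ g.2), fun Q hQ =>
          h.fix g.2 (fun e => hg (Subtype.ext e)) hQ⟩, Nat.card_unique]
  have h2 := card_pos' (P : Subgroup G)
  have h3 : 0 < Nat.card (Sylow p G) := Nat.card_pos
  rw [card_bot, one_mul, mul_one, show Nat.card (Sylow p G) + (Nat.card (P : Subgroup G) - 1) =
    Nat.card (Sylow p G) - 1 + Nat.card (P : Subgroup G) by omega, Nat.dvd_add_self_right] at h1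
  rwa [P.card_eq_index_normalizer] at h1

end sylow

/-- the hypotheses -/
structure St (R : Sylow 3 G) (q a b : ℕ) : Prop where
  simple : IsSimpleGroup G
  nc : ¬ IsMulCommutative G
  hq : q.Prime
  h5 : 5 ≤ q
  card : Nat.card G = 9 * 2 ^ a * q ^ b
  sc : SC (R : Subgroup G)

namespace St

variable {R : Sylow 3 G} {q a b : ℕ} (T : St R q a b)
include T

theorem ss : SS G := fun P => T.sc.sylow P

omit [Finite G] in
theorem nd3 : ¬ 3 ∣ 2 ^ a * q ^ b := fun e =>
  (Nat.prime_three.dvd_mul.1 e).elim (fun e => by have := Nat.prime_three.dvd_of_dvd_pow e; omega) fun e => by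
    have := (Nat.prime_dvd_prime_iff_eq Nat.prime_three T.hq).1 (Nat.prime_three.dvd_of_dvd_pow e)
    have := T.h5; omega

theorem card_R : Nat.card (R : Subgroup G) = 9 := by
  have h1 : ¬ 3 ^ (2 + 1) ∣ Nat.card G := by
    rw [T.card, mul_assoc]; exact not_pow_dvd Nat.prime_three T.nd3
  obtain ⟨n, hn⟩ := R.isPGroup'.exists_card_eq
  have h2 := le_of_pow_dvd (hn ▸ card_subgroup_dvd_card _) h1
  have h3 := R.pow_dvd_card_of_pow_dvd_card (n := 2) (by rw [T.card, mul_assoc]; exact dvd_mul_right _ _)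
  rw [hn] at h3 ⊢
  rw [le_antisymm h2 ((Nat.pow_dvd_pow_iff_le_right (by norm_num)).1 h3)]; rfl

omit [Finite G] in
theorem nd2 : ¬ 2 ^ (a + 1) ∣ Nat.card G := by
  rw [T.card, mul_right_comm, mul_comm]; exact not_pow_dvd Nat.prime_two (odd_aux T.hq T.h5 b 2)

omit [Finite G] in
theorem d2 : 2 ^ a ∣ Nat.card G := T.card ▸ (dvd_mul_left _ _).mul_right _

omit [Finite G] in
theorem ndq : ¬ q ^ (b + 1) ∣ Nat.card G := by
  rw [T.card, mul_comm]; exact not_pow_dvd T.hq (not_dvd_six T.hq T.h5 a 2)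

omit [Finite G] in
theorem dq : q ^ b ∣ Nat.card G := T.card ▸ dvd_mul_left _ _

theorem R_ne : (R : Subgroup G) ≠ ⊥ := fun e => by have := T.card_R; simp [e] at this

theorem cases : (R : Subgroup G).relIndex (Nm R) = 2 ∨ (R : Subgroup G).relIndex (Nm R) = 4 ∨
    (R : Subgroup G).relIndex (Nm R) = 8 := by
  have := T.simple
  have h1 := T.sc.rel_dvd
  have h2 : (R : Subgroup G).relIndex (Nm R) ≠ 1 := fun e => transfer T.nc R T.R_ne
    ((relIndex_eq_one.1 e).trans fun x hx => mem_Ce.2 fun y hy => T.sc.comm hx hy)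
  rw [T.card_R] at h1
  have := Nat.le_of_dvd (by norm_num) h1
  generalize (R : Subgroup G).relIndex (Nm R) = e at *
  interval_cases e <;> omega

theorem exists_inv : ∃ t, t * t = 1 ∧ t ∉ (R : Subgroup G) ∧ ∀ x ∈ (R : Subgroup G), t * x * t⁻¹ = x⁻¹ :=
  T.sc.exists_inv (by rw [T.card_R]; norm_num) (by have := T.cases; omega)

theorem real {x : G} (hx : x ∈ (R : Subgroup G)) : IsConj x x⁻¹ :=
  let ⟨t, _, _, h⟩ := T.exists_inv
  isConj_iff.2 ⟨t, h x hx⟩

theorem exists_k : ∃ k ∈ (R : Subgroup G), orderOf k = 3 :=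
  exists_ord Nat.prime_three (by rw [T.card_R]; norm_num)

theorem index_Nm : (R : Subgroup G).relIndex (Nm R) * (Nm (R : Subgroup G)).index = 2 ^ a * q ^ b ∧
    (Nm (R : Subgroup G)).index % 9 = 1 := by
  have h1 := (Nm (R : Subgroup G)).card_mul_index
  have h2 := T.sc.card_sylow
  have h3 : (Nm (R : Subgroup G)).index ≠ 0 := index_ne_zero_of_finite
  rw [← card_mul_relIndex (le_Nm _), T.card_R, T.card, mul_assoc, mul_assoc] at h1
  rw [T.card_R] at h2
  exact ⟨by omega, by omega⟩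

theorem big : 60 ≤ Nat.card G := by
  have := T.simple
  obtain ⟨h1, h2⟩ := T.index_Nm
  have h3 : (Nm (R : Subgroup G)).index ≠ 1 := fun e => not_normal T.nc R.isPGroup' T.R_ne (index_eq_one.1 e)
  have h4 : 10 ≤ (Nm (R : Subgroup G)).index := by omega
  rw [T.card, mul_assoc, ← h1]
  rcases T.cases with e | e | e <;> rw [e] <;> omega

theorem index_ne {B : Subgroup G} (h : B.index ≠ 1) : 5 ≤ B.index := by
  have := T.simple
  have h1 := Nat.le_of_dvd (Nat.factorial_pos _) (no_small_index fun e => h (index_eq_one.2 e))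
  have h2 := T.big
  by_contra h3
  have := Nat.factorial_le (show B.index ≤ 4 by omega)
  simp only [Nat.factorial] at this
  omega

end St

end Cfsg.Agent.SC3
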