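import Cfsg.Agent.SC3.Fpf2
import Cfsg.Agent.SC3.Char

/-! Counting factorizations of an element of order three. -/

set_option autoImplicit false

namespace Cfsg.Agent.SC3

open Subgroup Finset Cfsg.Agent.CharLib

variable {H : Type*} [Group H] [Finite H]

instance fact3 : Fact (Nat.Prime 3) := ⟨Nat.prime_three⟩

/-- centralizer of an element -/
abbrev C1 (x : H) : Subgroup H := centralizer ({x} : Set H)

omit [Finite H] in
theorem mem_C1 {x y : H} : y ∈ C1 x ↔ Commute x y :=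
  mem_centralizer_singleton_iff.trans ⟨fun h => h.symm, fun h => h.symm⟩

omit [Finite H] in
theorem C1_cj (g x : H) : C1 (g * x * g⁻¹) = cj g (C1 x) := by
  ext y
  rw [mem_cj, mem_C1, mem_C1, ← commute_conj (g := g) (a := x)]
  simp [mul_assoc]

omit [Finite H] in
theorem sylow_smul {p : ℕ} (g : H) (P : Sylow p H) : ((g • P : Sylow p H) : Subgroup H) = cj g P := rfl

theorem sylow_conj {p : ℕ} [Fact p.Prime] (P Q : Sylow p H) : ∃ g, cj g (P : Subgroup H) = Q :=
  let ⟨g, hg⟩ := MulAction.exists_smul_eq H P Q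
  ⟨g, hg ▸ rfl⟩

omit [Finite H] in
theorem isP_zpowers {p n : ℕ} (hp : p.Prime) {x : H} (h : x ^ p ^ n = 1) : IsPGroup p (zpowers x) := by
  have := Fact.mk hp
  obtain ⟨j, -, hj⟩ := (Nat.dvd_prime_pow hp).1 (orderOf_dvd_of_pow_eq_one h)
  exact IsPGroup.of_card (n := j) (by rw [Nat.card_zpowers, hj])

omit [Finite H] in
theorem exists_sylow_mem {p n : ℕ} [hp : Fact p.Prime] {x : H} (h : x ^ p ^ n = 1) :
    ∃ P : Sylow p H, x ∈ (P : Subgroup H) :=
  let ⟨P, hP⟩ := (isP_zpowers hp.out h).exists_le_sylow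
  ⟨P, hP (mem_zpowers x)⟩

omit [Finite H] in
theorem mem_sylow_of_Nm {p n : ℕ} [hp : Fact p.Prime] {x : H} (h : x ^ p ^ n = 1) {P : Sylow p H}
    (hx : x ∈ Nm (P : Subgroup H)) : x ∈ (P : Subgroup H) :=
  (((isP_zpowers hp.out h).inf_normalizer_sylow P).le ⟨mem_zpowers x, hx⟩).2

omit [Finite H] in
theorem sylow_pow {p : ℕ} {P : Sylow p H} {x : H} (hx : x ∈ (P : Subgroup H)) : ∃ n, x ^ p ^ n = 1 :=
  let ⟨n, hn⟩ := P.isPGroup' ⟨x, hx⟩
  ⟨n, congrArg Subtype.val hn⟩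

/-- the Sylow 3-subgroups are strongly self-centralizing -/
def SS (H : Type*) [Group H] : Prop :=
  ∀ P : Sylow 3 H, ∀ x ∈ (P : Subgroup H), x ≠ 1 → C1 x = P

omit [Finite H] in
theorem pow_three_one {x : H} (h : orderOf x = 3) : x ^ 3 ^ 1 = 1 := by
  rw [pow_one, ← h, pow_orderOf_eq_one]

omit [Finite H] in
theorem ne_one_of_ord {x : H} (h : orderOf x = 3) : x ≠ 1 := fun e => by simp [e] at h

omit [Finite H] in
theorem SS.h3 (h : SS H) : H3 H := fun x y hx hc hy => by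
  obtain ⟨P, hP⟩ := exists_sylow_mem (pow_three_one hx)
  obtain ⟨n, hn⟩ := sylow_pow ((h P x hP (ne_one_of_ord hx)).le (mem_C1.2 hc))
  obtain ⟨j, -, hj⟩ := (Nat.dvd_prime_pow Nat.prime_three).1 (orderOf_dvd_of_pow_eq_one hn)
  rcases j with _ | j
  · exact orderOf_eq_one_iff.1 hj
  · exact absurd (hj ▸ dvd_pow_self 3 j.succ_ne_zero) hy

theorem ss_of (R : Sylow 3 H) (h : ∀ x ∈ (R : Subgroup H), x ≠ 1 → C1 x = R) : SS H := fun P x hx h1 => by
  obtain ⟨g, hg⟩ := sylow_conj R P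
  have := congrArg (cj g) (h _ (mem_cj.1 (hg ▸ hx)) fun e => h1 (by
    simpa [mul_assoc] using congrArg (fun t => g * t * g⁻¹) e))
  rw [← C1_cj, hg] at this
  simpa [mul_assoc] using this

/-- the union of the invariant subgroups of order prime to three -/
def WW (k : H) : Set H := {w | ∃ U, Iv k U ∧ w ∈ U}

omit [Finite H] in
theorem one_mem_WW (k : H) : 1 ∈ WW k := ⟨⊥, iv_bot k, one_mem _⟩

theorem tri (h : SS H) {k w : H} (hk : orderOf k = 3) (h1 : (w * k⁻¹) ^ 3 = 1)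
    (h2 : (w * k) ^ 3 = 1) : w ∈ WW k ∨ Commute k w := by
  have X : Cx k := ⟨h.h3, hk⟩
  have e1 : w * (k⁻¹ * w * k) * (k * w * k⁻¹) = 1 := by
    calc _ = w * k⁻¹ * w * (k * k) * w * k⁻¹ := by group
      _ = 1 := by rw [X.sq, ← h1, pow_three']; group
  have e2 : w * (k * w * k⁻¹) * (k⁻¹ * w * k) = 1 := by
    calc _ = w * k * w * (k⁻¹ * k⁻¹) * w * k := by group
      _ = 1 := by rw [X.inv.sq, ← h2, pow_three']; group
  have e3 : Commute (k * w * k⁻¹) (k⁻¹ * w * k) := mul_left_cancel (a := w) (by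
    rw [← mul_assoc w, e2, ← mul_assoc w, e1])
  have e4 : Commute w (k * w * k⁻¹) := by
    have := (commute_conj (g := k⁻¹)).2 e3
    convert this using 1
    · group
    · calc _ = (k⁻¹ * k⁻¹) * w * (k⁻¹ * k⁻¹)⁻¹ := by rw [X.inv.sq]; group
        _ = _ := by simp only [mul_assoc, mul_inv_rev, inv_inv]
  by_cases h3 : 3 ∣ orderOf w
  · right
    have h4 := orderOf_pow_orderOf_div (orderOf_pos w).ne' h3
    obtain ⟨P, hP⟩ := exists_sylow_mem (pow_three_one h4)
    have h5 := h P _ hP (ne_one_of_ord h4)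
    have h6 := h P _ (h5.le (mem_C1.2 (show Commute _ (k * w ^ (orderOf w / 3) * k⁻¹) by
      rw [← conj_pow]; exact e4.pow_pow _ _))) (ne_one_of_ord ((orderOf_conj _ _).trans h4))
    rw [C1_cj, h5, cj_eq_iff] at h6
    exact mem_C1.1 ((h P k (mem_sylow_of_Nm (pow_three_one hk) h6) X.ne_one).ge
      (h5.le (mem_C1.2 ((Commute.refl w).pow_left _))))
  · left
    let U : Subgroup H := closure {w, k * w * k⁻¹}
    have hw : w ∈ U := subset_closure (Or.inl rfl)
    have hb : k * w * k⁻¹ ∈ U := subset_closure (Or.inr rfl)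
    have : IsMulCommutative U := isMulCommutative_closure (by
      rintro _ (rfl | rfl) _ (rfl | rfl)
      exacts [rfl, e4, e4.symm, rfl])
    have h4 : ∀ x ∈ U, x ^ orderOf w = 1 := fun x hx => by
      induction hx using closure_induction with
      | mem x hx =>
        rcases hx with rfl | rfl
        · exact pow_orderOf_eq_one _
        · rw [conj_pow, pow_orderOf_eq_one]; group
      | one => exact one_pow _
      | mul x y hx hy i1 i2 => rw [Commute.mul_pow (setLike_mul_comm hx hy), i1, i2, one_mul]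
      | inv x hx i1 => rw [inv_pow, i1, inv_one]
    refine ⟨U, ⟨mem_Nm fun x hx => ?_, nd_of fun x hx e => h3 (e ▸ orderOf_dvd_of_pow_eq_one (h4 x hx))⟩, hw⟩
    suffices h5 : U ≤ cj k⁻¹ U by simpa using mem_cj.1 (h5 hx)
    refine (closure_le _).2 ?_
    rintro _ (rfl | rfl)
    · exact mem_cj.2 (by simpa using hb)
    · refine mem_cj.2 ?_
      convert mul_mem (inv_mem hw) (inv_mem hb) using 1
      calc _ = (k * k) * w * (k * k)⁻¹ := by group
        _ = w⁻¹ * (w * (k⁻¹ * w * k) * (k * w * k⁻¹)) * (k * w * k⁻¹)⁻¹ := by rw [X.sq]; group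
        _ = _ := by rw [e1]; group

omit [Finite H] in
open Classical in
theorem nF_eq [Fintype H] (x y k : H) :
    nF x y k = (univ.filter fun w => IsConj x (w * k⁻¹) ∧ IsConj y (k * w⁻¹ * k)).card := by
  refine card_nbij' (fun p => p.1 * k) (fun w => (w * k⁻¹, k * w⁻¹ * k)) ?_ ?_ ?_ ?_
  · rintro ⟨a, b⟩ h
    simp only [coe_filter, mem_product, mem_cls, mem_univ, true_and, Set.mem_ofPred_eq] at h ⊢
    obtain ⟨⟨h1, h2⟩, rfl⟩ := h
    exact ⟨by simpa [mul_assoc] using h1, by simpa [mul_assoc] using h2⟩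
  · intro w h
    simp only [coe_filter, mem_product, mem_cls, mem_univ, true_and, Set.mem_ofPred_eq] at h ⊢
    exact ⟨h, by group⟩
  · rintro ⟨a, b⟩ h
    simp only [coe_filter, Set.mem_ofPred_eq] at h
    rw [← h.2]; ext <;> simp [mul_assoc]
  · intro w _; simp

omit [Finite H] in
theorem cube_of_conj {x y : H} (h : IsConj x y) (hx : orderOf x = 3) : y ^ 3 = 1 := by
  obtain ⟨g, rfl⟩ := isConj_iff.1 h
  rw [← hx, ← orderOf_conj g, pow_orderOf_eq_one]

theorem tri' (h : SS H) {k w x y : H} (hk : orderOf k = 3) (hx : orderOf x = 3) (hy : orderOf y = 3)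
    (h1 : IsConj x (w * k⁻¹)) (h2 : IsConj y (k * w⁻¹ * k)) : w ∈ WW k ∨ Commute k w := by
  refine tri h hk (cube_of_conj h1 hx) ?_
  have h3 := cube_of_conj h2 hy
  have X : Cx k := ⟨h.h3, hk⟩
  rw [show w * k = k * (k * w⁻¹ * k)⁻¹ * k⁻¹ by
    conv_lhs => rw [← inv_inv k, ← X.inv.sq]
    group, conj_pow, inv_pow, h3]
  group

theorem conj_of_WW {k w : H} (X : Cx k) (h : w ∈ WW k) :
    IsConj k⁻¹ (w * k⁻¹) ∧ IsConj k⁻¹ (k * w⁻¹ * k) := by
  obtain ⟨U, hU, hw⟩ := h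
  obtain ⟨y, -, e⟩ := X.inv.surj hU.inv hw
  obtain ⟨z, -, e'⟩ := X.inv.surj hU.inv (Nm_conj hU.nm (inv_mem hw))
  refine ⟨isConj_iff.2 ⟨y⁻¹, by rw [e, inv_inv]⟩, isConj_iff.2 ⟨z⁻¹, ?_⟩⟩
  rw [inv_inv, ← e', mul_assoc, X.inv.sq, inv_inv]

omit [Finite H] in
theorem WW_comm {k w : H} (X : Cx k) (h : w ∈ WW k) (hc : Commute k w) : w = 1 :=
  let ⟨_, hU, hw⟩ := h
  X.fix hU hw hc

open Classical in
/-- the value at a real element of order three -/
noncomputable def cv (χ : IrrCharacter H) (k : H) : ℤ := ⌊((χ : H → ℂ) k).re⌋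

theorem cv_spec {k : H} (hk : orderOf k = 3) (hr : IsConj k k⁻¹) (χ : IrrCharacter H) :
    (χ : H → ℂ) k = cv χ k ∧ 3 ∣ (dg χ : ℤ) - cv χ k := by
  obtain ⟨s, h1, h2⟩ := val_three χ (hk ▸ pow_orderOf_eq_one k) hr
  have : cv χ k = s := by simp [cv, h1]
  exact this ▸ ⟨h1, h2⟩

omit [Finite H] in
theorem cv_triv (k : H) : cv (triv H) k = 1 := by simp [cv, triv_apply]

open Classical in
theorem sum_int_mul {x y : H} {c d : IrrCharacter H → ℤ} (hc : ∀ χ : IrrCharacter H, (χ : H → ℂ) x = c χ)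
    (hd : ∀ χ : IrrCharacter H, (χ : H → ℂ) y = d χ) :
    ∑ χ, c χ * d χ = if IsConj x y then (Nat.card (C1 y) : ℤ) else 0 := by
  have := sum_irr_mul_conj x y
  simp only [hc, hd, map_intCast] at this
  split_ifs at this ⊢ <;> exact_mod_cast this

theorem sum_dg_int {x : H} (h : x ≠ 1) {c : IrrCharacter H → ℤ}
    (hc : ∀ χ : IrrCharacter H, (χ : H → ℂ) x = c χ) : ∑ χ, (dg χ : ℤ) * c χ = 0 := by
  have := Fintype.ofFinite H
  have := sum_degree_mul x
  simp only [hc, dg_eq, regChar_of_ne h] at this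
  exact_mod_cast this

theorem frob_int [Fintype H] {x y z : H} {c d e : IrrCharacter H → ℤ}
    (hc : ∀ χ : IrrCharacter H, (χ : H → ℂ) x = c χ) (hd : ∀ χ : IrrCharacter H, (χ : H → ℂ) y = d χ)
    (he : ∀ χ : IrrCharacter H, (χ : H → ℂ) z⁻¹ = e χ) :
    (nF x y z : ℚ) * (Nat.card (C1 x) * Nat.card (C1 y)) =
      Nat.card H * ∑ χ, (c χ * d χ * e χ : ℚ) / dg χ := by
  have h := frob x y z
  simp only [hc, hd, he, dg_eq] at h
  have h1 : ((C1 x).index : ℂ) * Nat.card (C1 x) = Nat.card H := by exact_mod_cast index_mul_card _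
  have h2 : ((C1 y).index : ℂ) * Nat.card (C1 y) = Nat.card H := by exact_mod_cast index_mul_card _
  have h3 : (nF x y z : ℂ) * (Nat.card (C1 x) * Nat.card (C1 y)) =
      Nat.card H * ∑ χ, (c χ * d χ * e χ : ℂ) / dg χ := by
    refine mul_left_cancel₀ (card_ne_zero (G := H)) ?_
    linear_combination (Nat.card (C1 x) * Nat.card (C1 y) : ℂ) * h +
      (∑ χ, (c χ * d χ * e χ : ℂ) / dg χ) * ((C1 y).index * Nat.card (C1 y) * h1 + Nat.card H * h2)
  exact_mod_cast h3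

theorem small_sq {ι : Type*} {s : Finset ι} {f : ι → ℤ} {n : ℕ} (hn : n ≤ 3) (h : ∑ i ∈ s, f i ^ 2 = n) :
    (s.filter fun i => f i ≠ 0).card = n ∧ ∀ i ∈ s, f i ≠ 0 → f i = 1 ∨ f i = -1 := by
  have h1 : ∀ i ∈ s, f i ≠ 0 → f i = 1 ∨ f i = -1 := fun i hi h0 => by
    have := single_le_sum (f := fun i => f i ^ 2) (fun _ _ => sq_nonneg _) hi
    have h2 : f i ≤ 1 := by nlinarith [show (n : ℤ) ≤ 3 by exact_mod_cast hn]
    have h3 : -1 ≤ f i := by nlinarith [show (n : ℤ) ≤ 3 by exact_mod_cast hn]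
    omega
  refine ⟨?_, h1⟩
  rw [← sum_filter_of_ne (p := fun i => f i ≠ 0) (fun i _ h => by simpa using h),
    sum_congr rfl (g := fun _ => 1) (fun i hi => by
      rcases h1 i (mem_filter.1 hi).1 (mem_filter.1 hi).2 with e | e <;> simp [e])] at h
  simpa using h

theorem two_sq {ι : Type*} {s : Finset ι} {f : ι → ℤ} (h : ∑ i ∈ s, f i ^ 2 = 2) :
    ∃ a ∈ s, ∃ b ∈ s, a ≠ b ∧ (f a = 1 ∨ f a = -1) ∧ (f b = 1 ∨ f b = -1) ∧
      (∀ i ∈ s, i ≠ a → i ≠ b → f i = 0) ∧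
      ∀ {M : Type} [AddCommMonoid M] (g : ι → M), (∀ i, f i = 0 → g i = 0) → ∑ i ∈ s, g i = g a + g b := by
  classical
  obtain ⟨h1, h2⟩ := small_sq (n := 2) (by norm_num) h
  obtain ⟨a, b, hab, e⟩ := card_eq_two.1 h1
  have ha := mem_filter.1 (e.ge (mem_insert_self a _))
  have hb := mem_filter.1 (e.ge (mem_insert_of_mem (mem_singleton_self b)))
  refine ⟨a, ha.1, b, hb.1, hab, h2 a ha.1 ha.2, h2 b hb.1 hb.2, fun i hi i1 i2 => by_contra fun h0 => ?_,
    fun g hg => ?_⟩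
  · simpa [i1, i2] using e.le (mem_filter.2 ⟨hi, h0⟩)
  · rw [← sum_filter_of_ne (p := fun i => f i ≠ 0) (fun i _ h e => h (hg i e)), e, sum_pair hab]

/-- an element generating its centralizer -/
structure M3 (k : H) : Prop where
  ord : orderOf k = 3
  cen : ∀ x, Commute k x → x ∈ zpowers k

namespace M3

variable {k : H} (Y : M3 k)
include Y

omit [Finite H] in
theorem C1_eq : C1 k = zpowers k :=
  le_antisymm (fun x hx => Y.cen x (mem_C1.1 hx)) (zpowers_le.2 (mem_C1.2 rfl))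

theorem sylow : ∃ P : Sylow 3 H, (P : Subgroup H) = zpowers k := by
  obtain ⟨P, hP⟩ := exists_sylow_mem (pow_three_one Y.ord)
  refine ⟨P, le_antisymm ?_ (zpowers_le.2 hP)⟩
  have : Nontrivial P := ⟨⟨⟨k, hP⟩, 1, fun e => ne_one_of_ord Y.ord (congrArg Subtype.val e)⟩⟩
  have := P.isPGroup'.center_nontrivial
  obtain ⟨⟨z, hz⟩, h1⟩ := exists_ne (1 : center P)
  have h2 : ∀ x ∈ (P : Subgroup H), Commute (z : H) x := fun x hx =>
    (congrArg Subtype.val (mem_center_iff.1 hz ⟨x, hx⟩)).symm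
  have h3 := Y.cen _ (h2 k hP).symm
  have h4 : k ∈ zpowers (z : H) := by
    have h5 : (z : H) ≠ 1 := fun e => h1 (Subtype.ext (Subtype.ext e))
    refine (eq_of_card_le (zpowers_le.2 h3) ?_).ge (mem_zpowers k)
    rw [Nat.card_zpowers, Nat.card_zpowers, Y.ord]
    have h6 := Y.ord ▸ orderOf_dvd_of_mem_zpowers h3
    exact ((Nat.dvd_prime Nat.prime_three).1 h6).elim (fun e => absurd (orderOf_eq_one_iff.1 e) h5) Eq.ge
  intro x hx
  obtain ⟨n, rfl⟩ := h4
  exact Y.cen x ((h2 x hx).zpow_left n)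

theorem ss : SS H := by
  obtain ⟨P, hP⟩ := Y.sylow
  refine ss_of P fun x hx h1 => ?_
  rw [hP] at hx ⊢
  rcases zp3 Y.ord hx with e | e | e
  · exact absurd e h1
  · rw [e, Y.C1_eq]
  · rw [e, ← Y.C1_eq]; ext; simp [mem_C1]

theorem cx : Cx k := ⟨Y.ss.h3, Y.ord⟩

theorem conj {x : H} (hx : orderOf x = 3) : ∃ g, g * x * g⁻¹ = k ∨ g * x * g⁻¹ = k⁻¹ := by
  obtain ⟨P, hP⟩ := Y.sylow
  obtain ⟨Q, hQ⟩ := exists_sylow_mem (pow_three_one hx)
  obtain ⟨g, hg⟩ := sylow_conj Q P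
  exact ⟨g, (zp3 Y.ord (hP ▸ hg ▸ conj_mem_cj.2 hQ)).resolve_left
    (ne_one_of_ord ((orderOf_conj _ _).trans hx))⟩

theorem not_nine : ¬ 9 ∣ Nat.card H := fun h => by
  obtain ⟨P, hP⟩ := Y.sylow
  have := P.pow_dvd_card_of_pow_dvd_card (n := 2) h
  rw [hP, Y.cx.card_zp] at this
  omega

theorem compl (h : ¬ IsConj k k⁻¹) : ∃ K : Subgroup H, K.Normal ∧ Iv k K ∧ Nat.card H = 3 * Nat.card K := by
  obtain ⟨P, hP⟩ := Y.sylow
  have h1 : normalizer (P : Set H) ≤ centralizer (P : Set H) := fun g hg => by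
    have h2 := Nm_conj (U := (P : Subgroup H)) hg (hP.ge (mem_zpowers k))
    rcases zp3 Y.ord (hP.le h2) with e | e | e
    · exact absurd e (Y.cx.cj g).ne_one
    · refine (mem_Ce (U := (P : Subgroup H))).2 fun y hy => ?_
      obtain ⟨n, rfl⟩ := hP.le hy
      exact Commute.zpow_right (mul_inv_eq_iff_eq_mul.1 e) n
    · exact absurd (isConj_iff.2 ⟨g, e⟩) h
  refine ⟨_, MonoidHom.normal_ker _, ⟨by rw [Nm, normalizer_eq_top]; trivial,
    MonoidHom.not_dvd_card_ker_transferSylow P h1⟩, ?_⟩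
  have h2 : Nat.card (P : Subgroup H) = 3 := hP ▸ Y.cx.card_zp
  rw [← (MonoidHom.ker_transferSylow_isComplement' P h1).card_mul_card, h2, mul_comm]

theorem count : Nat.card H < 9 * (WW k).ncard := by
  classical
  by_cases hr : IsConj k k⁻¹
  swap
  · obtain ⟨K, -, h1, h2⟩ := Y.compl hr
    have h3 : (K : Set H).ncard ≤ (WW k).ncard := Set.ncard_le_ncard fun x hx => ⟨K, h1, hx⟩
    have := card_pos' K
    change Nat.card K ≤ _ at h3
    omega
  have := Fintype.ofFinite H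
  have h1 : nF k k k ≤ (WW k).ncard := by
    rw [nF_eq, ← Set.ncard_coe_finset]
    refine Set.ncard_le_ncard fun w hw => ?_
    simp only [coe_filter, mem_univ, true_and, Set.mem_ofPred_eq] at hw
    refine (tri' Y.ss Y.ord Y.ord Y.ord hw.1 hw.2).elim id fun h => ?_
    rcases zp3 Y.ord (Y.cen w h) with e | e | e <;> rw [e] at hw ⊢
    · exact one_mem_WW k
    · exact absurd (by simpa using hw.1) Y.cx.ne_one
    · rw [inv_inv, Y.cx.sq, inv_mul_cancel] at hw
      exact absurd (by simpa using hw.2) Y.cx.ne_one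
  have hc := fun χ => (cv_spec Y.ord hr χ).1
  have h2 := frob_int hc hc (z := k) fun χ =>
    (classFun_of_isConj (isChar_classFun (ch χ)) hr).symm.trans (hc χ)
  have h3 := sum_int_mul hc hc
  have h4 := sum_dg_int Y.cx.ne_one hc
  rw [if_pos (IsConj.refl k)] at h3
  rw [Y.C1_eq, Y.cx.card_zp] at h2 h3
  rw [← add_sum_erase _ _ (mem_univ (triv H))] at h2 h3 h4
  simp only [cv_triv, dg_triv, ← sq] at h2 h3 h4
  obtain ⟨a, -, b, -, -, ha, hb, -, hs⟩ := two_sq (f := fun χ => cv χ k) (s := univ.erase (triv H))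
    (by push_cast at h3; linarith)
  rw [hs _ fun i hi => by simp [hi]] at h2 h4
  have h5 : (0 : ℚ) < cv a k ^ 2 * cv a k / dg a + cv b k ^ 2 * cv b k / dg b := by
    have i1 := dg_pos a
    have i2 := dg_pos b
    have j1 : (0 : ℚ) < dg a := by exact_mod_cast i1
    have j2 : (0 : ℚ) < dg b := by exact_mod_cast i2
    rcases ha with e | e <;> rcases hb with e' | e' <;> rw [e, e'] at h4 ⊢
    · omega
    · have : (dg b : ℚ) = dg a + 1 := by exact_mod_cast (by omega : dg b = dg a + 1)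
      rw [this]; field_simp; push_cast; linarith
    · have : (dg a : ℚ) = dg b + 1 := by exact_mod_cast (by omega : dg a = dg b + 1)
      rw [this]; field_simp; push_cast; linarith
    · omega
  have h6 : (0 : ℚ) < Nat.card H := by exact_mod_cast Nat.card_pos
  have h7 : (Nat.card H : ℚ) < 9 * nF k k k := by push_cast at h2; nlinarith
  have h8 : Nat.card H < 9 * nF k k k := by exact_mod_cast h7
  omega

end M3

end Cfsg.Agent.SC3
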