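import Cfsg.Agent.SC3.E8a

/-! Automizer of order two: exceptional characters. -/

set_option autoImplicit false

namespace Cfsg.Agent.SC3

open Subgroup Finset Cfsg.Agent.CharLib
open scoped ComplexConjugate

theorem common {ι κ : Type*} {L : Finset ι} {P M : ι → κ} (h : ∀ i ∈ L, ∀ j ∈ L, P i = P j ∨ M i = M j) :
    (∀ i ∈ L, ∀ j ∈ L, P i = P j) ∨ ∀ i ∈ L, ∀ j ∈ L, M i = M j := by
  by_contra h0
  push Not at h0
  obtain ⟨⟨i, hi, j, hj, h1⟩, u, hu, v, hv, h2⟩ := h0
  have := h i hi j hj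
  have := h u hu v hv
  have := h u hu i hi
  have := h u hu j hj
  have := h v hv i hi
  have := h v hv j hj
  grind

variable {G : Type*} [Group G] [Finite G]

/-- the complex conjugate character -/
def bar (l : IrrCharacter G) : IrrCharacter G :=
  ⟨fun g => conj ((l : G → ℂ) g), have := Fintype.ofFinite G; isIrr_star l.2⟩

theorem bar_bar (l : IrrCharacter G) : bar (bar l) = l := Subtype.ext (funext fun _ => Complex.conj_conj _)

theorem bar_triv : bar (triv G) = triv G := Subtype.ext (funext fun _ => map_one _)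

/-- the exceptional characters -/
structure Ex (R : Subgroup G) (ψ : IrrCharacter G) (δ : ℤ) (X : Finset (IrrCharacter G)) : Prop where
  hδ : δ = 1 ∨ δ = -1
  ne : ψ ≠ triv G
  nX : ψ ∉ X
  tX : triv G ∉ X
  card : X.card = 4
  vψ : ∀ x ∈ R, x ≠ 1 → (ψ : G → ℂ) x = δ
  vX : ∀ χ ∈ X, ∀ g, (∀ x ∈ R, x ≠ 1 → ¬ IsConj g x) → (χ : G → ℂ) g = (ψ : G → ℂ) g + δ
  v0 : ∀ η, η ≠ triv G → η ≠ ψ → η ∉ X → ∀ x ∈ R, x ≠ 1 → (η : G → ℂ) x = 0

namespace St

variable {R : Sylow 3 G} {q a b : ℕ} (T : St R q a b) (h2 : (R : Subgroup G).relIndex (Nm R) = 2)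
include T

theorem ne_inv {x : G} (hx : x ∈ (R : Subgroup G)) (h1 : x ≠ 1) : x ≠ x⁻¹ := fun e => h1 (by
  have i1 := T.card_R ▸ Subgroup.orderOf_dvd_natCard _ hx
  have i2 : orderOf x ∣ 2 := orderOf_dvd_of_pow_eq_one (by rw [sq, ← eq_inv_iff_mul_eq_one]; exact e)
  exact orderOf_eq_one_iff.1 (Nat.eq_one_of_dvd_coprimes (by norm_num) i1 i2))

include h2

theorem conj2 {x y : G} (hx : x ∈ (R : Subgroup G)) (hy : y ∈ (R : Subgroup G)) (h1 : y ≠ 1) :
    IsConj x y ↔ x = y ∨ x = y⁻¹ := by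
  classical
  have h3 : {y, y⁻¹} = Oc R y := eq_of_subset_of_card_le (by
    simp only [insert_subset_iff, singleton_subset_iff, mem_Oc]
    exact ⟨⟨hy, IsConj.refl y⟩, inv_mem hy, T.real hy⟩) (by
      rw [T.sc.card_Oc hy h1, h2, card_pair (T.ne_inv hy h1)])
  simpa [mem_Oc, hx, isConj_comm (g := x), -isConj_iff] using (Finset.ext_iff.1 h3 x).symm

theorem sum_res [Fintype (R : Subgroup G)] (u v : ↥(R : Subgroup G) → ℂ) (hv : v 1 = 0) :
    ∑ η : IrrCharacter G, classInner (fun h : (R : Subgroup G) => (η : G → ℂ) h) u *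
      conj (classInner (fun h : (R : Subgroup G) => (η : G → ℂ) h) v) =
        classInner v u + classInner v fun h => u h⁻¹ := by
  classical
  have h : ∀ y : (R : Subgroup G), ∑ x : (R : Subgroup G), ∑ η : IrrCharacter G,
      (η : G → ℂ) x * conj (u x) * (conj ((η : G → ℂ) y) * v y) = 9 * (v y * conj (u y) + v y * conj (u y⁻¹)) := by
    intro y
    by_cases e : y = 1
    · simp [e, hv]
    have e' : (y : G) ≠ 1 := fun e' => e (Subtype.ext e')
    have h1 : ∀ x : (R : Subgroup G), ∑ η : IrrCharacter G,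
        (η : G → ℂ) x * conj (u x) * (conj ((η : G → ℂ) y) * v y) =
          if x ∈ ({y, y⁻¹} : Finset _) then 9 * (v y * conj (u x)) else 0 := fun x => by
      rw [sum_congr rfl fun η _ => mul_mul_mul_comm _ _ _ _, ← sum_mul, sum_irr_mul_conj, T.C1_card y.2 e']
      simp only [T.conj2 h2 x.2 y.2 e', mem_insert, mem_singleton, Subtype.ext_iff, Subgroup.coe_inv]
      split_ifs
      · push_cast; ring
      · exact zero_mul _
    simp only [h1]
    rw [sum_ite_mem, univ_inter, sum_pair fun e => T.ne_inv y.2 e' (congrArg Subtype.val e), mul_add]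
  simp only [classInner, T.card_R, map_mul, map_sum, Complex.conj_conj, map_inv₀, map_natCast]
  rw [sum_congr rfl fun η _ => mul_mul_mul_comm _ _ _ _, ← mul_sum]
  simp only [sum_mul_sum]
  rw [sum_comm]
  simp only [sum_comm (s := (univ : Finset (IrrCharacter G))) (t := (univ : Finset (R : Subgroup G)))]
  rw [sum_comm]
  simp only [h]
  rw [← mul_sum, sum_add_distrib]
  push_cast; ring

omit T h2 in
theorem sum_res' [Fintype (R : Subgroup G)] (v : ↥(R : Subgroup G) → ℂ) (hv : v 1 = 0) {g : G}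
    (hg : ∀ x ∈ (R : Subgroup G), x ≠ 1 → ¬ IsConj g x) : ∑ η : IrrCharacter G, (η : G → ℂ) g *
      conj (classInner (fun h : (R : Subgroup G) => (η : G → ℂ) h) v) = 0 := by
  classical
  simp only [classInner, map_mul, map_sum, Complex.conj_conj, mul_sum]
  rw [sum_comm]
  refine sum_eq_zero fun y _ => ?_
  by_cases e : y = 1
  · simp [e, hv]
  have := sum_irr_mul_conj g y
  rw [if_neg (hg y y.2 fun e' => e (Subtype.ext e'))] at this
  rw [sum_congr rfl fun η _ => mul_left_comm _ _ _, ← mul_sum, sum_congr rfl fun η _ => (mul_assoc _ _ _).symm,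
    ← sum_mul, this, zero_mul, mul_zero]

theorem ex : ∃ ψ δ X, Ex (R : Subgroup G) ψ δ X := by
  classical
  have := Fintype.ofFinite (R : Subgroup G)
  have := T.simple
  have hcm : ∀ x y : (R : Subgroup G), x * y = y * x := fun x y => Subtype.ext (T.sc.comm x.2 y.2)
  have hl : ∀ l : IrrCharacter (R : Subgroup G), l.1 1 = 1 := fun l => isIrr_degree_of_comm hcm l.2
  choose c hc using fun (η : IrrCharacter G) (l : IrrCharacter (R : Subgroup G)) => inner_gen_int
    (isGen_of_isChar (isChar_comp (R : Subgroup G).subtype (ch η))) (isGen_sub (isGen_of_irr (triv _).2) (isGen_of_irr l.2))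
  simp only [coe_subtype] at hc
  let L := univ.erase (triv (R : Subgroup G))
  have hL : L.card = 8 := by
    have := sum_dg_sq (G := (R : Subgroup G))
    rw [sum_congr rfl (g := fun _ => 1) (fun l _ => by
      rw [show dg l = 1 by exact_mod_cast (dg_eq l).symm.trans (hl l), one_pow]), T.card_R, sum_const] at this
    rw [card_erase_of_mem (mem_univ _)]
    simp only [smul_eq_mul] at this
    omega
  have hb : ∀ l ∈ L, bar l ∈ L ∧ l ≠ bar l := fun l h => ⟨mem_erase.2 ⟨fun e => ne_of_mem_erase h (by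
    rw [← bar_bar l, e, bar_triv]), mem_univ _⟩, fun e => ne_of_mem_erase h (eq_triv fun x => by
      have i0 := isChar_mul_of_degree_one (ch l) (hl l)
      have i1 : l.1 (x ^ 2) = 1 := by
        rw [sq, i0, (congrFun (congrArg Subtype.val e) x).trans (isChar_conj (ch l) x)]
        nth_rewrite 2 [← (congrFun (congrArg Subtype.val e) x).trans (isChar_conj (ch l) x)]
        rw [← i0, inv_mul_cancel, hl]
      have i2 : x = (x ^ 2) ^ 5 := by rw [← pow_mul, show 2 * 5 = 9 + 1 from rfl, pow_succ, ← T.card_R,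
        pow_card_eq_one', one_mul]
      rw [hl, i2, lin_pow (hl l) i0, i1, one_pow])⟩
  have h0 : ∀ l : IrrCharacter (R : Subgroup G), ((triv (R : Subgroup G)).1 - l.1) 1 = 0 := fun l => by
    simp [hl]
  have h1 : ∀ l ∈ L, ∀ m ∈ L, ∑ η, c η l * c η m = 2 + (if m = l then 1 else 0) + if m = bar l then 1 else 0 :=
    fun l i1 m i2 => by
      have i3 := T.sum_res h2 ((triv _).1 - l.1) _ (h0 m)
      rw [show (fun h => ((triv (R : Subgroup G)).1 - l.1) h⁻¹) = (triv _).1 - (bar l).1 from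
        funext fun h => by simp [bar, isChar_conj (ch l), triv_apply]] at i3
      simp only [hc, map_intCast] at i3
      simp only [CharLib.inner_sub_left, CharLib.inner_sub_right, inner_irr', if_neg (ne_of_mem_erase i1).symm, if_true,
        if_neg (ne_of_mem_erase i2), if_neg (ne_of_mem_erase (hb l i1).1).symm] at i3
      have : ((∑ η, c η l * c η m : ℤ) : ℂ) = (2 + (if m = l then 1 else 0) + (if m = bar l then 1 else 0) : ℤ) := by
        push_cast; linear_combination i3
      exact_mod_cast this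
  have h3 : ∀ l, ∀ g, (∀ x ∈ (R : Subgroup G), x ≠ 1 → ¬ IsConj g x) → ∑ η : IrrCharacter G, (η : G → ℂ) g * c η l = 0 :=
    fun l g hg => by simpa only [hc, map_intCast] using sum_res' _ (h0 l) hg
  have h4 : ∀ l ∈ L, c (triv G) l = 1 := fun l i1 => by
    have := hc (triv G) l
    rw [show (fun h : (R : Subgroup G) => (triv G).1 h) = (triv _).1 from rfl, CharLib.inner_sub_right, inner_irr', inner_irr',
      if_pos rfl, if_neg (ne_of_mem_erase i1).symm] at this
    exact_mod_cast this.symm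
  have h5 : ∀ η : IrrCharacter G, ∀ d : ℤ, (∀ l ∈ L, c η l = d) → ∀ x ∈ (R : Subgroup G), x ≠ 1 →
      (η : G → ℂ) x = d := fun η d h x hx e => by
    have i1 := congrFun (isChar_eq_sum_inner (isChar_comp (R : Subgroup G).subtype (ch η))) ⟨x, hx⟩
    have i2 := sum_degree_mul (⟨x, hx⟩ : (R : Subgroup G))
    simp only [hl, one_mul, regChar_of_ne (show (⟨x, hx⟩ : (R : Subgroup G)) ≠ 1 from
      fun e' => e (congrArg Subtype.val e'))] at i2
    simp only [coe_subtype, Finset.sum_apply, Pi.smul_apply, smul_eq_mul] at i1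
    rw [← add_sum_erase _ _ (mem_univ (triv _))] at i1 i2
    rw [sum_congr rfl (g := fun l => (classInner (fun h : (R : Subgroup G) => (η : G → ℂ) h) (triv _).1 - d) *
      l.1 ⟨x, hx⟩) (fun l i => by rw [← h l i, ← hc, CharLib.inner_sub_right, sub_sub_cancel]), ← mul_sum] at i1
    rw [triv_apply] at i1 i2
    rw [i1, eq_neg_of_add_eq_zero_right i2]; ring
  have h6 : ∀ l ∈ L, ∃ p m : IrrCharacter G, p ≠ triv G ∧ m ≠ triv G ∧ p ≠ m ∧ ∀ η, η ≠ triv G →
      c η l = (if η = p then 1 else 0) - if η = m then 1 else 0 := fun l i1 => by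
    have i2 := h1 l i1 l i1
    have i3 := h3 l 1 fun x _ e e' => e (isConj_one_right.1 e')
    rw [← add_sum_erase _ _ (mem_univ (triv G)), h4 l i1] at i2 i3
    rw [if_pos rfl, if_neg (hb l i1).2] at i2
    obtain ⟨α, j1, β, j2, j3, j4, j5, j6, j7⟩ := two_sq (s := univ.erase (triv G)) (f := fun η => c η l)
      (by simp only [sq]; omega)
    rw [j7 _ fun i hi => by simp [hi]] at i3
    simp only [dg_eq, dg_triv] at i3
    have i4 : 1 + (dg α * c α l + dg β * c β l) = 0 := by exact_mod_cast i3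
    have i5 := one_lt_dg T.nc (ne_of_mem_erase j1)
    have i6 := one_lt_dg T.nc (ne_of_mem_erase j2)
    have i7 : ∀ η, η ≠ triv G → c η l = (if η = α then c α l else 0) + if η = β then c β l else 0 := fun η e => by
      by_cases e1 : η = α
      · simp [e1, j3]
      by_cases e2 : η = β
      · simp [e2, j3.symm]
      simp [e1, e2, j6 η (mem_erase.2 ⟨e, mem_univ _⟩) e1 e2]
    rcases j4 with e | e <;> rcases j5 with e' | e' <;> rw [e, e'] at i4 i7
    · omega
    · exact ⟨α, β, ne_of_mem_erase j1, ne_of_mem_erase j2, j3, fun η h => by rw [i7 η h]; split_ifs <;> rfl⟩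
    · exact ⟨β, α, ne_of_mem_erase j2, ne_of_mem_erase j1, j3.symm, fun η h => by rw [i7 η h]; split_ifs <;> rfl⟩
    · omega
  have : Nonempty (IrrCharacter G) := ⟨triv G⟩
  choose! P M p1 p2 p3 p4 using h6
  have h7 : ∀ l ∈ L, ∀ m ∈ L, (P l = P m ∨ M l = M m) ∧ (P l = P m ∧ M l = M m ↔ m = l ∨ m = bar l) :=
    fun l i1 m i2 => by
      have i3 := h1 l i1 m i2
      rw [← add_sum_erase _ _ (mem_univ (triv G)), h4 l i1, h4 m i2, sum_congr rfl fun η h => by
        rw [p4 l i1 η (ne_of_mem_erase h), sub_mul, ite_mul, ite_mul], sum_sub_distrib] at i3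
      simp only [sum_ite_eq', mem_erase, mem_univ, p1 l i1, p2 l i1, ne_eq, not_false_eq_true, and_self, if_true,
        zero_mul, one_mul, p4 m i2 _ (p1 l i1), p4 m i2 _ (p2 l i1)] at i3
      have := p3 l i1
      have := p3 m i2
      have := (hb l i1).2
      grind
  obtain ⟨l₀, hl₀⟩ := card_pos.1 (hL ▸ (by norm_num : 0 < 8))
  obtain ⟨δ, ψ, χ, k1, k2, k3, k4⟩ : ∃ (δ : ℤ) (ψ : IrrCharacter G) (χ : _ → IrrCharacter G), (δ = 1 ∨ δ = -1) ∧
      ψ ≠ triv G ∧ (∀ l ∈ L, χ l ≠ triv G ∧ χ l ≠ ψ ∧ ∀ η, η ≠ triv G →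
        c η l = (if η = ψ then δ else 0) - if η = χ l then δ else 0) ∧
      ∀ l ∈ L, ∀ m ∈ L, (χ l = χ m ↔ m = l ∨ m = bar l) := by
    rcases common fun l i m j => (h7 l i m j).1 with e | e
    · exact ⟨1, P l₀, M, Or.inl rfl, p1 _ hl₀, fun l i => ⟨p2 l i, e l i _ hl₀ ▸ (p3 l i).symm,
        e l i _ hl₀ ▸ p4 l i⟩, fun l i m j => by rw [← (h7 l i m j).2, and_iff_right (e l i m j)]⟩
    · exact ⟨-1, M l₀, P, Or.inr rfl, p2 _ hl₀, fun l i => ⟨p1 l i, e l i _ hl₀ ▸ p3 l i, fun η h => by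
        rw [p4 l i η h, e l i _ hl₀]; split_ifs <;> rfl⟩,
        fun l i m j => by rw [← (h7 l i m j).2, and_iff_left (e l i m j)]⟩
  refine ⟨ψ, δ, L.image χ, k1, k2, fun h => ?_, fun h => ?_, ?_, h5 ψ δ fun l i => ?_, fun η h g hg => ?_,
    fun η i1 i2 i3 x hx e => ?_⟩
  · obtain ⟨l, i, e⟩ := mem_image.1 h
    exact (k3 l i).2.1 e
  · obtain ⟨l, i, e⟩ := mem_image.1 h
    exact (k3 l i).1 e
  · have := card_eq_sum_card_image χ L
    rw [sum_congr rfl (g := fun _ => 2) (fun η h => by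
      obtain ⟨l, i, rfl⟩ := mem_image.1 h
      rw [← card_pair (hb l i).2]
      congr 1
      ext m
      simp only [mem_filter, mem_insert, mem_singleton]
      exact ⟨fun h => (k4 l i m h.1).1 h.2.symm, fun h => by
        have : m ∈ L := h.elim (· ▸ i) (· ▸ (hb l i).1)
        exact ⟨this, ((k4 l i m this).2 h).symm⟩⟩), sum_const, smul_eq_mul] at this
    omega
  · rw [(k3 l i).2.2 ψ k2, if_pos rfl, if_neg (k3 l i).2.1.symm, sub_zero]
  · obtain ⟨l, i, rfl⟩ := mem_image.1 h
    have i3 := h3 l g hg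
    rw [← add_sum_erase _ _ (mem_univ (triv G)), h4 l i, sum_congr rfl fun η h => by
      rw [(k3 l i).2.2 η (ne_of_mem_erase h), Int.cast_sub, mul_sub, Int.cast_ite, Int.cast_ite, mul_ite, mul_ite],
      sum_sub_distrib] at i3
    simp only [Int.cast_zero, mul_zero, sum_ite_eq', mem_erase, mem_univ, k2, (k3 l i).1, ne_eq, not_false_eq_true,
      and_self, if_true, triv_apply] at i3
    rcases k1 with rfl | rfl <;> push_cast at i3 ⊢
    · linear_combination -i3
    · linear_combination i3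
  · exact_mod_cast h5 η 0 (fun l i => by
      rw [(k3 l i).2.2 η i1, if_neg i2, if_neg fun e => i3 (mem_image.2 ⟨l, i, e.symm⟩), sub_zero]) x hx e

end St

end Cfsg.Agent.SC3
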