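import Cfsg.Agent.SC3.E2b

/-! Automizer of order two: the order of the group. -/

set_option autoImplicit false

namespace Cfsg.Agent.SC3

open Subgroup Finset Cfsg.Agent.CharLib
open scoped ComplexConjugate

variable {G : Type*} [Group G] [Finite G]

namespace St

variable {R : Sylow 3 G} {q a b : ℕ} (T : St R q a b)
variable {ψ : IrrCharacter G} {δ : ℤ} {X : Finset (IrrCharacter G)} (E : Ex (R : Subgroup G) ψ δ X)
include T E

theorem invol {χ : IrrCharacter G} (h : χ ∈ X) : ∃ t : G, t * t = 1 ∧ t ≠ 1 ∧ (∀ u, u * u = 1 → u ≠ 1 → IsConj t u) ∧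
    Nat.card (C1 t) = 2 ^ a ∧ ((dg ψ = 2 ^ a ∧ dg χ = q ∧ (ψ : G → ℂ) t = (0 : ℤ)) ∨
      (dg ψ = q ∧ dg χ = 2 ^ a ∧ (ψ : G → ℂ) t = (-δ : ℤ))) := by
  classical
  have := Fintype.ofFinite G
  have := T.simple
  obtain ⟨t, h1, h2, h3⟩ := T.exists_inv
  obtain ⟨k, hk, ho⟩ := T.exists_k
  have k1 := ne_one_of_ord ho
  have t1 : t ≠ 1 := fun e => h2 (e ▸ one_mem _)
  have ti : t⁻¹ = t := inv_eq_of_mul_eq_one_right h1
  have h4 : ∀ r ∈ (R : Subgroup G), IsConj t (t * r) := fun r hr => isConj_iff.2 ⟨(r ^ 5)⁻¹, by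
    have i1 : r ^ 9 = 1 := by rw [← T.card_R]; exact congrArg Subtype.val (pow_card_eq_one' (x := (⟨r, hr⟩ : (R : Subgroup G))))
    calc _ = t * r ^ 5 * t⁻¹ * t * r ^ 5 := by rw [h3 _ (pow_mem hr 5), inv_inv]
      _ = t * (r ^ 9 * r) := by group
      _ = _ := by rw [i1, one_mul]⟩
  have h5 : ∀ u p, p ∈ (cls u ×ˢ cls u).filter (fun p => p.1 * p.2 = k) → u * u = 1 →
      t⁻¹ * p.1 ∈ (R : Subgroup G) := fun u p hp hu => by
    simp only [mem_filter, mem_product, mem_cls] at hp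
    have i1 : ∀ v, IsConj u v → v⁻¹ = v := fun v hv => by
      obtain ⟨c, rfl⟩ := isConj_iff.1 hv
      exact inv_eq_of_mul_eq_one_right (by rw [conj_mul, hu]; group)
    have i2 : p.1 * k * p.1⁻¹ = k⁻¹ := by
      rw [← hp.2, mul_inv_rev, i1 _ hp.1.2, ← mul_assoc]
      nth_rewrite 1 [← i1 _ hp.1.1]
      group
    refine T.sc.mem hk k1 ?_
    calc k * (t⁻¹ * p.1) = t⁻¹ * (t * k * t⁻¹) * p.1 := by group
      _ = _ := by rw [h3 k hk, ← i2]; group
  have h6 : ∀ u, u * u = 1 → u ≠ 1 → IsConj t u := fun u i1 i2 => by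
    obtain ⟨s, hs, -⟩ := val_two ψ i1
    have i3 := T.pairs E h i1 hk k1 hs
    obtain ⟨p, hp⟩ := card_pos.1 (Nat.pos_of_ne_zero fun e : nF u u k = 0 => by
      rw [e, Nat.cast_zero, zero_mul, zero_mul, eq_comm, mul_eq_zero, sq_eq_zero_iff, sub_eq_zero] at i3
      refine i3.elim (by exact_mod_cast Nat.card_pos.ne') fun e => faithful E.ne i2 ?_
      rw [hs, dg_eq, ← e, Int.cast_natCast])
    have := h4 _ (h5 u p hp i1)
    rw [mul_inv_cancel_left] at this
    exact this.trans (mem_cls.1 (mem_product.1 (mem_filter.1 hp).1).1).symm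
  have h7 : nF t t k = 9 := by
    rw [← T.card_R, Nat.card_eq_fintype_card, nF, ← Fintype.card_coe]
    refine Fintype.card_congr ⟨fun p => ⟨_, h5 t p p.2 h1⟩, fun r => ⟨(t * r, t * (r * k)), ?_⟩, fun p => ?_,
      fun r => by simp⟩
    · simp only [mem_filter, mem_product, mem_cls]
      refine ⟨⟨h4 _ r.2, h4 _ (mul_mem r.2 hk)⟩, ?_⟩
      calc _ = t * r * t⁻¹ * (r * k) := by rw [ti]; group
        _ = _ := by rw [h3 _ r.2]; group
    · have i1 := (mem_filter.1 p.2).2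
      have i2 := h3 _ (h5 t p p.2 h1)
      refine Subtype.ext (Prod.ext (by simp) (mul_left_cancel (a := p.1.1) ?_))
      rw [i1]
      change p.1.1 * (t * (t⁻¹ * p.1.1 * k)) = k
      calc _ = t * (t⁻¹ * p.1.1) * t * (t⁻¹ * p.1.1) * k := by group
        _ = t * (t⁻¹ * p.1.1) * t⁻¹ * (t⁻¹ * p.1.1) * k := by rw [ti]
        _ = _ := by rw [i2]; group
  obtain ⟨s, hs, -⟩ := val_two ψ h1
  have h8 := T.pairs E h h1 hk k1 hs
  obtain ⟨rfl, x, hx, h9⟩ := T.degs E h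
  obtain ⟨c, hc⟩ : 2 ^ a ∣ Nat.card (C1 t) := by
    obtain ⟨S, hS⟩ := Sylow.exists_subgroup_card_pow_prime 2 T.d2
    rcases a with _ | a
    · simp
    obtain ⟨z, hz, i1⟩ := exists_central (IsPGroup.of_card hS) fun e => by simp [e] at hS; omega
    obtain ⟨u, hu, i2⟩ := exists_ord (U := S ⊓ Ce S) Nat.prime_two (by
      obtain ⟨n, hn⟩ := ((IsPGroup.of_card hS).to_le (inf_le_left : S ⊓ Ce S ≤ S)).exists_card_eq
      rw [hn]
      refine dvd_pow_self 2 fun e => i1 ((eq_bot_of_card_eq _ (by rw [hn, e, pow_zero])).le hz))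
    obtain ⟨g, rfl⟩ := isConj_iff.1 (h6 u (by rw [← sq, ← i2, pow_orderOf_eq_one]) fun e => by simp [e] at i2)
    rw [← card_cj g, ← C1_cj, ← hS]
    exact card_dvd_of_le fun x hx => mem_C1.2 (mem_Ce.1 hu.2 x hx)
  have h10 : ∀ η : IrrCharacter G, η ≠ triv G → ∀ v : ℤ, (η : G → ℂ) t = v → -dg η < v ∧ v < dg η := fun η e v hv => by
    have := norm_lt T.nc e t1
    rw [hv, Complex.norm_intCast] at this
    exact abs_lt.1 (by exact_mod_cast this)
  have h11 := h10 ψ E.ne s hs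
  have h12 := h10 χ (fun e => E.tX (e ▸ h)) (s + δ) (by
    rw [E.vX χ h t (T.nconj (n := 1) (by simpa [sq] using h1)), hs]; push_cast; rfl)
  have h13 := dX E h
  have h14 : dg ψ * dg χ = 2 ^ x * q := by rcases h9 with e | e <;> rw [e.1, e.2, mul_comm]
  have h15 := sq_aux (a := a) (c := c) (D := dg ψ - s) hx (by omega) (by
    rcases h9 with e | e
    · have := congrArg (Nat.cast (R := ℤ)) e.1; push_cast at this; omega
    · have := congrArg (Nat.cast (R := ℤ)) e.2; push_cast at this; omega) (by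
      rw [h7, hc, T.card, ← Nat.cast_mul, h14] at h8
      refine mul_left_cancel₀ (show (9 * q : ℤ) ≠ 0 by have := T.h5; omega) ?_
      push_cast at h8 ⊢
      linear_combination h8)
  obtain ⟨rfl, rfl, h16⟩ := h15
  refine ⟨t, h1, t1, h6, by rw [hc, mul_one], h9.imp (fun e => ⟨e.1, e.2, ?_⟩) fun e => ⟨e.1, e.2, ?_⟩⟩
  · have := congrArg (Nat.cast (R := ℤ)) e.1; push_cast at this
    rw [hs, show s = 0 by omega]
  · have := congrArg (Nat.cast (R := ℤ)) e.2; push_cast at this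
    rw [hs, show s = -δ by omega]

theorem small {χ : IrrCharacter G} (h : χ ∈ X) : dg ψ ≤ 82 := by
  classical
  have := Fintype.ofFinite G
  obtain ⟨t, h1, h2, -, -, h3⟩ := T.invol E h
  obtain ⟨rfl, -⟩ := T.degs E h
  choose v hv hv' using fun η : IrrCharacter G => val_two η h1
  have h4 := sum_dg_int h2 hv
  obtain ⟨Y, i1, i2⟩ := split_sum E fun η => (dg η : ℤ) * v η
  have h5 := dX E h
  have h6 := E.hδ
  have h7 := T.h5
  have ha : 4 ∣ 2 ^ a := pow_dvd_pow 2 (show 2 ≤ a by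
    by_contra e
    have : 2 ^ a ≤ 2 ^ 1 := Nat.pow_le_pow_right two_pos (by omega)
    omega)
  rw [i2, sum_congr rfl (g := fun _ => (dg ψ + δ) * (v ψ + δ)) (fun η h => by
    have := E.vX η h t (T.nconj (n := 1) (by simpa [sq] using h1))
    rw [hv, hv] at this
    rw [dX E h, show v η = v ψ + δ by exact_mod_cast this]), sum_const, E.card, dg_triv,
    show v (triv G) = 1 by exact_mod_cast (hv (triv G)).symm.trans (triv_apply t)] at h4
  obtain ⟨ζ, hζ, h8⟩ : ∃ ζ ∈ Y, dg ζ = 9 := by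
    by_contra h8
    have j1 : (4 : ℤ) ∣ ∑ η ∈ Y, (dg η : ℤ) * v η := dvd_sum fun η hη => by
      obtain ⟨d, hd⟩ : 9 ∣ dg η := by
        have := T.mod9 (c := 0) (by exact_mod_cast E.v0 η (i1 η hη).1 (i1 η hη).2.1 (i1 η hη).2.2)
        omega
      have j2 := dg_dvd η
      have j3 := single_le_sum (f := fun η : IrrCharacter G => dg η ^ 2) (fun _ _ => Nat.zero_le _) (mem_univ η)
      rw [sum_dg_sq, T.card, pow_one, hd] at j3
      rw [T.card, hd, mul_assoc, pow_one] at j2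
      have j4 : d < q := by
        have : 2 ^ a ≤ q + 1 := by omega
        nlinarith
      have j5 : d ≠ 0 := by have := dg_pos η; omega
      obtain ⟨j, -, rfl⟩ := (Nat.dvd_prime_pow Nat.prime_two).1 ((T.hq.coprime_iff_not_dvd.2 fun e =>
        (Nat.le_of_dvd (by omega) e).not_gt j4).symm.dvd_of_dvd_mul_right (Nat.dvd_of_mul_dvd_mul_left (by norm_num) j2))
      have j6 : 2 ∣ dg η := hd ▸ (dvd_pow_self 2 fun e => h8 ⟨η, hη, by rw [hd, e]; rfl⟩).mul_left _
      have := hv' η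
      exact mul_dvd_mul (show (2 : ℤ) ∣ dg η by omega) (show (2 : ℤ) ∣ v η by omega)
    rw [nsmul_eq_mul] at h4
    generalize (dg ψ + δ) * (v ψ + δ) = w at h4
    rcases h3 with ⟨-, -, e⟩ | ⟨-, e', e⟩ <;> rw [hv, Int.cast_inj] at e <;> rw [e] at h4
    · omega
    · rcases h6 with rfl | rfl <;> omega
  by_contra h9
  obtain ⟨k, hk, ho⟩ := T.exists_k
  have hc := isChar_mul (ch ζ) (isChar_star (ch ζ))
  have j1 := congrFun (isChar_eq_sum_inner hc) k
  have j2 : ∀ η : IrrCharacter G, 81 < dg η → classInner (ζ.1 * fun g => conj (ζ.1 g)) η = 0 := fun η e =>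
    by_contra fun e' => by
      have := degree_le_of_inner_ne_zero hc η.2 e'
      simp only [Pi.mul_apply, dg_eq, h8, map_natCast, ← Nat.cast_mul, Complex.natCast_re, Nat.cast_le] at this
      omega
  obtain ⟨Y', i3, i4⟩ := split_sum E fun η => classInner (ζ.1 * fun g => conj (ζ.1 g)) η * η.1 k
  simp only [Finset.sum_apply, Pi.smul_apply, smul_eq_mul] at j1
  rw [i4, j2 ψ (by omega), sum_eq_zero fun η h => by rw [j2 η (by have := dX E h; omega), zero_mul],
    sum_eq_zero fun η h => by rw [E.v0 η (i3 η h).1 (i3 η h).2.1 (i3 η h).2.2 k hk (ne_one_of_ord ho), mul_zero],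
    Pi.mul_apply, E.v0 ζ (i1 ζ hζ).1 (i1 ζ hζ).2.1 (i1 ζ hζ).2.2 k hk (ne_one_of_ord ho), CharLib.inner_mul_left,
    show ((triv G).1 * fun g => conj (conj (ζ.1 g))) = ζ.1 from funext fun g => by simp [triv_apply],
    inner_irr_self ζ.2, triv_apply] at j1
  simp at j1

theorem order2 : Nat.card G = 2448 ∨ (Nat.card G = 504 ∧ ∀ t : G, orderOf t = 2 → IsMulCommutative (C1 t)) := by
  classical
  obtain ⟨χ, h⟩ := card_pos.1 (E.card ▸ (by norm_num : 0 < 4))
  obtain ⟨t, h1, h2, h3, h4, h5⟩ := T.invol E h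
  obtain ⟨rfl, -⟩ := T.degs E h
  have h6 := T.small E h
  have h7 := dX E h
  have h8 := T.mod9 E.vψ
  have h9 := E.hδ
  have h10 := T.h5
  have h11 : a < 7 := (Nat.pow_lt_pow_iff_right one_lt_two).1 (show 2 ^ a < 2 ^ 7 by omega)
  have h12 : q ≠ 65 := fun e => by have := T.hq; rw [e] at this; norm_num at this
  rw [T.card]
  obtain ⟨rfl, rfl⟩ | ⟨rfl, rfl, rfl, h13, h14⟩ : (a = 4 ∧ q = 17) ∨
      (a = 3 ∧ q = 7 ∧ δ = -1 ∧ dg ψ = 8 ∧ (ψ : G → ℂ) t = (0 : ℤ)) := by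
    rcases h5 with ⟨e1, e2, e3⟩ | ⟨e1, e2, -⟩
    · simp only [e3, and_true]
      interval_cases a <;> omega
    · left
      interval_cases a <;> omega
  · exact Or.inl rfl
  refine Or.inr ⟨rfl, ?_⟩
  have h15 : ∀ u : G, u * u = 1 → u ≠ 1 → Nat.card (C1 u) = 8 := fun u i1 i2 => by
    obtain ⟨g, rfl⟩ := isConj_iff.1 (h3 u i1 i2)
    rw [C1_cj, card_cj, h4]; rfl
  suffices h16 : ∃ u : G, u * u = 1 ∧ u ≠ 1 ∧ C1 u ≤ Ce (C1 u) by
    obtain ⟨u, i1, i2, i3⟩ := h16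
    intro v hv
    obtain ⟨g, rfl⟩ := isConj_iff.1 ((h3 u i1 i2).symm.trans (h3 v (by rw [← sq, ← hv, pow_orderOf_eq_one])
      fun e => by simp [e] at hv))
    have := cj_mono (g := g) i3
    rw [← Ce_cj, ← C1_cj] at this
    exact ⟨⟨fun x y => Subtype.ext (mem_Ce.1 (this x.2) y y.2)⟩⟩
  by_cases h16 : ∃ u : G, orderOf u = 4
  swap
  · have i1 : ∀ x ∈ C1 t, x⁻¹ = x := fun x hx => by
      obtain ⟨j, hj, e⟩ := (Nat.dvd_prime_pow Nat.prime_two).1 (h4 ▸ Subgroup.orderOf_dvd_natCard _ hx)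
      refine inv_eq_of_mul_eq_one_right ?_
      rw [← sq, ← orderOf_dvd_iff_pow_eq_one, e]
      interval_cases j
      · norm_num
      · norm_num
      · exact absurd ⟨x, e⟩ h16
      · exact absurd ⟨x ^ 2, by rw [orderOf_pow' _ two_ne_zero, e]; rfl⟩ h16
    exact ⟨t, h1, h2, fun x hx => mem_Ce.2 fun y hy => by
      rw [Commute, SemiconjBy, ← i1 _ (mul_mem hx hy), mul_inv_rev, i1 x hx, i1 y hy]⟩
  obtain ⟨u, hu⟩ := h16
  have i1 : u ^ 4 = 1 := hu ▸ pow_orderOf_eq_one u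
  have i2 : u ^ 2 ≠ 1 := pow_ne_one_of_lt_orderOf (by norm_num) (by omega)
  have i3 : u ^ 2 * u ^ 2 = 1 := by rw [← pow_add, i1]
  have i4 : C1 u ≤ C1 (u ^ 2) := fun x hx => mem_C1.2 ((mem_C1.1 hx).pow_left 2)
  have i5 : 5 ≤ Nat.card (C1 u) := by
    obtain ⟨m, hm⟩ := sum_pow (ch ψ) i1
    simp only [sum_range_succ, range_zero, sum_empty, pow_zero, pow_one, dg_eq, h13,
      ← classFun_of_isConj (isChar_classFun (ch ψ)) (h3 _ i3 i2), h14,
      show u ^ 3 = u⁻¹ from eq_inv_of_mul_eq_one_left (by rw [← pow_succ, i1]), ← isChar_conj (ch ψ)] at hm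
    have j1 : (ψ.1 u).re = (2 * m - 4 : ℤ) := by
      have := congrArg Complex.re hm
      simp at this
      push_cast; linarith
    have j2 : ∀ η ∈ X, 1 ≤ Complex.normSq (η.1 u) := fun η h => by
      rw [E.vX η h u (T.nconj (n := 2) i1), Complex.normSq_apply, Complex.add_re, j1, Complex.intCast_re,
        ← Int.cast_add]
      have : (1 : ℝ) ≤ ((2 * m - 4 + -1 : ℤ) : ℝ) * ((2 * m - 4 + -1 : ℤ) : ℝ) := by
        exact_mod_cast Int.add_one_le_of_lt (mul_self_pos.2 (show (2 * m - 4 + -1 : ℤ) ≠ 0 by omega))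
      nlinarith [mul_self_nonneg (ψ.1 u + ((-1 : ℤ) : ℂ)).im]
    have j3 := sum_irr_mul_conj u u
    simp only [if_pos (IsConj.refl u), Complex.mul_conj] at j3
    have j4 : ∑ η : IrrCharacter G, Complex.normSq (η.1 u) = Nat.card (C1 u) := by exact_mod_cast j3
    obtain ⟨Y, -, j5⟩ := split_sum E fun η => Complex.normSq (η.1 u)
    have j6 := card_nsmul_le_sum X _ _ j2
    have j7 := sum_nonneg (s := Y) fun η _ => Complex.normSq_nonneg (η.1 u)
    have j8 := Complex.normSq_nonneg (ψ.1 u)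
    rw [E.card] at j6
    rw [j4, triv_apply, map_one] at j5
    have : (5 : ℝ) ≤ Nat.card (C1 u) := by simp at j6; linarith
    exact_mod_cast this
  have i6 := h15 _ i3 i2
  have i7 : C1 u = C1 (u ^ 2) := eq_of_card_le i4 (by
    have := card_dvd_of_le i4
    rw [i6] at this ⊢
    have := Nat.le_of_dvd (by norm_num) this
    generalize Nat.card (C1 u) = n at *
    interval_cases n <;> omega)
  have i8 : ∀ x ∈ C1 u, ∀ y ∈ zpowers u, Commute y x := fun x hx y ⟨n, hn⟩ => hn ▸ (mem_C1.1 hx).zpow_left n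
  refine ⟨_, i3, i2, i7 ▸ fun x hx => mem_Ce.2 fun y hy => ?_⟩
  by_cases e : x ∈ zpowers u
  · exact i8 y hy x e
  by_cases e' : y ∈ zpowers u
  · exact (i8 x hx y e').symm
  have := (i8 x hx _ (inv_mul_mem_of_two (zpowers_le.2 (mem_C1.2 rfl)) (by rw [i7, i6, Nat.card_zpowers, hu])
    hx hy e e')).symm
  simpa using (Commute.refl x).mul_right this

end St

end Cfsg.Agent.SC3
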