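import Cfsg.Agent.SC3.Num

/-! The computations. -/

set_option autoImplicit false

namespace Cfsg.Agent.SC3

theorem chk3_all : (List.range 8).all (fun i => !go (2 ^ (6 * i + 6) * 5 ^ 3) 0 (9 * (4 + 21 * 2 ^ (6 * i + 4)) : ℕ)
    (items (6 * i + 6) 5 3) 8 1 1 (2 ^ (6 * i + 6) * 5 ^ 3 : ℕ)) = true := by decide +kernel

end Cfsg.Agent.SC3
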