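import Cfsg.Agent.SC3.NumA
import Cfsg.Agent.SC3.NumB
import Cfsg.Agent.SC3.NumC

/-! The numerical conclusions. -/

set_option autoImplicit false

namespace Cfsg.Agent.SC3

theorem sT_lower {m : ℕ} {u v : ℤ} (M : Multiset (ℕ × ℤ))
    (h : ∀ x ∈ M, u * (x.2 * x.2) ≤ v * (x.2 * x.2 * x.2 * (m / x.1 : ℕ))) : u * sK M ≤ v * sT m M := by
  induction M using Multiset.induction_on with
  | empty => simp [sT, sK]
  | cons x M ih =>
    have h1 := ih fun y hy => h y (Multiset.mem_cons_of_mem hy)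
    have h2 := h x (Multiset.mem_cons_self _ _)
    simp only [sT, sK, Multiset.map_cons, Multiset.sum_cons] at h1 ⊢
    push_cast [Nat.cast_natAbs, abs_mul_abs_self] at h1 h2 ⊢
    linarith

theorem sS_le (M : Multiset (ℕ × ℤ)) (h : ∀ x ∈ M, x.2 < 0 ∧ |x.2| ≤ 2 ∧ 1 < x.1) : sS M ≤ - sK M := by
  induction M using Multiset.induction_on with
  | empty => simp [sS, sK]
  | cons x M ih =>
    have h1 := ih fun y hy => h y (Multiset.mem_cons_of_mem hy)
    obtain ⟨h2, h3, h4⟩ := h x (Multiset.mem_cons_self _ _)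
    simp only [sS, sK, Multiset.map_cons, Multiset.sum_cons] at h1 ⊢
    push_cast [Nat.cast_natAbs, abs_mul_abs_self] at h1 ⊢
    have := abs_le.1 h3
    have : (1 : ℤ) < x.1 := by exact_mod_cast h4
    nlinarith

namespace Adm

variable {a q b : ℕ} {M : Multiset (ℕ × ℤ)} (h : Adm a q b M)
include h

theorem mul {x : ℕ × ℤ} (hx : x ∈ M) : (x.1 : ℤ) * (2 ^ a * q ^ b / x.1 : ℕ) = (2 ^ a * q ^ b : ℕ) := by
  exact_mod_cast Nat.mul_div_cancel' (h.mem x hx).2.1

theorem lower (hq : q.Prime) (h0 : 0 < (2 ^ a * q ^ b : ℕ) + sT (2 ^ a * q ^ b) M) :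
    ((2 ^ a * q ^ b : ℕ) : ℤ) < 8 * ((2 ^ a * q ^ b : ℕ) + sT (2 ^ a * q ^ b) M) := by
  have hm := fun x hx => h.mul (x := x) hx
  have hp : (0 : ℤ) < (2 ^ a * q ^ b : ℕ) := by have := hq.pos; positivity
  have hc : ∀ x ∈ M, x.2 = 1 ∨ x.2 = -1 ∨ x.2 = 2 ∨ x.2 = -2 := fun x hx => by
    obtain ⟨-, -, h1, h2, -⟩ := h.mem x hx
    have := abs_le.1 h2
    omega
  have hk := h.k
  have hs := h.s
  by_cases h7 : (7, -2) ∈ M
  · exfalso
    obtain ⟨i, -, j, -, e⟩ := h.form hq h7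
    have e7 : q = 7 := ((Nat.prime_dvd_prime_iff_eq (by norm_num) hq).1 (Nat.Prime.dvd_of_dvd_pow (by norm_num)
      (((Nat.Prime.dvd_mul (by norm_num)).1 (show 7 ∣ 2 ^ i * q ^ j from e ▸ dvd_rfl)).resolve_left fun e => by
        have := Nat.Prime.dvd_of_dvd_pow (by norm_num) e; omega))).symm
    have h8 := hm _ h7
    obtain ⟨N, rfl⟩ := Multiset.exists_cons_of_mem h7
    have hN : sK N = 4 := by simp [sK] at hk ⊢; omega
    have := sT_lower (m := 2 ^ a * q ^ b) (u := -(2 ^ a * q ^ b : ℕ)) (v := -28) N fun x hx => by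
      have hx' := Multiset.mem_cons_of_mem (b := (7, -2)) hx
      have h1 := hm x hx'
      obtain ⟨h2, h3, -, -, h4⟩ := h.mem x hx'
      have h5 : (0 : ℤ) ≤ (2 ^ a * q ^ b / x.1 : ℕ) := by positivity
      rcases hc x hx' with e | e | e | e <;> rw [e] at h4 ⊢
      · have h6 : ∀ r, r.Prime → r ≠ 2 → r ≠ 7 → ¬ r ∣ x.1 := fun r hr i1 i2 e =>
          (hr.dvd_mul.1 (e.trans h3)).elim
            (fun e => i1 ((Nat.prime_dvd_prime_iff_eq hr Nat.prime_two).1 (hr.dvd_of_dvd_pow e)))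
            fun e => i2 (((Nat.prime_dvd_prime_iff_eq hr hq).1 (hr.dvd_of_dvd_pow e)).trans e7)
        have h7 := h6 5 (by norm_num) (by norm_num) (by norm_num)
        have h8 := h6 19 (by norm_num) (by norm_num) (by norm_num)
        have h9 : x.1 ≠ 10 := fun e => h7 (by rw [e]; norm_num)
        have h10 : x.1 ≠ 19 := fun e => h8 (by rw [e])
        have : (28 : ℤ) ≤ x.1 := by clear h7 h8 h6 h5 h1 h3; omega
        nlinarith
      · nlinarith
      · obtain ⟨N, rfl⟩ := Multiset.exists_cons_of_mem hx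
        obtain rfl : N = 0 := eq_zero_of_sK (fun y hy => (h.mem y (Multiset.mem_cons_of_mem
          (Multiset.mem_cons_of_mem hy))).2.2.1) (by simp [sK, e] at hN ⊢; omega)
        simp [sS, e] at hs
        omega
      · nlinarith
    simp only [sT, Multiset.map_cons, Multiset.sum_cons] at h0 this
    rw [hN] at this
    push_cast at h0 this h8
    linarith
  obtain ⟨x, hx, h1⟩ : ∃ x ∈ M, 0 < x.2 := by
    by_contra h1
    push Not at h1
    have := sS_le M fun x hx => ⟨lt_of_le_of_ne (h1 x hx) (h.mem x hx).2.2.1, (h.mem x hx).2.2.2.1, (h.mem x hx).1⟩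
    omega
  have h2 := hm x hx
  have h3 := (h.mem x hx).1
  have h4 := hc x hx
  obtain ⟨N, rfl⟩ := Multiset.exists_cons_of_mem hx
  have := sT_lower (m := 2 ^ a * q ^ b) (u := -(2 ^ a * q ^ b : ℕ)) (v := 8) N fun y hy => by
    have hy' := Multiset.mem_cons_of_mem (b := x) hy
    have h1 := hm y hy'
    obtain ⟨h2, -, -, -, h4⟩ := h.mem y hy'
    have h5 : (0 : ℤ) ≤ (2 ^ a * q ^ b / y.1 : ℕ) := by positivity
    rcases hc y hy' with e | e | e | e <;> rw [e] at h4 ⊢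
    · nlinarith
    · have : (8 : ℤ) ≤ y.1 := by omega
      nlinarith
    · nlinarith
    · have : y.1 ≠ 7 := fun e' => h7 (by rwa [← e', ← e])
      have : (16 : ℤ) ≤ y.1 := by omega
      nlinarith
  have h5 : (0 : ℤ) < (2 ^ a * q ^ b / x.1 : ℕ) := by
    by_contra h5
    have : (0 : ℤ) < x.1 := by omega
    nlinarith
  have h6 : (sK N : ℤ) ≤ 7 := by
    have : 0 < x.2.natAbs * x.2.natAbs := by
      have := Int.natAbs_pos.2 h1.ne'
      positivity
    simp only [sK, Multiset.map_cons, Multiset.sum_cons] at hk ⊢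
    omega
  simp only [sT, Multiset.map_cons, Multiset.sum_cons] at this ⊢
  have : 0 < x.2 * x.2 * x.2 * (2 ^ a * q ^ b / x.1 : ℕ) := by positivity
  nlinarith

theorem small (h1 : ∀ x ∈ M, 26 ≤ x.1) :
    5 * ((2 ^ a * q ^ b : ℕ) : ℤ) ≤ 13 * ((2 ^ a * q ^ b : ℕ) + sT (2 ^ a * q ^ b) M) := by
  have := sT_lower (m := 2 ^ a * q ^ b) (u := -(2 ^ a * q ^ b : ℕ)) (v := 13) M fun y hy => by
    have h2 := h.mul hy
    have h3 := abs_le.1 (h.mem y hy).2.2.2.1
    have h4 : (26 : ℤ) ≤ y.1 := by exact_mod_cast h1 y hy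
    have h5 : (0 : ℤ) ≤ (2 ^ a * q ^ b / y.1 : ℕ) := by positivity
    have h6 : 0 ≤ (2 ^ a * q ^ b : ℕ) + 13 * (y.2 * (2 ^ a * q ^ b / y.1 : ℕ)) := by nlinarith
    nlinarith [mul_nonneg (mul_self_nonneg y.2) h6]
  rw [h.k] at this
  push_cast at this ⊢
  linarith

theorem dvd2 (hq : q.Prime) (h1 : q ^ b < 867) (ha : 37 ≤ a) :
    (8192 : ℤ) ∣ (2 ^ a * q ^ b : ℕ) + sT (2 ^ a * q ^ b) M := by
  refine dvd_add (Int.natCast_dvd_natCast.2 (show 2 ^ 13 ∣ _ from (pow_dvd_pow 2 (by omega)).mul_right _))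
    (dvd_sT (g := 2 ^ 13) fun x hx => ?_)
  obtain ⟨i, hi, j, hj, e⟩ := h.form hq hx
  have h2 := h.sq_lt hx
  have h3 : 2 ^ (i + i) < 2 ^ (a + 13) := by
    have i1 : 2 ^ i ≤ x.1 := e ▸ Nat.le_mul_of_pos_right _ (pow_pos hq.pos j)
    have i2 := Nat.mul_le_mul i1 i1
    have i3 : 2 ^ a * q ^ b ≤ 2 ^ a * 867 := Nat.mul_le_mul_left _ h1.le
    rw [pow_add, pow_add]; omega
  have h4 := (Nat.pow_lt_pow_iff_right one_lt_two).1 h3
  rw [e, ← Nat.div_mul_div_comm (pow_dvd_pow 2 hi) (pow_dvd_pow q hj), Nat.pow_div hi two_pos]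
  exact (pow_dvd_pow 2 (by omega)).mul_right _

theorem dvdq (hq : q.Prime) (h5 : 5 ≤ q) (ha : a ≤ 9) (hb : 16 ≤ b) :
    ((q ^ 5 : ℕ) : ℤ) ∣ (2 ^ a * q ^ b : ℕ) + sT (2 ^ a * q ^ b) M := by
  refine dvd_add (Int.natCast_dvd_natCast.2 ((pow_dvd_pow q (by omega)).mul_left _)) (dvd_sT fun x hx => ?_)
  obtain ⟨i, hi, j, hj, e⟩ := h.form hq hx
  have h2 := h.sq_lt hx
  have h3 : q ^ (j + j) < q ^ (b + 6) := by
    have i1 : q ^ j ≤ x.1 := e ▸ Nat.le_mul_of_pos_left _ (by positivity)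
    have i2 := Nat.mul_le_mul i1 i1
    have i3 : 2 ^ a * q ^ b ≤ 2 ^ 9 * q ^ b := Nat.mul_le_mul_right _ (Nat.pow_le_pow_right two_pos ha)
    have i4 : q ^ b * 5 ^ 6 ≤ q ^ b * q ^ 6 := Nat.mul_le_mul_left _ (Nat.pow_le_pow_left h5 6)
    rw [pow_add, pow_add]; omega
  have h4 := (Nat.pow_lt_pow_iff_right hq.one_lt).1 h3
  rw [e, ← Nat.div_mul_div_comm (pow_dvd_pow 2 hi) (pow_dvd_pow q hj), Nat.pow_div hj hq.pos]
  exact (pow_dvd_pow q (by omega)).mul_left _

theorem main (hq : q.Prime) (h5 : 5 ≤ q) (hb : b ≠ 0 ∨ q = 5) (ha : 3 ≤ a) (h9 : 2 ^ (a - 3) * q ^ b % 9 = 1)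
    {nq nS nH nV : ℕ} (i1 : nq ≤ 6) (i2 : 0 < nq → qc a q b) (i3 : nS ≤ 6) (i4 : nH ≤ 3) (i5 : nV ≤ 11)
    (i6 : 0 < nV → nS = 0) (i7 : 0 < nH → a % 2 = 1) (i8 : 0 < nS → a % 2 = 0)
    (e : (2 ^ a * q ^ b : ℕ) + sT (2 ^ a * q ^ b) M =
      (9 * (7 + nq * (q ^ b - 1) + (nS * (2 ^ a - 1) + nH * (2 ^ (a - 1) - 1) + nV * 3)) : ℕ)) :
    a = 6 ∧ q = 17 ∧ b = 1 := by
  have h1 := h.lower hq (by rw [e]; positivity)
  rw [e] at h1
  have h2 : 2 ^ a * q ^ b < 72 * (7 + nq * (q ^ b - 1) + (nS * (2 ^ a - 1) + nH * (2 ^ (a - 1) - 1) + nV * 3)) := by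
    omega
  refine h.chk hq h9 ?_ h2 e ?_
  · simp only [rhos, twos, List.mem_flatMap, List.mem_map, List.mem_range]
    refine ⟨nq, by split_ifs with e; omega; by_contra; exact e (i2 (by omega)), _, ?_, rfl⟩
    split_ifs with e
    · obtain rfl : nH = 0 := by omega
      simp only [List.mem_append, List.mem_map, List.mem_range]
      by_cases e' : nV = 0
      · exact Or.inl ⟨nS, by omega, by simp [e']⟩
      · exact Or.inr ⟨nV, by omega, by simp [i6 (by omega)]⟩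
    · obtain rfl : nS = 0 := by omega
      simp only [List.mem_flatMap, List.mem_map, List.mem_range]
      exact ⟨nH, by omega, nV, by omega, by simp⟩
  obtain ⟨Q, hQ⟩ : ∃ Q, q ^ b = Q + 1 := ⟨q ^ b - 1, (Nat.sub_add_cancel (pow_pos hq.pos b)).symm⟩
  obtain ⟨P, hP⟩ : ∃ P, 2 ^ (a - 1) = P + 1 := ⟨_, (Nat.sub_add_cancel Nat.one_le_two_pow).symm⟩
  have hP' : 2 ^ a = 2 * P + 1 + 1 := by rw [show a = a - 1 + 1 by omega, pow_succ, hP]; ring
  have j1 : nq * Q ≤ 6 * Q := Nat.mul_le_mul_right _ i1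
  have j2 : nS * (2 * P + 1) + nH * P ≤ 6 * (2 * P + 1) := by
    have : nS * (2 * P + 1) ≤ 6 * (2 * P + 1) := Nat.mul_le_mul_right _ i3
    have : nH * P ≤ 3 * P := Nat.mul_le_mul_right _ i4
    rcases Nat.eq_zero_or_pos nS with rfl | e
    · omega
    · obtain rfl : nH = 0 := by omega
      omega
  by_cases h3 : q ^ b < 867
  · have h4 : a < 37 := by
      by_contra h4
      have h6 := h.dvd2 hq h3 (by omega)
      have h7 : 8192 ∣ P + 1 := hP ▸ pow_dvd_pow 2 (show 13 ≤ a - 1 by omega)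
      rw [e, hQ, hP, hP'] at h6
      simp only [Nat.add_sub_cancel] at h6
      have h8 : 8192 ∣ 9 * (7 + nq * Q + (nS * (2 * P + 1) + nH * P + nV * 3)) := by exact_mod_cast h6
      have h10 := (Nat.Coprime.dvd_mul_left (by norm_num)).1 h8
      obtain ⟨c, hc⟩ := h7
      obtain rfl : P = 8192 * c - 1 := by omega
      obtain ⟨c, rfl⟩ : ∃ c', c = c' + 1 := ⟨c - 1, by omega⟩
      rw [show 7 + nq * Q + (nS * (2 * (8192 * (c + 1) - 1) + 1) + nH * (8192 * (c + 1) - 1) + nV * 3) =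
        7 + nq * Q + nV * 3 + nS * 16383 + nH * 8191 + 8192 * (2 * nS * c + nH * c) by
          rw [show 8192 * (c + 1) - 1 = 8192 * c + 8191 by omega]; ring] at h10
      have h11 := (Nat.dvd_add_left (dvd_mul_right _ _)).1 h10
      have h12 : nq * Q ≤ 5190 := by omega
      generalize nq * Q = z at h11 h12
      have h13 : nS + nH ≤ 6 := by clear * - i3 i4 i7 i8; omega
      rw [show 7 + z + nV * 3 + nS * 16383 + nH * 8191 = 7 + z + nV * 3 - nS - nH + 8192 * (2 * nS + nH) by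
        omega] at h11
      have := Nat.le_of_dvd (by omega) ((Nat.dvd_add_left (dvd_mul_right _ _)).1 h11)
      omega
    have h6 : q < 867 := by
      rcases hb with e | e
      · exact (Nat.le_self_pow e q).trans_lt h3
      · omega
    have h7 : b < 5 := by
      by_contra h7
      have := (Nat.pow_le_pow_left h5 5).trans (Nat.pow_le_pow_right hq.pos (show 5 ≤ b by omega))
      omega
    have h8' := List.all_eq_true.1 chk1_all (a - 3) (List.mem_range.2 (by omega))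
    rw [Nat.sub_add_cancel ha, chk1, List.all_eq_true] at h8'
    have h8 := h8' q (List.mem_range.2 h6)
    have hp : ∀ r, r.Prime → r ∣ q → r = q := fun r hr e => (Nat.prime_dvd_prime_iff_eq hr hq).1 e
    have := hp 2 Nat.prime_two
    have := hp 3 Nat.prime_three
    have := hp 5 Nat.prime_five
    simp only [Bool.or_eq_true, decide_eq_true_eq, List.all_eq_true, List.mem_range] at h8
    exact ((h8.resolve_left (by omega)) b h7).resolve_left (by omega)
  rw [hQ, hP, hP'] at h2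
  simp only [Nat.add_sub_cancel] at h2
  have h4 : a < 10 := by
    by_contra h4
    have : 2 ^ 10 ≤ 2 ^ a := Nat.pow_le_pow_right two_pos (by omega)
    obtain ⟨P, rfl⟩ : ∃ P', P = P' + 511 := ⟨P - 511, by omega⟩
    obtain ⟨Q, rfl⟩ : ∃ P', Q = P' + 866 := ⟨Q - 866, by omega⟩
    nlinarith [Nat.zero_le (P * Q)]
  have h6 : 2 ^ 3 ≤ 2 ^ a := Nat.pow_le_pow_right two_pos ha
  have h6' : 2 ^ a ≤ 2 ^ 9 := Nat.pow_le_pow_right two_pos (by omega)
  have h7 : 0 < nq := by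
    by_contra h7
    obtain rfl : nq = 0 := by omega
    have : (2 * P + 1 + 1) * 867 ≤ (2 * P + 1 + 1) * (Q + 1) := Nat.mul_le_mul_left _ (by omega)
    omega
  have h8 := (i2 h7).2
  have h10 : q < 1536 := by
    by_contra h10
    have h11 : q ≠ 1536 := fun e => by rw [e] at hq; norm_num at hq
    rw [hP, hP'] at h8
    rcases h8 with e | e <;> rw [Nat.mod_eq_of_lt (by omega)] at e <;> omega
  have h11 : b < 16 := by
    by_contra h11
    have h12 := h.dvdq hq h5 (by omega) (by omega)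
    have h13 : q ^ 5 ∣ Q + 1 := hQ ▸ pow_dvd_pow q (by omega)
    rw [e, hQ, hP, hP'] at h12
    simp only [Nat.add_sub_cancel] at h12
    have h14 := (Nat.Coprime.dvd_mul_left (Nat.Coprime.pow 5 2 ((Nat.coprime_primes hq Nat.prime_three).2
      (by omega)))).1 (Int.natCast_dvd_natCast.1 h12)
    have h15 := (Nat.dvd_add_right (h13.mul_left nq)).1 (show q ^ 5 ∣ nq * (Q + 1) +
      (7 - nq + (nS * (2 * P + 1) + nH * P + nV * 3)) by
        convert h14 using 1; rw [mul_add]; omega)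
    have := Nat.le_of_dvd (by omega) h15
    have : 5 ^ 5 ≤ q ^ 5 := Nat.pow_le_pow_left h5 5
    omega
  have h12' := List.all_eq_true.1 chk2_all (a - 3) (List.mem_range.2 (by omega))
  rw [Nat.sub_add_cancel ha, chk2, List.all_eq_true] at h12'
  have h12 := h12' q (List.mem_range.2 h10)
  simp only [Bool.or_eq_true, decide_eq_true_eq, List.all_eq_true, List.mem_range] at h12
  exact h12.resolve_left (by omega) b h11

end Adm

theorem Adm.bad {i : ℕ} {M : Multiset (ℕ × ℤ)} (h : Adm (6 * i + 6) 5 3 M) (hi : i < 8)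
    (h1 : 0 ≤ (2 ^ (6 * i + 6) * 5 ^ 3 : ℕ) + sT (2 ^ (6 * i + 6) * 5 ^ 3) M)
    (h2 : (2 ^ (6 * i + 6) * 5 ^ 3 : ℕ) + sT (2 ^ (6 * i + 6) * 5 ^ 3) M ≤ (9 * (4 + 21 * 2 ^ (6 * i + 4)) : ℕ)) :
    False := by
  have := List.all_eq_true.1 chk3_all i (List.mem_range.2 hi)
  rw [h.go Nat.prime_five h1 h2] at this
  exact Bool.false_ne_true this

end Cfsg.Agent.SC3
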