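import Cfsg.Agent.SC3.Base
import Cfsg.Agent.SC3.NumMain

/-! Automizer of order eight: the characters. -/

set_option autoImplicit false

namespace Cfsg.Agent.SC3

open Subgroup Finset Cfsg.Agent.CharLib

variable {G : Type*} [Group G] [Finite G]

theorem sum_nt {M : Type*} [AddCommMonoid M] (R : Subgroup G) [Fintype R] (f : G → M) :
    ∑ h : R, f h = f 1 + ∑ x ∈ nt R, f x := by
  classical
  rw [← sum_subtype (insert 1 (nt R)) (fun x => ?_) f, sum_insert fun e => (mem_nt.1 e).2 rfl]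
  rw [mem_insert, mem_nt]
  exact ⟨fun h => h.elim (· ▸ one_mem R) And.left, fun h => or_iff_not_imp_left.2 fun e => ⟨h, e⟩⟩

/-- an involution commuting with an element of odd prime order needs many points -/
theorem le_index [IsSimpleGroup G] {B : Subgroup G} (hB : B ≠ ⊤) {p : ℕ} (hp : p.Prime) (h2 : p ≠ 2) {x t : G}
    (hx : orderOf x = p) (ht : orderOf t = 2) (hc : Commute x t) : p + 2 ≤ B.index := by
  classical
  have := Fintype.ofFinite (G ⧸ B)
  have h1 : Function.Injective (MulAction.toPermHom G (G ⧸ B)) := by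
    rw [← MonoidHom.ker_eq_bot_iff, ← B.normalCore_eq_ker]
    exact B.normalCore_normal.eq_bot_or_eq_top.resolve_right fun e => hB (top_le_iff.1 (e ▸ B.normalCore_le))
  have h3 : orderOf (MulAction.toPermHom G (G ⧸ B) (x * t)) = p * 2 := by
    rw [orderOf_injective _ h1, hc.orderOf_mul_eq_mul_orderOf_of_coprime, hx, ht]
    rw [hx, ht]; exact (Nat.coprime_primes hp Nat.prime_two).2 h2
  generalize MulAction.toPermHom G (G ⧸ B) (x * t) = σ at h3
  have h4 : p * 2 ∣ σ.cycleType.prod := h3 ▸ σ.lcm_cycleType ▸ Multiset.lcm_dvd.2 fun _ => Multiset.dvd_prod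
  have h5 : σ.cycleType.sum ≤ B.index := by
    rw [σ.sum_cycleType, index, Nat.card_eq_fintype_card]; exact card_le_univ _
  obtain ⟨m, hm, i1⟩ := hp.prime.exists_mem_multiset_dvd ((dvd_mul_right _ _).trans h4)
  obtain ⟨n, hn, i2⟩ := Nat.prime_two.prime.exists_mem_multiset_dvd ((dvd_mul_left _ _).trans h4)
  have j1 := Equiv.Perm.two_le_of_mem_cycleType hm
  have j2 := Equiv.Perm.two_le_of_mem_cycleType hn
  have j3 := hp.two_le
  obtain ⟨s, hs⟩ := Multiset.exists_cons_of_mem hm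
  rw [hs, Multiset.sum_cons] at h5
  rw [hs, Multiset.mem_cons] at hn
  rcases hn with rfl | hn
  · have := Nat.le_of_dvd (by omega) (((Nat.coprime_primes hp Nat.prime_two).2 h2).mul_dvd_of_dvd_of_dvd i1 i2)
    omega
  · have := Nat.le_of_dvd (by omega) i1
    have := Multiset.single_le_sum (fun _ _ => Nat.zero_le _) _ hn
    omega

namespace St

variable {R : Sylow 3 G} {q a b : ℕ} (T : St R q a b)
include T

theorem C1_card {k : G} (hk : k ∈ (R : Subgroup G)) (h1 : k ≠ 1) : Nat.card (C1 k) = 9 := by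
  rw [T.sc k hk h1, T.card_R]

theorem gx (h3 : ∀ x ∈ (R : Subgroup G), x ≠ 1 → orderOf x = 3) {k : G} (hk : k ∈ (R : Subgroup G))
    (h1 : k ≠ 1) : Gx k :=
  ⟨T.ss, h3 k hk h1, fun U hU h0 x hx hc => by_contra fun e => h0 (by
    have h4 := T.sc.mem hk h1 hc
    exact Cx.noR ⟨T.ss.h3, h3 k hk h1⟩ hU hc (h3 x h4 fun e' => e (e' ▸ one_mem _))
      (h3 _ (mul_mem hk h4) fun e' => e (eq_inv_of_mul_eq_one_right e' ▸ inv_mem (mem_zpowers k)))
      (h3 _ (mul_mem (inv_mem hk) h4) fun e' => e (inv_mul_eq_one.1 e' ▸ mem_zpowers k)) hx)⟩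

omit [Finite G] in
theorem dvd_of_nd {d : ℕ} (h : d ∣ Nat.card G) (h3 : ¬ 3 ∣ d) : d ∣ 2 ^ a * q ^ b := by
  rw [T.card, mul_assoc] at h
  exact (Nat.Coprime.pow_right 2 (Nat.prime_three.coprime_iff_not_dvd.2 h3).symm).dvd_of_dvd_mul_left h

variable (h8 : (R : Subgroup G).relIndex (Nm R) = 8)
include h8

theorem conj8 {x y : G} (hx : x ∈ (R : Subgroup G)) (h1 : x ≠ 1) (hy : y ∈ (R : Subgroup G)) (h2 : y ≠ 1) :
    IsConj x y := by
  have h3 : Oc R x = nt R := eq_of_subset_of_card_le (fun z hz => mem_nt.2 ⟨(mem_Oc.1 hz).1, fun e =>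
    h1 (isConj_one_left.1 (e ▸ (mem_Oc.1 hz).2))⟩) (by rw [card_nt, T.card_R, T.sc.card_Oc hx h1, h8])
  exact (mem_Oc.1 (h3.ge (mem_nt.2 ⟨hy, h2⟩))).2

theorem ord8 (x : G) (hx : x ∈ (R : Subgroup G)) (h1 : x ≠ 1) : orderOf x = 3 := by
  obtain ⟨k, hk, h3⟩ := T.exists_k
  obtain ⟨g, rfl⟩ := isConj_iff.1 (T.conj8 h8 hk (ne_one_of_ord h3) hx h1)
  rw [orderOf_conj, h3]

theorem adm8 {k : G} (hk : k ∈ (R : Subgroup G)) (h1 : k ≠ 1) : ∃ M, Adm a q b M ∧
    (2 ^ a * q ^ b : ℕ) + sT (2 ^ a * q ^ b) M = (9 * (6 + (WW k).ncard) : ℕ) ∧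
    ∀ x ∈ M, ∃ χ : IrrCharacter G, χ ≠ triv G ∧ dg χ = x.1 := by
  classical
  have := Fintype.ofFinite G
  have := T.simple
  have ho := T.ord8 h8 k hk h1
  have hr := T.real hk
  have X : Cx k := ⟨T.ss.h3, ho⟩
  have hc := fun χ => (cv_spec ho hr χ).1
  have h2 := frob_int hc hc (z := k) fun χ =>
    (classFun_of_isConj (isChar_classFun (ch χ)) hr).symm.trans (hc χ)
  have h3 := sum_int_mul hc hc
  have h4 := sum_dg_int h1 hc
  have h5 := sum_dg_sq (G := G)
  rw [if_pos (IsConj.refl k)] at h3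
  rw [T.C1_card hk h1] at h2 h3
  rw [← add_sum_erase _ _ (mem_univ (triv G))] at h2 h3 h4 h5
  simp only [cv_triv, dg_triv, Nat.cast_ofNat, Nat.cast_one] at h2 h3 h4 h5
  have h6 : ∀ χ : IrrCharacter G, 9 ∣ (dg χ : ℤ) - cv χ k := fun χ => by
    obtain ⟨n, hn⟩ := sum_sub (ch χ) (R : Subgroup G)
    rw [sum_nt, sum_congr rfl (g := fun _ => (cv χ k : ℂ)) fun x hx => (classFun_of_isConj (isChar_classFun (ch χ))
      (T.conj8 h8 hk h1 (mem_nt.1 hx).1 (mem_nt.1 hx).2)).symm.trans (hc χ), sum_const, card_nt, T.card_R,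
      dg_eq, nsmul_eq_mul] at hn
    have : (dg χ : ℤ) + (9 - 1 : ℕ) * cv χ k = (9 : ℕ) * n := by exact_mod_cast hn
    omega
  have h7 : ∀ χ ∈ univ.erase (triv G), |cv χ k| ≤ 2 := fun χ hχ => by
    have := single_le_sum (f := fun χ => cv χ k * cv χ k) (fun _ _ => mul_self_nonneg _) hχ
    rw [abs_le]; constructor <;> nlinarith
  have h9 : ∀ χ ∈ (univ.erase (triv G)).filter fun χ => cv χ k ≠ 0, dg χ ∣ 2 ^ a * q ^ b := fun χ hχ =>
    T.dvd_of_nd (dg_dvd χ) fun e => by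
      have := abs_le.1 (h7 χ (mem_filter.1 hχ).1)
      have := (mem_filter.1 hχ).2
      have := h6 χ
      omega
  have hF : nF k k k = 6 + (WW k).ncard := by
    have i1 : (nt (R : Subgroup G) \ {k, k⁻¹}).card = 6 := by
      rw [card_sdiff_of_subset (insert_subset (mem_nt.2 ⟨hk, h1⟩) (singleton_subset_iff.2
        (mem_nt.2 ⟨inv_mem hk, inv_ne_one.2 h1⟩))), card_nt, T.card_R, card_pair (ne_inv3 ho)]
    rw [nF_eq, ← i1, Set.ncard_eq_toFinset_card, ← card_union_of_disjoint (disjoint_left.2 fun w hw hw' =>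
      (mem_nt.1 (mem_sdiff.1 hw).1).2 (WW_comm X ((Set.Finite.mem_toFinset _).1 hw')
        (T.sc.comm hk (mem_nt.1 (mem_sdiff.1 hw).1).1)))]
    congr 1
    ext w
    simp only [mem_filter, mem_univ, true_and, mem_union, mem_sdiff, mem_nt, mem_insert, mem_singleton,
      Set.Finite.mem_toFinset, not_or]
    constructor
    · rintro ⟨j1, j2⟩
      refine (tri' T.ss ho ho ho j1 j2).elim Or.inr fun e => ?_
      by_cases e' : w = 1
      · exact Or.inr (e' ▸ one_mem_WW k)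
      refine Or.inl ⟨⟨T.sc.mem hk h1 e, e'⟩, ?_, ?_⟩ <;> rintro rfl
      · exact h1 (by simpa using j1)
      · rw [inv_inv, X.sq, inv_mul_cancel] at j2
        exact h1 (by simpa using j2)
    · rintro (⟨⟨j1, -⟩, j2, j3⟩ | j)
      · refine ⟨T.conj8 h8 hk h1 (mul_mem j1 (inv_mem hk)) fun e => j2 (mul_inv_eq_one.1 e),
          T.conj8 h8 hk h1 (mul_mem (mul_mem hk (inv_mem j1)) hk) fun e => j3 ?_⟩
        rw [← X.sq, ← inv_inj]
        exact mul_left_cancel (a := k) (mul_right_cancel (b := k) (by rw [e]; group))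
      · exact ⟨hr.trans (conj_of_WW X j).1, hr.trans (conj_of_WW X j).2⟩
  refine ⟨((univ.erase (triv G)).filter fun χ => cv χ k ≠ 0).val.map fun χ => (dg χ, cv χ k), ⟨?_, ?_, ?_, ?_⟩,
    ?_, ?_⟩
  · intro x hx
    obtain ⟨χ, hχ, rfl⟩ := Multiset.mem_map.1 hx
    have j := mem_filter.1 hχ
    exact ⟨one_lt_dg T.nc (ne_of_mem_erase j.1), h9 χ hχ, j.2, h7 χ j.1, h6 χ⟩
  · rw [sK, Multiset.map_map, sum_map_val, sum_filter_of_ne fun χ _ e => by simpa using e]
    zify
    simp only [Function.comp, Nat.cast_mul, Int.natCast_natAbs, abs_mul_abs_self]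
    linarith
  · rw [sS, Multiset.map_map, sum_map_val, sum_filter_of_ne fun χ _ e => by simp at e; exact e.1]
    simp only [Function.comp, mul_comm (cv _ k)]
    linarith
  · rw [sQ, Multiset.map_map, sum_map_val, ← mul_assoc, ← T.card, ← h5]
    simp only [Function.comp, sq]
    exact Nat.add_le_add_left (sum_le_sum_of_subset (filter_subset _ _)) _
  · rw [sT, Multiset.map_map, sum_map_val, ← hF]
    rw [← sum_filter_of_ne (p := fun χ => cv χ k ≠ 0) (fun χ _ e => by simp at e; exact e.1), T.card, mul_assoc 9,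
      mul_add, mul_sum, sum_congr rfl (g := fun χ => (9 * (cv χ k * cv χ k * cv χ k *
        (2 ^ a * q ^ b / dg χ : ℕ) : ℤ) : ℚ)) fun χ hχ => by
          have := dg_pos χ
          rw [Int.cast_mul, Int.cast_natCast, Nat.cast_div_charZero (h9 χ hχ)]
          push_cast
          field_simp, ← mul_sum] at h2
    simp only [Function.comp]
    have : ((2 ^ a * q ^ b : ℕ) : ℚ) + ∑ χ ∈ (univ.erase (triv G)).filter (fun χ => cv χ k ≠ 0),
        ((cv χ k * cv χ k * cv χ k * (2 ^ a * q ^ b / dg χ : ℕ) : ℤ) : ℚ) = (9 * nF k k k : ℕ) := by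
      push_cast at h2 ⊢
      linarith
    exact_mod_cast this
  · intro x hx
    obtain ⟨χ, hχ, rfl⟩ := Multiset.mem_map.1 hx
    exact ⟨χ, ne_of_mem_erase (mem_filter.1 hχ).1, rfl⟩

end St

end Cfsg.Agent.SC3
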