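import Cfsg.Agent.SC3.E8a

/-! Automizer of order eight: the maximal invariant subgroups. -/

set_option autoImplicit false

namespace Cfsg.Agent.SC3

open Subgroup Finset

variable {G : Type*} [Group G] [Finite G]

omit [Finite G] in
theorem Good.nm {k : G} {D W : Subgroup G} (h : Good k D) (hW : Mx k W) (hn : Nm W ≤ Nm D) :
    Nm D = Nm W ∧ ∀ U, Iv k U → U ≤ Nm D → U ≤ W := by
  obtain ⟨O, h1, h2, h3⟩ := h
  have h4 := h3 W hW.1 ((le_Nm W).trans hn)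
  obtain rfl := le_antisymm h4 (hW.2 h1 h4)
  exact ⟨le_antisymm h2 hn, h3⟩

theorem pow_mod3 {n : ℕ} (h : 2 ^ n % 3 = 1) : n % 2 = 0 := by_contra fun e => by
  rw [← Nat.div_add_mod n 2, show n % 2 = 1 by omega, pow_succ, pow_mul, Nat.mul_mod, Nat.pow_mod] at h
  simp at h

omit [Finite G] in
theorem eq_bot_of_pp {p q : ℕ} (hp : p.Prime) (hq : q.Prime) (h : p ≠ q) {D W : Subgroup G} (hD : IsPGroup p D)
    (hW : IsPGroup q W) (hl : D ≤ W) : D = ⊥ :=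
  have := Fact.mk hp
  have := Fact.mk hq
  disjoint_self.1 (IsPGroup.disjoint_of_ne p q h D D hD (hW.to_le hl))

theorem Gx.ti {k : G} (Z : Gx k) (h : ∀ V W, Mx k V → Mx k W → V ⊓ W ≠ ⊥ → Good k (V ⊓ W)) :
    ∀ V W, Mx k V → Mx k W → V ≠ W → V ⊓ W = ⊥ := by
  by_contra h0
  obtain ⟨⟨V, W⟩, ⟨hV, hW, h1, h2⟩, h3⟩ := Set.exists_max_image
    {p : Subgroup G × Subgroup G | Mx k p.1 ∧ Mx k p.2 ∧ p.1 ≠ p.2 ∧ p.1 ⊓ p.2 ≠ ⊥}
    (fun p => Nat.card (p.1 ⊓ p.2 : Subgroup G)) (Set.toFinite _) (by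
      push Not at h0
      obtain ⟨V, W, h0⟩ := h0
      exact ⟨(V, W), h0⟩)
  simp only at hV hW h1 h2 h3
  obtain ⟨O, i1, -, i2⟩ := h V W hV hW h2
  obtain ⟨U, i3, hU⟩ := i1.exists_mx
  have hI := hV.1.inf hW.1.nm
  have h4 : ∀ X, Mx k X → V ⊓ W ≤ X → V ⊓ W ≠ X → X = U := fun X hX j1 j2 => by_contra fun e => by
    obtain ⟨x, hx, j3⟩ := Z.cx.norm_grow hX.1 j1 j2
    have j4 := (i2 _ (hX.1.inf (Nm_le_Nm_Nm _ hI.nm)) inf_le_right).trans i3
    have j5 : V ⊓ W ≤ X ⊓ U := le_inf j1 ((le_inf j1 (le_Nm _)).trans j4)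
    exact (h3 (X, U) ⟨hX, hU, e, fun e' => h2 (eq_bot_iff.2 (e' ▸ j5))⟩).not_gt
      (card_lt j5 fun e' => j3 (e'.ge ⟨hx.1, j4 hx⟩))
  exact h1 ((h4 V hV inf_le_left fun e => h1 (le_antisymm (inf_eq_left.1 e) (hV.2 hW.1 (inf_eq_left.1 e)))).trans
    (h4 W hW inf_le_right fun e => h1 (le_antisymm (hW.2 hV.1 (inf_eq_right.1 e)) (inf_eq_right.1 e))).symm)

namespace St

variable {R : Sylow 3 G} {q a b : ℕ} (T : St R q a b)
include T

theorem idx3 {B : Subgroup G} (h : Nat.card B = 3 * (2 ^ a * q ^ b)) : False := by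
  have h1 := B.card_mul_index
  have h2 : 0 < 2 ^ a * q ^ b := by have := T.hq.pos; positivity
  rw [h, T.card, mul_assoc 9] at h1
  have h3 : B.index = 3 := by nlinarith
  have := T.index_ne (B := B) (by omega)
  omega

theorem split {W D E : Subgroup G} (hW : ¬ 3 ∣ Nat.card W) (hD : D ≤ W) (hE : E ≤ W) (h1 : IsPGroup 2 D)
    (h2 : IsPGroup q E) (h3 : ¬ 2 ∣ D.relIndex W) (h4 : ¬ q ∣ E.relIndex W) :
    Nat.card W = Nat.card D * Nat.card E := by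
  have := Fact.mk T.hq
  have hc : Nat.Coprime 2 q := (Nat.coprime_primes Nat.prime_two T.hq).2 (by have := T.h5; omega)
  obtain ⟨u, v, hu, hv, e⟩ := (Nat.dvd_mul).1 (T.dvd_of_nd (card_subgroup_dvd_card W) hW)
  obtain ⟨x, -, rfl⟩ := (Nat.dvd_prime_pow Nat.prime_two).1 hu
  obtain ⟨y, -, rfl⟩ := (Nat.dvd_prime_pow T.hq).1 hv
  refine Nat.dvd_antisymm (e ▸ Nat.mul_dvd_mul ?_ ?_) ?_
  · exact ((Nat.prime_two.coprime_iff_not_dvd.2 h3).pow_left x).dvd_of_dvd_mul_right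
      (by rw [card_mul_relIndex hD, ← e]; exact dvd_mul_right _ _)
  · exact ((T.hq.coprime_iff_not_dvd.2 h4).pow_left y).dvd_of_dvd_mul_right
      (by rw [card_mul_relIndex hE, ← e]; exact dvd_mul_left _ _)
  · obtain ⟨n, hn⟩ := h1.exists_card_eq
    obtain ⟨m, hm⟩ := h2.exists_card_eq
    exact (hn ▸ hm ▸ hc.pow n m).mul_dvd_of_dvd_of_dvd (card_dvd_of_le hD) (card_dvd_of_le hE)

theorem h9 (h8 : (R : Subgroup G).relIndex (Nm R) = 8) : 3 ≤ a ∧ 2 ^ (a - 3) * q ^ b % 9 = 1 := by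
  obtain ⟨h1, h2⟩ := T.index_Nm
  rw [h8] at h1
  have h3 : 3 ≤ a := (Nat.pow_dvd_pow_iff_le_right one_lt_two).1 (((Nat.prime_two.coprime_iff_not_dvd.2
    (by simpa using odd_aux T.hq T.h5 b 0)).pow_left 3).dvd_of_dvd_mul_right (h1 ▸ dvd_mul_right _ _))
  rw [show a = 3 + (a - 3) by omega, pow_add, mul_assoc] at h1
  exact ⟨h3, by omega⟩

variable {k : G} (Z : Gx k) (h8 : (R : Subgroup G).relIndex (Nm R) = 8)
include Z h8

theorem mx_type {W : Subgroup G} (hW : Mx k W) (h0 : W ≠ ⊥) :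
    IsPGroup 2 W ∨ (Nat.card W = q ^ b ∧ qc a q b) := by
  have := Fact.mk T.hq
  have := T.simple
  have h5 := T.h5
  obtain ⟨ha, h9⟩ := T.h9 h8
  have hc : Nat.card G ∣ 9 * 2 ^ a * q ^ b := T.card ▸ dvd_rfl
  obtain ⟨E, e1, e2, e3, e4, e5⟩ := Z.cx.exists_pp hW.1 T.hq
  obtain ⟨D, d1, d2, d3, d4, d5⟩ := Z.cx.exists_pp hW.1 Nat.prime_two
  have h1 := T.split hW.1.nd d1 e1 d2 e2 d5 e5
  obtain ⟨n, hn⟩ := d2.exists_card_eq
  refine or_iff_not_imp_left.2 fun h2 => ?_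
  have hE : E ≠ ⊥ := fun e => h2 (IsPGroup.of_card (by rw [h1, e, card_bot, mul_one, hn]))
  have iE := hW.1.of_le e1 (e4 hW.1.nm)
  obtain ⟨h3, h4⟩ := ((Z.local T.hq h5 hc iE hE (Or.inr rfl) e2).resolve_right (by omega)).nm hW e4
  have h6 := Z.q_sylow hW h0 T.hq h5 e1 e2 e5 h3 T.dq T.ndq
  have h7 := sylow_index h6 T.ndq
  have h10 := (Nm W).card_mul_index
  have h11 := h6 ▸ Z.cx.card_mod iE
  have hp : 0 < q ^ b := pow_pos T.hq.pos b
  have hP : 2 ^ a = 2 * 2 ^ (a - 1) := by rw [← pow_succ', Nat.sub_add_cancel (by omega)]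
  rw [h3, Nat.ModEq, Nat.mod_eq_of_lt T.hq.one_lt] at h7
  rw [T.card] at h10
  by_cases hD : D = ⊥
  · rw [hD, card_bot, one_mul, h6] at h1
    refine ⟨h1, h11, ?_⟩
    rcases Z.idx hW h0 with e | ⟨e, -⟩ <;> rw [e, h1] at h10
    · exact Or.inl (by rwa [← show (Nm W).index = 3 * 2 ^ a from Nat.eq_of_mul_eq_mul_left (show 0 < 3 * q ^ b by omega)
        (h10.trans (by ring))])
    · exact Or.inr (by
        rwa [← show (Nm W).index = 3 * 2 ^ (a - 1) from Nat.eq_of_mul_eq_mul_left (show 0 < 6 * q ^ b by omega)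
          (h10.trans (by rw [hP]; ring))])
  exfalso
  have iD := hW.1.of_le d1 (d4 hW.1.nm)
  rcases Z.local T.hq h5 hc iD hD (Or.inl rfl) d2 with h12 | ⟨-, -, O, T₁, T₂, B⟩
  swap
  · have h12 : E ≤ O := le_trans (fun x hx => mem_Ce.2 fun y hy => by
      obtain ⟨i, hi⟩ := e2 ⟨x, hx⟩
      obtain ⟨j, hj⟩ := d2 ⟨y, hy⟩
      exact Z.cx.coprime_comm hW.1 (e1 hx) (d1 hy) (Nat.Coprime.of_dvd
        (orderOf_dvd_of_pow_eq_one (congrArg Subtype.val hi)) (orderOf_dvd_of_pow_eq_one (congrArg Subtype.val hj))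
        (((Nat.coprime_primes T.hq Nat.prime_two).2 (by omega)).pow i j))) B.ce
    have h13 : ∀ U, Iv k U → O ≤ U → U ≤ W := fun U hU h => h4 U hU (by
      obtain ⟨E', j1, j2, j3, j4, -⟩ := Z.cx.exists_pp hU T.hq
      obtain ⟨m, hm⟩ := j2.exists_card_eq
      rw [eq_of_card_le (U := E) (V := E') (fun x hx => (e2 ⟨x, hx⟩).elim fun i hi =>
        j3 x (h (h12 hx)) i (congrArg Subtype.val hi)) (by
          rw [hm, h6]; exact Nat.pow_le_pow_right T.hq.pos (le_of_pow_dvd (hm ▸ card_subgroup_dvd_card _) T.ndq))]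
      exact (le_Nm U).trans j4)
    exact hW.1.nd (B.th.trans (card_dvd_of_le (sup_le (h13 _ B.i1 B.o1) (h13 _ B.i2 B.o2))))
  rw [hn, h6] at h1
  rcases Z.two_type hW d1 hn hD d3 d5 (h12.nm hW d4).1 T.nd2 T.d2 with ⟨e, rfl⟩ | ⟨e, -, -, -, rfl | ⟨rfl, -⟩⟩
  · exact T.idx3 (e.trans (by rw [h1]))
  · exact T.idx3 (e.trans (by rw [h1]; ring))
  obtain ⟨S, hS⟩ := Sylow.exists_subgroup_card_pow_prime 2 T.d2
  obtain ⟨g, hg⟩ := exists_cj_le hS d2 T.nd2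
  have hS' : D ≤ cj g⁻¹ S := by simpa [cj_cj, cj_one] using cj_mono (g := g⁻¹) hg
  have hS'' := (card_cj g⁻¹ S).trans hS
  obtain ⟨z, hz, h13⟩ := exists_central (IsPGroup.of_card hS'') fun e => hD (eq_bot_iff.2 (e ▸ hS'))
  have h14 : z ∈ W := hW.le_of_Nm ⟨Nm_le_Nm_Ce D iD.nm, Z.cx.h3.nd_Ce iD.nd hD⟩
    ((h12.nm hW d4).1 ▸ centralizer_le_normalizer _) (centralizer_le hS' hz.2)
  have h15 : orderOf z ∣ 2 ^ a := hS'' ▸ Subgroup.orderOf_dvd_natCard _ hz.1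
  have h16 : 2 ^ a * q ^ b ∣ Nat.card (C1 z) := (((Nat.coprime_primes Nat.prime_two T.hq).2 (by omega)).pow a
    b).mul_dvd_of_dvd_of_dvd (hS'' ▸ card_dvd_of_le fun x hx => mem_C1.2 (mem_Ce.1 hz.2 x hx))
      (h6 ▸ card_dvd_of_le fun x hx => mem_C1.2 (Z.cx.coprime_comm hW.1 h14 (e1 hx) (Nat.Coprime.of_dvd h15
        (h6 ▸ E.orderOf_dvd_natCard hx) (((Nat.coprime_primes Nat.prime_two T.hq).2 (by omega)).pow a b))))
  have h17 : (C1 z).index ≤ 9 := by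
    have j1 := (C1 z).card_mul_index
    have j2 := Nat.le_of_dvd (card_pos' _) h16
    have j3 : 0 < 2 ^ a * q ^ b := by positivity
    rw [T.card, mul_assoc] at j1
    nlinarith
  have h18 := (no_small_index (B := C1 z) fun e => not_normal T.nc (P := zpowers z) (isP_zpowers Nat.prime_two
    (orderOf_dvd_iff_pow_eq_one.1 h15)) (zpowers_ne_bot.2 h13) (eq_top_iff.2 fun x hx => by
      have := mem_C1.1 (e.ge hx)
      exact centralizer_le_normalizer _ (mem_Ce.2 fun y ⟨n, hn⟩ => hn ▸ this.symm.zpow_right n))).trans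
    (Nat.factorial_dvd_factorial h17)
  have h19 : b ≠ 0 := fun e => hE (eq_bot_of_card_eq _ (by rw [h6, e, pow_zero]))
  have h20 : q ≤ 9 := (T.hq.dvd_factorial).1 ((dvd_pow_self q h19).trans (T.dq.trans h18))
  have h21 : a ≤ 7 := le_of_pow_dvd (T.d2.trans h18) (by decide)
  have h22 : b ≤ 1 := le_of_pow_dvd (T.dq.trans h18) (by have := T.hq; interval_cases q <;> first | decide | norm_num at this)
  obtain rfl : b = 1 := by omega
  rw [e, h1] at h10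
  have h23 : (Nm W).index = 3 * 2 ^ (a - 3) := Nat.eq_of_mul_eq_mul_left (show 0 < 24 * q ^ 1 by omega) (by
    rw [show a = 3 + (a - 3) by omega, pow_add] at h10
    linarith)
  rw [h23] at h7
  have := T.hq
  interval_cases q <;> first | omega | (interval_cases a <;> simp_all)

theorem sum_mx (hk : k ∈ (R : Subgroup G)) : ∃ nq nS nH nV : ℕ, ∑ W ∈ MX k, (Nat.card W - 1) =
    nq * (q ^ b - 1) + (nS * (2 ^ a - 1) + nH * (2 ^ (a - 1) - 1) + nV * 3) ∧ nq ≤ 6 ∧ (0 < nq → qc a q b) ∧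
      nS ≤ 6 ∧ nH ≤ 3 ∧ nV ≤ 11 ∧ (0 < nV → nS = 0) ∧ (0 < nH → a % 2 = 1) ∧ (0 < nS → a % 2 = 0) := by
  classical
  have hA := card_Ak Z.ord
  rw [T.C1_card hk Z.cx.ne_one] at hA
  obtain ⟨nS, nH, nV, i1, i2, i3, i4, i5, i6, i7, -⟩ := Z.two_sum
    (X := ((MX k).filter (· ≠ ⊥)).filter fun W => IsPGroup 2 W) T.nd2 T.d2 fun W hW => by
      simp only [mem_filter, mem_MX] at hW
      exact ⟨hW.1.1, hW.1.2, hW.2⟩
  have h1 : ∀ W ∈ ((MX k).filter (· ≠ ⊥)).filter fun W : Subgroup G => ¬ IsPGroup 2 W,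
      Mx k W ∧ W ≠ ⊥ ∧ Nat.card W = q ^ b ∧ qc a q b := fun W hW => by
    simp only [mem_filter, mem_MX] at hW
    exact ⟨hW.1.1, hW.1.2, (T.mx_type Z h8 hW.1.1 hW.1.2).resolve_left hW.2⟩
  have := Fact.mk T.hq
  refine ⟨(((MX k).filter (· ≠ ⊥)).filter fun W : Subgroup G => ¬ IsPGroup 2 W).card, nS, nH, nV, ?_, ?_,
    fun h => (card_pos.1 h).elim fun W hW => (h1 W hW).2.2.2, by omega, by omega, by omega, fun h => (i5 h).2,
    fun h => (i6 h).1, fun h => (i7 h).1⟩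
  · rw [← sum_filter_of_ne (p := (· ≠ ⊥)) (fun W _ h e => h (by simp [e])),
      ← sum_filter_add_sum_filter_not _ (fun W : Subgroup G => IsPGroup 2 W), i1, add_comm,
      sum_congr rfl (g := fun _ => q ^ b - 1) fun W hW => by rw [(h1 W hW).2.2.1], sum_const, smul_eq_mul]
  · rcases (((MX k).filter (· ≠ ⊥)).filter fun W : Subgroup G => ¬ IsPGroup 2 W).eq_empty_or_nonempty with e | ⟨W, hW⟩
    · simp [e]
    have := Z.orb3 (h1 W hW).1 (h1 W hW).2.1 fun V hV =>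
      ⟨(h1 V hV).1.1, conj_of_card (h1 W hW).2.2.1 (h1 V hV).2.2.1 T.ndq⟩
    omega

end St

theorem no9792 {R : Sylow 3 G} (T : St R 17 6 1) : False := by
  have := T.simple
  have := Fact.mk T.hq
  obtain ⟨x, -, hx⟩ := exists_ord (U := (⊤ : Subgroup G)) T.hq (by rw [card_top, T.card]; norm_num)
  have h1 : Nat.card (zpowers x) = 17 ^ 1 := by rw [Nat.card_zpowers, hx, pow_one]
  have h2 := sylow_index h1 T.ndq
  have h0 := zpowers_ne_bot.2 (show x ≠ 1 from fun e => by simp [e] at hx)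
  have h3 := not_normal T.nc (IsPGroup.of_card h1) h0
  have h4 := (Nm (zpowers x)).card_mul_index
  have h5 := card_dvd_of_le (le_Nm (zpowers x))
  have h6 : (Nm (zpowers x)).index ∣ 576 := by
    obtain ⟨c, hc⟩ := h5
    rw [hc, h1, T.card] at h4
    exact ⟨c, by linarith⟩
  have h7 : (Nm (zpowers x)).index = 18 := by
    have := mt index_eq_one.1 h3
    have h8 := Nat.mem_divisors.2 ⟨h6, by norm_num⟩
    exact (by decide : ∀ n ∈ Nat.divisors 576, n % 17 = 1 % 17 → n ≠ 1 → n = 18) _ h8 h2 this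
  rw [h7, T.card] at h4
  have h8 := class_card (S := Nm (zpowers x)) x (Y := nt (zpowers x)) fun s hs =>
    mem_nt.2 ⟨Nm_conj hs (mem_zpowers x), by simpa using h0⟩
  rw [card_nt, h1] at h8
  have h9 := card_dvd_of_le (inf_le_left : Nm (zpowers x) ⊓ C1 x ≤ _)
  rw [show Nat.card (Nm (zpowers x)) = 2 ^ 5 * 17 by omega] at h8 h9
  obtain ⟨t, ht, h10⟩ := exists_ord (U := Nm (zpowers x) ⊓ C1 x) Nat.prime_two (by_contra fun e => by
    have := Nat.le_of_dvd (by norm_num) (((Nat.prime_two.coprime_iff_not_dvd.2 e).symm.pow_right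
      5).dvd_of_dvd_mul_left h9)
    omega)
  have := le_index h3 T.hq (by norm_num) hx h10 (mem_C1.1 ht.2)
  omega

end Cfsg.Agent.SC3
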