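import Mathlib

/-! Groups with a fixed point free automorphism of order three. -/

set_option autoImplicit false

namespace Cfsg.Agent.SC3

open Subgroup
open scoped commutatorElement

variable {H : Type*} [Group H]

/-- normalizer -/
abbrev Nm (U : Subgroup H) : Subgroup H := normalizer (U : Set H)
/-- centralizer -/
abbrev Ce (U : Subgroup H) : Subgroup H := centralizer (U : Set H)
/-- conjugate -/
def cj (g : H) (U : Subgroup H) : Subgroup H := U.map (MulAut.conj g).toMonoidHom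

theorem mem_cj {g x : H} {U : Subgroup H} : x ∈ cj g U ↔ g⁻¹ * x * g ∈ U :=
  ⟨by rintro ⟨y, hy, rfl⟩; simpa [mul_assoc] using hy, fun h => ⟨_, h, by simp [mul_assoc]⟩⟩

theorem conj_mem_cj {g x : H} {U : Subgroup H} : g * x * g⁻¹ ∈ cj g U ↔ x ∈ U := by
  simp [mem_cj, mul_assoc]

theorem card_cj (g : H) (U : Subgroup H) : Nat.card (cj g U) = Nat.card U :=
  card_map_of_injective (MulAut.conj g).injective

theorem cj_cj (g h : H) (U : Subgroup H) : cj g (cj h U) = cj (g * h) U := by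
  ext; simp [mem_cj, mul_assoc]

theorem cj_one (U : Subgroup H) : cj 1 U = U := by ext; simp [mem_cj]

theorem cj_eq_iff {g : H} {U : Subgroup H} : cj g U = U ↔ g ∈ Nm U := mem_normalizer_iff_map_conj_eq.symm

theorem cj_mono {g : H} {U V : Subgroup H} (h : U ≤ V) : cj g U ≤ cj g V := map_mono h

theorem cj_le_iff {g : H} {U V : Subgroup H} : cj g U ≤ cj g V ↔ U ≤ V :=
  map_le_map_iff_of_injective (MulAut.conj g).injective

theorem mem_Nm_cj {g x : H} {U : Subgroup H} : x ∈ Nm (cj g U) ↔ g⁻¹ * x * g ∈ Nm U := by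
  rw [← cj_eq_iff, ← cj_eq_iff, cj_cj]
  constructor
  · intro h; rw [mul_assoc, ← cj_cj, h, cj_cj, inv_mul_cancel, cj_one]
  · intro h; conv_rhs => rw [← h, cj_cj]
    congr 1; group

theorem Nm_cj (g : H) (U : Subgroup H) : Nm (cj g U) = cj g (Nm U) := by
  ext; rw [mem_Nm_cj, mem_cj]

theorem mem_Ce {x : H} {U : Subgroup H} : x ∈ Ce U ↔ ∀ y ∈ U, Commute x y :=
  mem_centralizer_iff.trans ⟨fun h y hy => (h y hy).symm, fun h y hy => (h y hy).symm⟩

theorem commute_conj {a b g : H} : Commute (g * a * g⁻¹) (g * b * g⁻¹) ↔ Commute a b := by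
  simp only [Commute, SemiconjBy, mul_assoc, inv_mul_cancel_left, mul_right_inj]
  simp only [← mul_assoc, mul_left_inj]

theorem Ce_cj (g : H) (U : Subgroup H) : Ce (cj g U) = cj g (Ce U) := by
  ext x
  rw [mem_cj, mem_Ce, mem_Ce]
  refine ⟨fun h y hy => ?_, fun h y hy => ?_⟩
  · have := h _ (conj_mem_cj.2 hy)
    rw [← commute_conj (g := g)]; simpa [mul_assoc] using this
  · have := h _ (mem_cj.1 hy)
    rw [← commute_conj (g := g⁻¹)]; simpa [mul_assoc] using this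

theorem Nm_conj {g x : H} {U : Subgroup H} (hg : g ∈ Nm U) (hx : x ∈ U) : g * x * g⁻¹ ∈ U :=
  (mem_normalizer_iff.1 hg x).1 hx

theorem Nm_conj' {g x : H} {U : Subgroup H} (hg : g ∈ Nm U) (hx : x ∈ U) : g⁻¹ * x * g ∈ U := by
  simpa using Nm_conj (inv_mem hg) hx

theorem mem_Nm [Finite H] {g : H} {U : Subgroup H} (h : ∀ x ∈ U, g * x * g⁻¹ ∈ U) : g ∈ Nm U :=
  mem_normalizer_fintype h

theorem Nm_le_Nm_Ce (U : Subgroup H) : Nm U ≤ Nm (Ce U) := fun g hg => by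
  rw [← cj_eq_iff, ← Ce_cj, cj_eq_iff.2 hg]

theorem Nm_inf {g : H} {U V : Subgroup H} (h1 : g ∈ Nm U) (h2 : g ∈ Nm V) : g ∈ Nm (U ⊓ V) :=
  fun x => and_congr (h1 x) (h2 x)

theorem Nm_sup {g : H} {U V : Subgroup H} (h1 : g ∈ Nm U) (h2 : g ∈ Nm V) : g ∈ Nm (U ⊔ V) := by
  rw [← cj_eq_iff] at *
  rw [cj, Subgroup.map_sup]; exact congrArg₂ _ h1 h2

theorem Nm_le_Nm_Nm (U : Subgroup H) : Nm U ≤ Nm (Nm U) := le_normalizer

theorem mem_sup_Nm {U V : Subgroup H} (h : V ≤ Nm U) {x : H} (hx : x ∈ U ⊔ V) :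
    ∃ u ∈ U, ∃ v ∈ V, x = u * v := by
  obtain ⟨u, hu, v, hv, e⟩ := (coe_mul_of_right_le_normalizer_left U V h).le hx
  exact ⟨u, hu, v, hv, e.symm⟩

theorem orderOf_conj (g x : H) : orderOf (g * x * g⁻¹) = orderOf x :=
  (MulAut.conj g).orderOf_eq x

theorem comm_mem {U : Subgroup H} {x y : H} (hx : x ∈ U) (hy : y ∈ U) : ⁅x, y⁆ ∈ U :=
  mul_mem (mul_mem (mul_mem hx hy) (inv_mem hx)) (inv_mem hy)

/-- elements of order three do not commute with non-trivial elements of order prime to three -/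
def H3 (H : Type*) [Group H] : Prop :=
  ∀ x y : H, orderOf x = 3 → Commute x y → ¬ 3 ∣ orderOf y → y = 1

/-- the context -/
structure Cx (k : H) : Prop where
  h3 : H3 H
  ord : orderOf k = 3

/-- invariant subgroups of order prime to three -/
structure Iv (k : H) (U : Subgroup H) : Prop where
  nm : k ∈ Nm U
  nd : ¬ 3 ∣ Nat.card U

theorem nd_ord {U : Subgroup H} (h : ¬ 3 ∣ Nat.card U) {x : H} (hx : x ∈ U) : ¬ 3 ∣ orderOf x :=
  fun e => h (e.trans (U.orderOf_dvd_natCard hx))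

theorem exists_ord [Finite H] {U : Subgroup H} {p : ℕ} (hp : p.Prime) (h : p ∣ Nat.card U) :
    ∃ x ∈ U, orderOf x = p := by
  have := Fact.mk hp
  obtain ⟨x, hx⟩ := exists_prime_orderOf_dvd_card' p h
  exact ⟨x, x.2, (orderOf_coe x).trans hx⟩

theorem nd_of [Finite H] {U : Subgroup H} (h : ∀ x ∈ U, orderOf x ≠ 3) : ¬ 3 ∣ Nat.card U := fun e =>
  let ⟨x, hx, h1⟩ := exists_ord Nat.prime_three e
  h x hx h1

theorem mem_of_pow_mem [Finite H] {U : Subgroup H} {x : H} {n : ℕ} (h : (orderOf x).Coprime n)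
    (hx : x ^ n ∈ U) : x ∈ U := by
  obtain ⟨m, hm⟩ := exists_pow_eq_self_of_coprime h.symm
  rw [← hm]; exact pow_mem hx m

theorem nd_sup [Finite H] {U V : Subgroup H} (hU : ¬ 3 ∣ Nat.card U) (hV : ¬ 3 ∣ Nat.card V)
    (h : V ≤ Nm U) : ¬ 3 ∣ Nat.card (U ⊔ V : Subgroup H) := nd_of fun x hx e => by
  obtain ⟨u, hu, v, hv, rfl⟩ := mem_sup_Nm h hx
  have h1 : (u * v) ^ 3 = u * (v * u * v⁻¹) * (v * (v * u * v⁻¹) * v⁻¹) * v ^ 3 := by
    simp only [pow_three']; group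
  rw [← e, pow_orderOf_eq_one, e] at h1
  have h2 : v ^ 3 ∈ U := by
    rw [eq_inv_of_mul_eq_one_right h1.symm]
    exact inv_mem (mul_mem (mul_mem hu (Nm_conj (h hv) hu)) (Nm_conj (h hv) (Nm_conj (h hv) hu)))
  have h3 := mem_of_pow_mem ((Nat.prime_three.coprime_iff_not_dvd.2 (nd_ord hV hv)).symm) h2
  exact nd_ord hU (mul_mem hu h3) e.symm.dvd

theorem H3.nd_Ce [Finite H] (h : H3 H) {U : Subgroup H} (hU : ¬ 3 ∣ Nat.card U) (h1 : U ≠ ⊥) :
    ¬ 3 ∣ Nat.card (Ce U) := nd_of fun x hx e => h1 (eq_bot_iff.2 fun y hy =>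
  h x y e (mem_Ce.1 hx y hy) (nd_ord hU hy))

theorem H3.eq_one [Finite H] (h : H3 H) {J : Subgroup H} (hJ : 3 ∣ Nat.card J) {u : H}
    (hu : ¬ 3 ∣ orderOf u) (hc : ∀ x ∈ J, Commute x u) : u = 1 :=
  let ⟨x, hx, e⟩ := exists_ord Nat.prime_three hJ
  h x u e (hc x hx) hu

theorem H3.sub (h : H3 H) (M : Subgroup H) : H3 M := fun x y hx hc hy =>
  Subtype.ext (h x y ((orderOf_coe x).trans hx) (congrArg Subtype.val hc) (by rwa [orderOf_coe]))

theorem Iv.inv {k : H} {U : Subgroup H} (h : Iv k U) : Iv k⁻¹ U := ⟨inv_mem h.nm, h.nd⟩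

theorem Iv.cj {k : H} {U : Subgroup H} (h : Iv k U) (g : H) : Iv (g * k * g⁻¹) (cj g U) :=
  ⟨mem_Nm_cj.2 (by simpa [mul_assoc] using h.nm), card_cj g U ▸ h.nd⟩

theorem Iv.of_le {k : H} {U V : Subgroup H} (h : Iv k U) (hV : V ≤ U) (hk : k ∈ Nm V) : Iv k V :=
  ⟨hk, fun e => h.nd (e.trans (card_dvd_of_le hV))⟩

theorem Iv.inf {k : H} {U V : Subgroup H} (h : Iv k U) (hk : k ∈ Nm V) : Iv k (U ⊓ V) :=
  h.of_le inf_le_left (Nm_inf h.nm hk)

theorem Iv.sup [Finite H] {k : H} {U V : Subgroup H} (h : Iv k U) (h' : Iv k V) (hn : V ≤ Nm U) :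
    Iv k (U ⊔ V) := ⟨Nm_sup h.nm h'.nm, nd_sup h.nd h'.nd hn⟩

theorem iv_bot (k : H) : Iv k ⊥ := ⟨by rw [Nm, normalizer_eq_top]; trivial, by simp⟩

theorem ring_aux {R : Type*} [Ring R] {w v y y' : R} (h : w + v + 1 = 0)
    (h1 : y * w + v * y' + 1 = 0) (h2 : y * v + w * y' + 1 = 0) : (y - 1) * w = v * (y - 1) := by
  have h3 : y' = 1 + 1 - y := by
    linear_combination (norm := noncomm_ring) -h1 - h2 + y * h + h * y'
  rw [h3] at h1
  linear_combination (norm := noncomm_ring) h1 - h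

theorem ring_aux2 {R : Type*} [Ring R] {w v u t : R} (h : w + v + 1 = 0) (hw : w * w = v)
    (hv : v * v = w) (h1 : u * w = v * u) (h2 : t * w = v * t)
    (h3 : (u + t + u * t) * w = v * (u + t + u * t)) : u * t + u * t + u * t = 0 := by
  have h4 : u * v = w * u := by
    rw [← hw, ← mul_assoc, h1, mul_assoc, h1, ← mul_assoc, hv]
  have h5 : (w - v) * (u * t) = 0 := by
    linear_combination (norm := noncomm_ring) h3 - h1 - h2 - u * h2 - h4 * t
  have h6 : v * w = 1 := by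
    linear_combination (norm := noncomm_ring) h * w - hw - h
  have h7 : w * v = 1 := by
    linear_combination (norm := noncomm_ring) w * h - hw - h
  linear_combination (norm := noncomm_ring) -(w - v) * h5 + (hw + hv - h6 - h7 + h) * (u * t)

open scoped IsMulCommutative in
/-- the action of the normalizer on a commutative subgroup -/
def rho (A : Subgroup H) [IsMulCommutative A] : Nm A →* AddMonoid.End (Additive A) where
  toFun g := MonoidHom.toAdditive (A.normalizerMonoidHom g).toMonoidHom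
  map_one' := by ext; rw [map_one]; rfl
  map_mul' := by intros; ext; rw [map_mul]; rfl

theorem cube3 {k : H} (hk : orderOf k = 3) : k ^ 3 = 1 := hk ▸ pow_orderOf_eq_one k

theorem sq3 {k : H} (hk : orderOf k = 3) : k * k = k⁻¹ :=
  eq_inv_of_mul_eq_one_left (by rw [← cube3 hk, pow_three'])

theorem zp3 {k g : H} (hk : orderOf k = 3) (h : g ∈ zpowers k) : g = 1 ∨ g = k ∨ g = k⁻¹ := by
  obtain ⟨n, rfl⟩ := h
  have h1 : k ^ n = k ^ (n % 3) := by
    conv_lhs => rw [← Int.emod_add_mul_ediv n 3, zpow_add, zpow_mul]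
    rw [show k ^ (3 : ℤ) = 1 by exact_mod_cast cube3 hk, one_zpow, mul_one]
  simp only [h1]
  have : n % 3 = 0 ∨ n % 3 = 1 ∨ n % 3 = 2 := by omega
  rcases this with e | e | e <;> rw [e]
  · simp
  · simp
  · rw [zpow_two, sq3 hk]; simp

theorem ne_inv3 {k : H} (hk : orderOf k = 3) : k ≠ k⁻¹ := fun e => by
  have h := sq3 hk
  rw [← e, mul_eq_left] at h
  simp [h] at hk

namespace Cx

variable {k : H} (X : Cx k)
include X

theorem inv : Cx k⁻¹ := ⟨X.h3, (orderOf_inv k).trans X.ord⟩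
theorem cj (g : H) : Cx (g * k * g⁻¹) := ⟨X.h3, (orderOf_conj g k).trans X.ord⟩
theorem cube : k ^ 3 = 1 := cube3 X.ord
theorem ne_one : k ≠ 1 := fun e => by have := X.ord; simp [e] at this
theorem sq : k * k = k⁻¹ := sq3 X.ord
theorem mem_zp {g : H} (h : g ∈ zpowers k) : g = 1 ∨ g = k ∨ g = k⁻¹ := zp3 X.ord h

theorem card_zp : Nat.card (zpowers k) = 3 := (Nat.card_zpowers k).trans X.ord

variable {U : Subgroup H} (hU : Iv k U)
include hU

theorem fix {x : H} (hx : x ∈ U) (h : Commute k x) : x = 1 := X.h3 k x X.ord h (nd_ord hU.nd hx)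

theorem not_mem : k ∉ U := fun h => X.ne_one (X.fix hU h rfl)

variable [Finite H]

theorem surj {x : H} (hx : x ∈ U) : ∃ y ∈ U, x * k = y⁻¹ * k * y := by
  let f : U → U := fun y => ⟨y⁻¹ * (k * y * k⁻¹), mul_mem (inv_mem y.2) (Nm_conj hU.nm y.2)⟩
  have : Function.Injective f := fun y z h => by
    have h1 : (y : H)⁻¹ * (k * y * k⁻¹) = (z : H)⁻¹ * (k * z * k⁻¹) := congrArg Subtype.val h
    have h2 := X.fix hU (mul_mem z.2 (inv_mem y.2)) (show k * (z * (y : H)⁻¹) = z * (y : H)⁻¹ * k by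
      calc k * (z * (y : H)⁻¹) = z * ((z : H)⁻¹ * (k * z * k⁻¹)) * k * (y : H)⁻¹ := by group
        _ = _ := by rw [← h1]; group)
    exact Subtype.ext (mul_inv_eq_one.1 h2).symm
  obtain ⟨y, hy⟩ := Finite.injective_iff_surjective.1 this ⟨x, hx⟩
  refine ⟨y, y.2, ?_⟩
  rw [← show (y : H)⁻¹ * (k * y * k⁻¹) = x from congrArg Subtype.val hy]; group

theorem mul {x : H} (hx : x ∈ U) : Cx (x * k) := by
  obtain ⟨y, -, e⟩ := X.surj hU hx
  simpa [e] using X.cj y⁻¹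

theorem rel {x : H} (hx : x ∈ U) : k * x * k⁻¹ * (k⁻¹ * x * k) * x = 1 := by
  have h := (X.mul hU hx).cube
  calc _ = x⁻¹ * (x * k * x * (k⁻¹ * k⁻¹) * x * k * k⁻¹ * k) * x := by group
    _ = x⁻¹ * (x * k) ^ 3 * x := by rw [X.inv.sq, pow_three']; group
    _ = 1 := by rw [h]; group

theorem comm_k {x : H} (hx : x ∈ U) : Commute x (k * x * k⁻¹) := by
  have h1 := X.rel hU hx
  have h2 := X.rel hU (inv_mem hx)
  have h3 : k⁻¹ * x * k = (k * x * k⁻¹)⁻¹ * x⁻¹ := by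
    rw [← mul_one (k * x * k⁻¹)⁻¹, ← h1]; group
  have h4 : k⁻¹ * x * k = x⁻¹ * (k * x * k⁻¹)⁻¹ := by
    rw [← mul_one x⁻¹, ← inv_one, ← h2]; group
  have h5 := h3.symm.trans h4
  simp only [← mul_inv_rev, inv_inj] at h5
  exact h5

omit [Finite H] in
theorem mem_K {g : H} (h : g ∈ U ⊔ zpowers k) : ∃ u ∈ U, g = u ∨ g = u * k ∨ g = u * k⁻¹ := by
  obtain ⟨u, hu, v, hv, rfl⟩ := mem_sup_Nm (zpowers_le.2 hU.nm) h
  rcases X.mem_zp hv with rfl | rfl | rfl <;> exact ⟨u, hu, by simp⟩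

omit X [Finite H] in
theorem iv_mul {u : H} (hu : u ∈ U) : Iv (u * k) U := ⟨mul_mem (le_normalizer hu) hU.nm, hU.nd⟩

theorem comm_K {x g : H} (hx : x ∈ U) (h : g ∈ U ⊔ zpowers k) : Commute x (g * x * g⁻¹) := by
  obtain ⟨u, hu, rfl | rfl | rfl⟩ := X.mem_K hU h
  · have h1 := (X.inv.mul hU.inv hu).comm_k (iv_mul hU.inv hu) (Nm_conj hU.nm hx)
    have h2 := (X.mul hU hu).comm_k (iv_mul hU hu) (Nm_conj' hU.nm hx)
    have h3 := h1.mul_left (show Commute (k⁻¹ * x * k) (g * k⁻¹ * (k * x * k⁻¹) * (g * k⁻¹)⁻¹) by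
      convert h2 using 1; group)
    rw [eq_inv_of_mul_eq_one_left (X.rel hU hx), Commute.inv_left_iff] at h3
    convert h3 using 1; group
  · exact (X.mul hU hu).comm_k (iv_mul hU hu) hx
  · exact (X.inv.mul hU.inv hu).comm_k (iv_mul hU.inv hu) hx

open scoped IsMulCommutative in
theorem key {x y z : H} (hx : x ∈ U) (hy : y ∈ U) (hz : z ∈ U) :
    ⁅y, k * x * k⁻¹⁆ = k⁻¹ * ⁅y, x⁆ * k ∧ ⁅y, ⁅z, x⁆⁆ = 1 := by
  let K := U ⊔ zpowers k
  let A : Subgroup H := closure {b | ∃ g ∈ K, b = g * x * g⁻¹}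
  have : IsMulCommutative A := isMulCommutative_closure (by
    rintro _ ⟨g, hg, rfl⟩ _ ⟨h, hh, rfl⟩
    have := (commute_conj (g := g)).2 (X.comm_K hU hx (mul_mem (inv_mem hg) hh))
    convert this.eq using 2 <;> group)
  have hK : K ≤ Nm A := le_normalizer_closure_iff.2 (by
    rintro h hh _ ⟨g, hg, rfl⟩
    exact subset_closure ⟨h * g, mul_mem hh hg, by group⟩)
  have hA : A ≤ U := (closure_le _).2 (by
    rintro _ ⟨g, hg, rfl⟩
    exact Nm_conj (sup_le le_normalizer (zpowers_le.2 hU.nm) hg) hx)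
  let ρ : K →* AddMonoid.End (Additive A) := (rho A).comp (inclusion hK)
  have h1 : ∀ g : K, Cx (g : H) → Iv (g : H) U → ρ g + ρ g⁻¹ + 1 = 0 := fun g h1 h2 => by
    ext a
    have := h1.rel h2 (hA a.toMul.2)
    change (g : H) * a.toMul * (g : H)⁻¹ * ((g : H)⁻¹ * a.toMul * (g : H)⁻¹⁻¹) * a.toMul = 1
    rwa [inv_inv]
  let k' : K := ⟨k, mem_sup_right (mem_zpowers k)⟩
  have h2 := h1 k' X hU
  have h3 : ∀ u : K, (u : H) ∈ U → (ρ u - 1) * ρ k' = ρ k'⁻¹ * (ρ u - 1) := fun u hu =>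
    ring_aux (y' := ρ u⁻¹) h2 (by simpa using h1 (u * k') (X.mul hU hu) (iv_mul hU hu))
      (by simpa using h1 (u * k'⁻¹) (X.inv.mul hU.inv hu) (iv_mul hU.inv hu))
  let y' : K := ⟨y, mem_sup_left hy⟩
  let z' : K := ⟨z, mem_sup_left hz⟩
  have h4 := ring_aux2 h2 (by rw [← map_mul]; exact congrArg ρ (Subtype.ext X.sq))
    (by rw [← map_mul]; exact congrArg ρ (Subtype.ext (by simpa using X.inv.sq))) (h3 y' hy) (h3 z' hz)
    (by convert h3 (y' * z') (mul_mem hy hz) using 2 <;> simp only [map_mul, mul_sub, sub_mul, mul_one, one_mul] <;> abel)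
  let a : A := ⟨x, subset_closure ⟨1, one_mem _, by simp⟩⟩
  have h5 : ∀ (u : K) (b : Additive A), (((ρ u - 1) b).toMul : H) = ⁅(u : H), (b.toMul : H)⁆ := fun u b => by
    change ((ρ u b - b).toMul : H) = _
    rw [toMul_sub, div_eq_mul_inv]; rfl
  constructor
  · have := congrArg (fun f => ((f (Additive.ofMul a)).toMul : H)) (h3 y' hy)
    change (((ρ y' - 1) (ρ k' (Additive.ofMul a))).toMul : H) =
      k⁻¹ * (((ρ y' - 1) (Additive.ofMul a)).toMul : H) * k⁻¹⁻¹ at this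
    rw [h5, h5, inv_inv] at this
    exact this
  · have := congrArg (fun f => ((f (Additive.ofMul a)).toMul : H)) h4
    change (((ρ y' - 1) ((ρ z' - 1) (Additive.ofMul a))).toMul : H) *
      (((ρ y' - 1) ((ρ z' - 1) (Additive.ofMul a))).toMul : H) *
      (((ρ y' - 1) ((ρ z' - 1) (Additive.ofMul a))).toMul : H) = 1 at this
    rw [h5, h5] at this
    have h6 : ⁅y, ⁅z, x⁆⁆ ∈ U := comm_mem hy (comm_mem hz hx)
    by_contra h7
    exact nd_ord hU.nd h6 (orderOf_eq_prime (by rw [pow_three']; exact this) h7).symm.dvd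

theorem card_mod : Nat.card U % 3 = 1 := by
  classical
  have := Fintype.ofFinite U
  have := Fact.mk Nat.prime_three
  let f : Function.End U := fun y => ⟨k * y * k⁻¹, Nm_conj hU.nm y.2⟩
  have h := Equiv.Perm.card_fixedPoints_modEq (f := f) (p := 3) (n := 1) (by
    funext y; apply Subtype.ext
    show k * (k * (k * y * k⁻¹) * k⁻¹) * k⁻¹ = y
    calc _ = k ^ 3 * y * (k ^ 3)⁻¹ := by rw [pow_three']; group
      _ = _ := by rw [X.cube]; group)
  have h2 : Fintype.card f.fixedPoints = 1 := Fintype.card_eq_one_iff.2 ⟨⟨1, Subtype.ext (by simp [f])⟩, fun y =>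
    Subtype.ext (Subtype.ext (X.fix hU y.1.2 (mul_inv_eq_iff_eq_mul.1 (congrArg Subtype.val y.2))))⟩
  rw [h2] at h
  rw [Nat.card_eq_fintype_card, h]

end Cx

end Cfsg.Agent.SC3
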