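import Cfsg.Agent.SC3.Fpf

/-! Consequences of class two. -/

set_option autoImplicit false

namespace Cfsg.Agent.SC3

open Subgroup
open scoped commutatorElement

variable {H : Type*} [Group H] [Finite H]

omit [Finite H] in
theorem card_pos' [Finite H] (U : Subgroup H) : 0 < Nat.card U := Nat.card_pos

theorem eq_of_card_le {U V : Subgroup H} (h : U ≤ V) (h' : Nat.card V ≤ Nat.card U) : U = V :=
  eq_of_le_of_card_ge h h'

theorem card_lt {U V : Subgroup H} (h : U ≤ V) (h' : U ≠ V) : Nat.card U < Nat.card V :=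
  lt_of_not_ge fun e => h' (eq_of_card_le h e)

theorem card_mul_le {A B U : Subgroup H} (hA : A ≤ U) (hB : B ≤ U) (h : A ⊓ B = ⊥) :
    Nat.card A * Nat.card B ≤ Nat.card U := by
  rw [← Nat.card_prod]
  refine Nat.card_le_card_of_injective (fun p => (⟨p.1 * p.2, mul_mem (hA p.1.2) (hB p.2.2)⟩ : U))
    fun p q e => ?_
  have h1 : (p.1 : H) * p.2 = q.1 * q.2 := congrArg Subtype.val e
  have h2 : (q.1 : H)⁻¹ * p.1 = q.2 * (p.2 : H)⁻¹ := by
    rw [inv_mul_eq_iff_eq_mul, ← mul_assoc, ← h1]; group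
  have h3 : (q.1 : H)⁻¹ * p.1 = 1 := mem_bot.1 (h.le ⟨A.mul_mem (A.inv_mem q.1.2) p.1.2,
    h2 ▸ B.mul_mem q.2.2 (B.inv_mem p.2.2)⟩)
  rw [h3] at h2
  exact Prod.ext (Subtype.ext (inv_mul_eq_one.1 h3).symm) (Subtype.ext (mul_inv_eq_one.1 h2.symm).symm)

omit [Finite H] in
theorem card_mul_relIndex {A U : Subgroup H} (h : A ≤ U) : Nat.card A * A.relIndex U = Nat.card U := by
  rw [← (A.subgroupOf U).card_mul_index, Nat.card_congr (subgroupOfEquivOfLe h).toEquiv]; rfl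

theorem inv_mul_mem_of_two {B U : Subgroup H} (h : B ≤ U) (hc : Nat.card U ≤ 2 * Nat.card B) {x y : H}
    (hx : x ∈ U) (hy : y ∈ U) (h1 : x ∉ B) (h2 : y ∉ B) : x⁻¹ * y ∈ B := by
  have h3 := card_mul_relIndex h
  have h4 : B.relIndex U ≠ 1 := fun e => h1 (relIndex_eq_one.1 e hx)
  have h5 : B.relIndex U ≠ 0 := index_ne_zero_of_finite
  have h6 : (B.subgroupOf U).index = 2 := by
    have := card_pos' B
    change B.relIndex U = 2
    by_contra h6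
    have : 3 ≤ B.relIndex U := by omega
    nlinarith
  exact (mul_mem_iff_of_index_two h6 (a := ⟨x⁻¹, inv_mem hx⟩) (b := ⟨y, hy⟩)).2
    (iff_of_false (fun e => h1 (inv_mem_iff.1 e)) h2)

omit [Finite H] in
theorem card_sup_dvd {U V : Subgroup H} (h : V ≤ Nm U) :
    Nat.card (U ⊔ V : Subgroup H) ∣ Nat.card U * Nat.card V := by
  rw [← card_mul_relIndex (le_sup_left : U ≤ U ⊔ V)]
  refine Nat.mul_dvd_mul_left _ ?_
  have : (U.subgroupOf (U ⊔ V)).Normal := normal_subgroupOf_of_le_normalizer (sup_le le_normalizer h)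
  refine card_dvd_of_surjective ((QuotientGroup.mk' (U.subgroupOf (U ⊔ V))).comp
    (inclusion le_sup_right)) fun q => ?_
  obtain ⟨⟨x, hx⟩, rfl⟩ := QuotientGroup.mk'_surjective _ q
  obtain ⟨u, hu, v, hv, rfl⟩ := mem_sup_Nm h hx
  refine ⟨⟨v, hv⟩, QuotientGroup.eq.2 ?_⟩
  simpa [mem_subgroupOf, ← mul_assoc] using Nm_conj' (h hv) hu

namespace Cx

variable {k : H} (X : Cx k) {U : Subgroup H} (hU : Iv k U)
include X hU

theorem cls2 {x y z : H} (hx : x ∈ U) (hy : y ∈ U) (hz : z ∈ U) : Commute ⁅x, y⁆ z :=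
  (commutatorElement_eq_one_iff_commute.1 (X.key hU hy hz hx).2).symm

theorem comm_Ce {x y : H} (hx : x ∈ U) (hy : y ∈ U) : ⁅x, y⁆ ∈ Ce U :=
  mem_Ce.2 fun _ hz => X.cls2 hU hx hy hz

theorem comm_pow {x y : H} (hx : x ∈ U) (hy : y ∈ U) (n : ℕ) : ⁅x ^ n, y⁆ = ⁅x, y⁆ ^ n := by
  induction n with
  | zero => simp
  | succ n ih =>
    rw [pow_succ' x, commutatorElement_mul_left_eq_conj_mul, ih, pow_succ,
      ← ((X.cls2 hU hx hy hx).pow_left n).eq, mul_inv_cancel_right]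

theorem comm_pow' {x y : H} (hx : x ∈ U) (hy : y ∈ U) (n : ℕ) : ⁅x ^ n, y⁆ = ⁅x, y ^ n⁆ := by
  rw [X.comm_pow hU hx hy, ← commutatorElement_inv (y ^ n), X.comm_pow hU hy hx, ← inv_pow,
    commutatorElement_inv]

theorem coprime_comm {x y : H} (hx : x ∈ U) (hy : y ∈ U) (h : (orderOf x).Coprime (orderOf y)) :
    Commute x y := by
  have h1 := X.comm_pow hU hx hy (orderOf x)
  have h2 := (X.comm_pow' hU hx hy (orderOf y)).symm.trans (X.comm_pow hU hx hy (orderOf y))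
  rw [pow_orderOf_eq_one, commutatorElement_one_left] at h1
  rw [pow_orderOf_eq_one, commutatorElement_one_right] at h2
  rw [← commutatorElement_eq_one_iff_commute, ← orderOf_eq_one_iff]
  exact Nat.eq_one_of_dvd_coprimes h (orderOf_dvd_of_pow_eq_one h1.symm) (orderOf_dvd_of_pow_eq_one h2.symm)

theorem index2 {B : Subgroup H} (h : B ≤ U) (hc : Nat.card U ≤ 2 * Nat.card B) {z : H} (hz : z ∈ U)
    (hB : z ∈ Ce B) : z ∈ Ce U := by
  rw [mem_Ce] at hB ⊢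
  intro y hy
  by_contra h1
  have h2 := (X.key hU hy hz hz).1
  have h3 : ⁅z, y⁆ ≠ 1 := fun e => h1 (commutatorElement_eq_one_iff_commute.1 e)
  have h4 : k * y * k⁻¹ ∉ B := fun e => h3 (by
    rw [commutatorElement_eq_one_iff_commute.2 (hB _ e)] at h2
    simpa [mul_assoc] using congrArg (fun t => k * t * k⁻¹) h2.symm)
  have h5 := hB _ (inv_mul_mem_of_two h hc hy (Nm_conj hU.nm hy) (fun e => h1 (hB _ e)) h4)
  have h6 : ⁅z, k * y * k⁻¹⁆ = ⁅z, y⁆ := by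
    rw [← mul_inv_cancel_left y (k * y * k⁻¹), commutatorElement_mul_right_eq_mul_conj,
      commutatorElement_eq_one_iff_commute.2 h5]; group
  rw [h6] at h2
  refine h3 (X.fix hU (comm_mem hz hy) ?_)
  change k * _ = _ * k
  conv_lhs => rw [h2]
  group

theorem center_ne (h : U ≠ ⊥) : U ⊓ Ce U ≠ ⊥ := fun e => by
  refine h (eq_bot_iff.2 fun x hx => e.le ⟨hx, mem_Ce.2 fun y hy => ?_⟩)
  exact commutatorElement_eq_one_iff_commute.1 (e.le ⟨comm_mem hx hy, X.comm_Ce hU hx hy⟩)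

omit X [Finite H] in
theorem iv_center : Iv k (U ⊓ Ce U) := hU.inf (Nm_le_Nm_Ce U hU.nm)

theorem four_le (h : U ≠ ⊥) : 4 ≤ Nat.card U := by
  have h1 := X.card_mod hU
  have h2 : Nat.card U ≠ 1 := fun e => h (card_eq_one.1 e)
  omega

theorem normal_of_center {I : Subgroup H} (h : I ≤ U) (hc : U ⊓ Ce U ≤ I) : U ≤ Nm I :=
  le_normalizer_iff.2 fun x hx y hy => by
    have := mul_mem (hc ⟨comm_mem hx (h hy), X.comm_Ce hU hx (h hy)⟩) hy
    simpa [commutatorElement_def] using this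

theorem norm_grow {I : Subgroup H} (h : I ≤ U) (h1 : I ≠ U) : ∃ x ∈ U ⊓ Nm I, x ∉ I := by
  by_cases hc : U ⊓ Ce U ≤ I
  · obtain ⟨x, hx, h2⟩ := SetLike.exists_of_lt (lt_of_le_of_ne h h1)
    exact ⟨x, ⟨hx, X.normal_of_center hU h hc hx⟩, h2⟩
  · obtain ⟨x, hx, h2⟩ := SetLike.not_le_iff_exists.1 hc
    exact ⟨x, ⟨hx.1, centralizer_le_normalizer _ (centralizer_le h hx.2)⟩, h2⟩

theorem nilp : Group.IsNilpotent U := by
  refine Subgroup.isNilpotent_of_ker_le_center (Abelianization.of (G := U)) ?_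
  rw [Abelianization.ker_of, commutator_def, commutator_le]
  intro x _ y _
  exact mem_center_iff.2 fun z => Subtype.ext (X.cls2 hU x.2 y.2 z.2).symm

theorem exists_pp {p : ℕ} (hp : p.Prime) : ∃ D ≤ U, IsPGroup p D ∧
    (∀ x ∈ U, ∀ n, x ^ p ^ n = 1 → x ∈ D) ∧ Nm U ≤ Nm D ∧ ¬ p ∣ D.relIndex U := by
  have := Fact.mk hp
  have := X.nilp hU
  obtain ⟨P⟩ : Nonempty (Sylow p U) := inferInstance
  have hn : (P : Subgroup U).Normal := inferInstance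
  have h1 : ∀ x ∈ U, ∀ n, x ^ p ^ n = 1 → x ∈ (P : Subgroup U).map U.subtype := fun x hx n h => by
    have h2 : IsPGroup p (zpowers (⟨x, hx⟩ : U)) := by
      obtain ⟨j, -, hj⟩ := (Nat.dvd_prime_pow hp).1 (orderOf_dvd_of_pow_eq_one h)
      exact IsPGroup.of_card (n := j) (by rw [Nat.card_zpowers, ← hj, ← orderOf_coe])
    obtain ⟨Q, hQ⟩ := h2.exists_le_sylow
    have := Sylow.unique_of_normal P hn
    exact ⟨⟨x, hx⟩, Subsingleton.elim Q P ▸ hQ (mem_zpowers _), rfl⟩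
  have h2 := P.isPGroup'.map U.subtype
  refine ⟨_, map_subtype_le _, h2, h1, fun g hg => mem_Nm fun x hx => ?_, ?_⟩
  · obtain ⟨n, hn⟩ := h2 ⟨x, hx⟩
    refine h1 _ (Nm_conj hg (map_subtype_le _ hx)) n ?_
    rw [conj_pow, show x ^ p ^ n = 1 from congrArg Subtype.val hn]; simp
  · rw [relIndex, subgroupOf, comap_map_eq_self_of_injective U.subtype_injective]
    exact P.not_dvd_index

theorem noR {x : H} (hc : Commute k x) (h1 : orderOf x = 3) (h2 : orderOf (k * x) = 3)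
    (h3 : orderOf (k⁻¹ * x) = 3) (hx : x ∈ Nm U) : U = ⊥ := by
  by_contra h
  obtain ⟨⟨a, ha, ha'⟩, h4⟩ := ne_bot_iff_exists_ne_one.1 (X.center_ne hU h)
  have h5 : a ≠ 1 := fun e => h4 (Subtype.ext e)
  have r1 := Cx.rel ⟨X.h3, h1⟩ ⟨hx, hU.nd⟩ ha
  have hc' := Nm_conj hx ha
  have r2 := X.rel hU hc'
  have c1 := mem_Ce.1 ha' _ hc'
  have c2 := mem_Ce.1 ha' _ (Nm_conj hU.nm hc')
  have hb := mul_mem hc' (inv_mem (Nm_conj' hU.nm ha))
  have e1 : x⁻¹ * a * x = (x * a * x⁻¹)⁻¹ * a⁻¹ := by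
    rw [← mul_one (x * a * x⁻¹)⁻¹, ← r1]; group
  have e2 : (k⁻¹ * (x * a * x⁻¹) * k)⁻¹ = x * a * x⁻¹ * (k * (x * a * x⁻¹) * k⁻¹) :=
    inv_eq_of_mul_eq_one_left (by rw [mul_assoc (x * a * x⁻¹), eq_inv_of_mul_eq_one_left r2, mul_inv_cancel])
  have e3 : x * (x * a * x⁻¹ * (k⁻¹ * a * k)⁻¹) * x⁻¹ = k * (x * a * x⁻¹ * (k⁻¹ * a * k)⁻¹) * k⁻¹ := by
    calc _ = x * x * a * (x * x)⁻¹ * ((k * x⁻¹)⁻¹ * a * (k * x⁻¹))⁻¹ := by group
      _ = x⁻¹ * a * x * (k⁻¹ * (x * a * x⁻¹) * k)⁻¹ := by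
        rw [Cx.sq ⟨X.h3, h1⟩, hc.inv_right.eq]; group
      _ = (x * a * x⁻¹)⁻¹ * (a⁻¹ * (x * a * x⁻¹)) * (k * (x * a * x⁻¹) * k⁻¹) := by rw [e1, e2]; group
      _ = a⁻¹ * (k * (x * a * x⁻¹) * k⁻¹) := by rw [c1.inv_left.eq]; group
      _ = _ := by rw [c2.inv_left.eq]; group
  have e4 := X.h3 _ _ h3 (show k⁻¹ * x * _ = _ * (k⁻¹ * x) by
    rw [mul_assoc, mul_inv_eq_iff_eq_mul.1 e3]; group) (nd_ord hU.nd hb)
  refine h5 (X.h3 _ _ h2 (show k * x * a = a * (k * x) from ?_) (nd_ord hU.nd ha))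
  rw [mul_assoc, mul_inv_eq_iff_eq_mul.1 (mul_inv_eq_one.1 e4)]; group

end Cx

end Cfsg.Agent.SC3
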