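import Cfsg.Agent.SC3.Types

/-! Groups with a self-centralizing subgroup of order three, and local subgroups. -/

set_option autoImplicit false

namespace Cfsg.Agent.SC3

open Subgroup Finset

variable {H : Type*} [Group H] [Finite H]

theorem card_dvd_fact {B : Subgroup H} (h : B.normalCore = ⊥) : Nat.card H ∣ B.index.factorial := by
  classical
  have := Fintype.ofFinite (H ⧸ B)
  rw [normalCore_eq_ker, MonoidHom.ker_eq_bot_iff] at h
  have := card_dvd_of_injective _ h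
  rwa [Nat.card_eq_fintype_card (α := Equiv.Perm _), Fintype.card_perm, ← Nat.card_eq_fintype_card] at this

theorem sylow_index {p a : ℕ} [Fact p.Prime] {T : Subgroup H} (hT : Nat.card T = p ^ a)
    (h : ¬ p ^ (a + 1) ∣ Nat.card H) : (Nm T).index ≡ 1 [MOD p] := by
  obtain ⟨P, rfl⟩ := exists_sylow_eq hT h
  have := card_sylow_modEq_one p H
  rwa [P.card_eq_index_normalizer] at this

theorem not_pow_dvd {p a m : ℕ} (hp : p.Prime) (h : ¬ p ∣ m) : ¬ p ^ (a + 1) ∣ p ^ a * m := fun e =>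
  h (Nat.dvd_of_mul_dvd_mul_left (pow_pos hp.pos a) (pow_succ p a ▸ e))

theorem not_dvd_six {q : ℕ} (hq : q.Prime) (h5 : 5 ≤ q) (x : ℕ) (c : ℕ) : ¬ q ∣ 3 ^ c * 2 ^ x := fun e =>
  (hq.dvd_mul.1 e).elim (fun e => by have := Nat.le_of_dvd three_pos (hq.dvd_of_dvd_pow e); omega)
    fun e => by have := Nat.le_of_dvd two_pos (hq.dvd_of_dvd_pow e); omega

theorem odd_aux {q : ℕ} (hq : q.Prime) (h5 : 5 ≤ q) (y c : ℕ) : ¬ 2 ∣ 3 ^ c * q ^ y := fun e =>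
  (Nat.prime_two.dvd_mul.1 e).elim (fun e => by have := Nat.prime_two.dvd_of_dvd_pow e; omega) fun e => by
    have := (Nat.prime_dvd_prime_iff_eq Nat.prime_two hq).1 (Nat.prime_two.dvd_of_dvd_pow e); omega

/-- a maximal invariant `q`-subgroup is a Sylow subgroup -/
theorem Gx.q_sylow {k : H} (Z : Gx k) {W D : Subgroup H} (hW : Mx k W) (h0 : W ≠ ⊥) {q y : ℕ}
    (hq : q.Prime) (h5 : 5 ≤ q) (hD : D ≤ W) (hP : IsPGroup q D) (hi : ¬ q ∣ D.relIndex W)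
    (hN : Nm D = Nm W) (h1 : q ^ y ∣ Nat.card H) (h2 : ¬ q ^ (y + 1) ∣ Nat.card H) :
    Nat.card D = q ^ y := by
  have := Fact.mk hq
  obtain ⟨n, hn⟩ := hP.exists_card_eq
  have h3 := le_of_pow_dvd (hn ▸ card_subgroup_dvd_card D) h2
  rw [hn]
  by_contra h4
  have h6 : n + 1 ≤ y := by
    by_contra h6
    exact h4 (by rw [show n = y by omega])
  have h7 : q ^ (n + 1) ∣ Nat.card (Nm D) :=
    Sylow.prime_pow_dvd_card_normalizer ((pow_dvd_pow q h6).trans h1) hn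
  have h8 : Nat.card (Nm W) ∣ q ^ n * (3 ^ 1 * 2 ^ 1 * D.relIndex W) := by
    rw [mul_left_comm, ← hn, card_mul_relIndex hD]
    rcases Z.idx hW h0 with e | ⟨e, -⟩ <;> rw [e]
    · exact ⟨2, by ring⟩
    · rfl
  exact not_pow_dvd hq (fun e => (hq.dvd_mul.1 e).elim (not_dvd_six hq h5 1 1) hi) ((hN ▸ h7).trans h8)

theorem M3.struct {k : H} (Y : M3 k) {q x y : ℕ} (hq : q.Prime) (h5 : 5 ≤ q)
    (hc : Nat.card H = 3 * 2 ^ x * q ^ y) (hO : ∀ N : Subgroup H, N.Normal → ¬ 3 ∣ Nat.card N → N = ⊥)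
    {p : ℕ} (hp : p = 2 ∨ p = q) (hP : ∀ U, Iv k U → IsPGroup p U) :
    (∀ U, Iv k U → U = ⊥) ∨ (p = 2 ∧ q = 5 ∧ Nat.card H = 60 ∧ ∃ T₁ T₂, Mx k T₁ ∧ Mx k T₂ ∧ T₁ ≠ T₂ ∧
      Nat.card T₁ = 4 ∧ Nat.card T₂ = 4 ∧ ∀ U, Iv k U → U ≤ T₁ ∨ U ≤ T₂) := by
  classical
  refine or_iff_not_imp_left.2 fun h => ?_
  push Not at h
  obtain ⟨U, hU, hU'⟩ := h
  have Z := Y.gx
  have h0 : ∀ W ∈ MX k, W ≠ ⊥ := fun W hW e => hU' (eq_bot_iff.2 (e ▸ (mem_MX.1 hW).2 hU (e ▸ bot_le)))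
  have hA := card_Ak Y.ord
  rw [Y.C1_eq, Y.cx.card_zp] at hA
  have h1 := Y.count.trans_le (Nat.mul_le_mul_left _ (WW_le k))
  obtain ⟨W, -, hW⟩ := hU.exists_mx
  have hW0 := h0 W (mem_MX.2 hW)
  have hq1 : 0 < q ^ y := pow_pos hq.pos y
  have hx1 : 0 < 2 ^ x := by positivity
  have := Fact.mk hq
  rcases hp with rfl | rfl
  swap
  · exfalso
    have h2 : ¬ p ^ (y + 1) ∣ Nat.card H := by
      rw [hc, mul_comm]; exact not_pow_dvd hq (not_dvd_six hq h5 x 1)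
    have h3 : ∀ V ∈ MX k, Nat.card V = p ^ y := fun V hV =>
      Z.q_sylow (mem_MX.1 hV) (h0 V hV) hq h5 le_rfl (hP V (mem_MX.1 hV).1)
        (by simpa using hq.one_lt.ne') rfl (hc ▸ dvd_mul_left _ _) h2
    have h4 := Z.orb3 hW hW0 (X := MX k) fun V hV =>
      ⟨(mem_MX.1 hV).1, conj_of_card (h3 W (mem_MX.2 hW)) (h3 V hV) h2⟩
    rw [sum_congr rfl (g := fun _ => p ^ y - 1) fun V hV => by rw [h3 V hV], sum_const, smul_eq_mul, hc] at h1
    have h6 : 2 ^ x < 6 := by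
      obtain ⟨m, hm⟩ : ∃ m, p ^ y = m + 1 := ⟨p ^ y - 1, by omega⟩
      rw [hm, Nat.add_sub_cancel] at h1
      have : (MX k).card * m ≤ 2 * m := Nat.mul_le_mul_right _ (by omega)
      nlinarith
    have h7 := sylow_index (h3 W (mem_MX.2 hW)) h2
    have h8 := (Nm W).card_mul_index
    have h9 : (Nm W).index ≤ 2 ^ x := by
      rw [hc] at h8
      rcases Z.idx hW hW0 with e | ⟨e, -⟩ <;> rw [e, h3 W (mem_MX.2 hW)] at h8 <;> nlinarith
    have h10 : 2 ^ x ≤ 4 := by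
      have : x < 3 := (Nat.pow_lt_pow_iff_right one_lt_two).1 (show 2 ^ x < 2 ^ 3 by omega)
      interval_cases x <;> omega
    exact hW0 (hO W (normalizer_eq_top_iff.1 (index_eq_one.1
      (h7.eq_of_lt_of_lt (by omega) (by omega)))) hW.1.nd)
  have h2 : ¬ 2 ^ (x + 1) ∣ Nat.card H := by
    rw [hc, mul_right_comm, mul_comm]; exact not_pow_dvd Nat.prime_two (odd_aux hq h5 y 1)
  have h2' : 2 ^ x ∣ Nat.card H := hc ▸ (dvd_mul_left _ _).mul_right _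
  obtain ⟨nS, nH, nV, i1, i2, i3, i4, i5, i6, i7, i8, i9⟩ := Z.two_sum (X := MX k) h2 h2' fun V hV =>
    ⟨mem_MX.1 hV, h0 V hV, hP V (mem_MX.1 hV).1⟩
  have h3 : 0 < (MX k).card := card_pos.2 ⟨W, mem_MX.2 hW⟩
  have h4 : 2 ≤ x := by omega
  have h6 : 5 ≤ q ^ y := by
    rcases y with _ | y
    · obtain ⟨S, hS⟩ := Sylow.exists_subgroup_card_pow_prime 2 h2'
      have j1 := card_dvd_fact (hO S.normalCore inferInstance fun e => by
        have := Nat.prime_three.dvd_of_dvd_pow (hS ▸ e.trans (card_dvd_of_le S.normalCore_le)); omega)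
      have j2 := S.card_mul_index
      rw [hS, hc] at j2
      rw [show S.index = 3 by nlinarith, hc] at j1
      have j3 := Nat.le_of_dvd (by norm_num) j1
      have := Nat.pow_le_pow_right two_pos h4
      simp only [Nat.factorial, pow_zero] at j3
      omega
    · exact h5.trans (Nat.le_self_pow y.succ_ne_zero q)
  obtain ⟨x, rfl⟩ : ∃ x', x = x' + 1 := ⟨x - 1, by omega⟩
  obtain ⟨m, hm⟩ : ∃ m, 2 ^ x = m + 1 := ⟨2 ^ x - 1, (Nat.sub_add_cancel Nat.one_le_two_pow).symm⟩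
  rw [i1, hc, Nat.add_sub_cancel, pow_succ, hm, show (m + 1) * 2 - 1 = 2 * m + 1 by omega, Nat.add_sub_cancel] at h1
  have hm5 : (m + 1) * 5 ≤ (m + 1) * q ^ y := Nat.mul_le_mul_left _ h6
  have h7 : nV = 0 := by
    by_contra h7
    obtain ⟨j1, rfl⟩ := i5 (by omega)
    have : 2 ^ 2 ≤ 2 ^ x := Nat.pow_le_pow_right two_pos (by omega)
    have : nH * m ≤ 1 * m := Nat.mul_le_mul_right _ (by omega)
    have : nV ≤ 3 := by omega
    linarith
  subst h7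
  have h8 : nH = 0 := by
    by_contra h8
    have : nS = 0 := by omega
    subst this
    have : nH * m ≤ 1 * m := Nat.mul_le_mul_right _ (by omega)
    nlinarith
  subst h8
  have h9 : nS = 2 := by
    by_contra h9
    have : nS * (2 * m + 1) ≤ 1 * (2 * m + 1) := Nat.mul_le_mul_right _ (by omega)
    nlinarith
  subst h9
  have h10 : q ^ y = 5 := by nlinarith
  have h11 : q = 5 := by
    rcases y with _ | y
    · simp at h10
    · exact (Nat.prime_dvd_prime_iff_eq hq Nat.prime_five).1 (h10 ▸ dvd_pow_self q y.succ_ne_zero)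
  obtain ⟨T₁, T₂, hne, e⟩ := card_eq_two.1 i8
  have hT₁ : T₁ ∈ MX k := e ▸ mem_insert_self _ _
  have hT₂ : T₂ ∈ MX k := e ▸ mem_insert_of_mem (mem_singleton_self _)
  have h12 : (Nm T₁).normalCore = ⊥ := hO _ inferInstance fun e => by
    obtain ⟨z, hz, hz'⟩ := exists_ord Nat.prime_three e
    obtain ⟨g, hg⟩ := Y.conj hz'
    have hn := (Nm T₁).normalCore_normal
    have hk : k ∈ (Nm T₁).normalCore := hg.elim (fun e => e ▸ hn.conj_mem z hz g) fun e =>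
      inv_mem_iff.1 (e ▸ hn.conj_mem z hz g)
    refine hne (le_antisymm ((mem_MX.1 hT₂).2 (mem_MX.1 hT₁).1 ?_) ?_) <;>
      refine (mem_MX.1 hT₁).le_of_Nm (mem_MX.1 hT₂).1 fun w hw => normalCore_le _ ?_ <;>
      obtain ⟨v, -, hv⟩ := Y.cx.surj (mem_MX.1 hT₂).1 hw <;>
      exact eq_mul_inv_of_mul_eq hv ▸ mul_mem (hn.conj_mem' k hk v) (inv_mem hk)
  have h13 := (Nm T₁).card_mul_index
  have h14 := card_dvd_fact h12
  have h15 := i9 rfl rfl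
  rcases Z.idx (mem_MX.1 hT₁) (h0 _ hT₁) with e' | ⟨e', -⟩
  swap
  · exact absurd ((Dvd.intro 3 (by rw [e', h15 _ hT₁]; ring)).trans (card_subgroup_dvd_card (Nm T₁))) h2
  rw [e', h15 _ hT₁, hc, h10] at h13
  rw [Nat.eq_of_mul_eq_mul_left (by positivity) h13, hc, h10] at h14
  have h16 : x + 1 = 2 := by
    have j1 := Nat.le_of_dvd (by norm_num) h14
    have : x + 1 < 4 := (Nat.pow_lt_pow_iff_right one_lt_two).1 (show 2 ^ (x + 1) < 2 ^ 4 by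
      simp only [Nat.factorial] at j1; omega)
    omega
  rw [h16] at h15 hc
  refine ⟨rfl, h11, by rw [hc, h10]; rfl, T₁, T₂, mem_MX.1 hT₁, mem_MX.1 hT₂, hne, h15 _ hT₁, h15 _ hT₂,
    fun V hV => ?_⟩
  obtain ⟨W', j1, j2⟩ := hV.exists_mx
  have := mem_MX.2 j2
  rw [e, mem_insert, mem_singleton] at this
  rcases this with rfl | rfl
  exacts [Or.inl j1, Or.inr j1]

omit [Finite H] in
theorem card_comap_mk [Finite H] (O : Subgroup H) [O.Normal] (N : Subgroup (H ⧸ O)) :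
    Nat.card (N.comap (QuotientGroup.mk' O)) = Nat.card N * Nat.card O := by
  have h1 := (N.comap (QuotientGroup.mk' O)).card_mul_index
  rw [index_comap_of_surjective _ (QuotientGroup.mk'_surjective O), O.card_eq_card_quotient_mul_card_subgroup,
    ← N.card_mul_index, mul_right_comm] at h1
  exact Nat.eq_of_mul_eq_mul_right (Nat.pos_of_ne_zero index_ne_zero_of_finite) h1

theorem Iv.comap {O : Subgroup H} [O.Normal] (hO : ¬ 3 ∣ Nat.card O) {k : H} {U : Subgroup (H ⧸ O)}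
    (h : Iv (k : H ⧸ O) U) : Iv k (U.comap (QuotientGroup.mk' O)) :=
  ⟨mem_Nm fun _ hx => Nm_conj (U := U) h.nm hx, card_comap_mk O U ▸ fun e =>
    (Nat.prime_three.dvd_mul.1 e).elim h.nd hO⟩

theorem Iv.map_mk {O : Subgroup H} [O.Normal] {k : H} {U : Subgroup H} (h : Iv k U) :
    Iv (k : H ⧸ O) (U.map (QuotientGroup.mk' O)) :=
  ⟨mem_Nm (by rintro _ ⟨x, hx, rfl⟩; exact ⟨_, Nm_conj h.nm hx, rfl⟩),
    fun e => h.nd (e.trans (card_map_dvd _ _))⟩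

omit [Finite H] in
theorem iv_of_normal {O : Subgroup H} [O.Normal] (hO : ¬ 3 ∣ Nat.card O) (k : H) : Iv k O :=
  ⟨by rw [Nm, normalizer_eq_top]; trivial, hO⟩

theorem M3.quot {k : H} (Y : M3 k) {O : Subgroup H} [O.Normal] (hO : ¬ 3 ∣ Nat.card O) :
    M3 (k : H ⧸ O) := by
  refine ⟨orderOf_eq_prime (by rw [← QuotientGroup.mk_pow, Y.cx.cube]; rfl) fun e =>
    Y.cx.not_mem (iv_of_normal hO k) ((QuotientGroup.eq_one_iff k).1 e), fun x hx => ?_⟩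
  obtain ⟨x, rfl⟩ := QuotientGroup.mk_surjective x
  have h1 : x⁻¹ * k * x * k⁻¹ ∈ O := (QuotientGroup.eq_one_iff _).1 (by
    simp only [QuotientGroup.mk_mul, QuotientGroup.mk_inv]
    rw [mul_assoc _ _ (x : H ⧸ O), hx.eq]; group)
  obtain ⟨y, hy, e⟩ := Y.cx.surj (iv_of_normal hO k) h1
  obtain ⟨n, hn⟩ := Y.cen (x * y⁻¹) (show k * (x * y⁻¹) = x * y⁻¹ * k by
    calc _ = x * (x⁻¹ * k * x * k⁻¹ * k) * y⁻¹ := by group
      _ = _ := by rw [e]; group)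
  refine ⟨n, ?_⟩
  simp only at hn ⊢
  rw [← QuotientGroup.mk_zpow, hn, QuotientGroup.mk_mul, (QuotientGroup.eq_one_iff _).2 (inv_mem hy), mul_one]

theorem card_form {n a b q : ℕ} (hq : q.Prime) (h : n ∣ 9 * 2 ^ a * q ^ b) (h3 : 3 ∣ n) (h9 : ¬ 9 ∣ n) :
    ∃ x y, n = 3 * 2 ^ x * q ^ y := by
  obtain ⟨n, rfl⟩ := h3
  have h1 : Nat.Coprime n 9 := Nat.Coprime.pow_right 2 (Nat.prime_three.coprime_iff_not_dvd.2
    fun e => h9 (Nat.mul_dvd_mul_left 3 e)).symm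
  obtain ⟨u, v, hu, hv, rfl⟩ := (Nat.dvd_mul).1
    (h1.dvd_of_dvd_mul_left (mul_assoc 9 _ _ ▸ (dvd_mul_left n 3).trans h))
  obtain ⟨x, -, rfl⟩ := (Nat.dvd_prime_pow Nat.prime_two).1 hu
  obtain ⟨y, -, rfl⟩ := (Nat.dvd_prime_pow hq).1 hv
  exact ⟨x, y, (mul_assoc _ _ _).symm⟩

/-- local subgroups of the first kind -/
def Good (k : H) (D : Subgroup H) : Prop :=
  ∃ O, Iv k O ∧ Nm D ≤ Nm O ∧ ∀ U, Iv k U → U ≤ Nm D → U ≤ O

/-- local subgroups of the second kind -/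
structure Bad0 (k : H) (D O T₁ T₂ : Subgroup H) : Prop where
  le : D ≤ O
  ce : Ce D ≤ O
  nm : Nm D ≤ Nm O
  o1 : O ≤ T₁
  o2 : O ≤ T₂
  t1 : T₁ ≤ Nm D
  t2 : T₂ ≤ Nm D
  i1 : Iv k T₁
  i2 : Iv k T₂
  c1 : Nat.card T₁ = 4 * Nat.card O
  c2 : Nat.card T₂ = 4 * Nat.card O
  cn : Nat.card (Nm D) = 60 * Nat.card O
  th : 3 ∣ Nat.card (T₁ ⊔ T₂ : Subgroup H)
  all : ∀ U, Iv k U → U ≤ Nm D → U ≤ T₁ ∨ U ≤ T₂

theorem M3.local {k : H} (Y : M3 k) {q a b : ℕ} (hq : q.Prime) (h5 : 5 ≤ q)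
    (hc : Nat.card H ∣ 9 * 2 ^ a * q ^ b) {D : Subgroup H} [D.Normal] (hD : ¬ 3 ∣ Nat.card D) (h0 : D ≠ ⊥)
    {p : ℕ} (hp : p = 2 ∨ p = q) (hP : IsPGroup p D) :
    (∃ O : Subgroup H, O.Normal ∧ Iv k O ∧ ∀ U, Iv k U → U ≤ O) ∨ (p = 2 ∧ q = 5 ∧
      ∃ O T₁ T₂ : Subgroup H, O.Normal ∧ D ≤ O ∧ Ce D ≤ O ∧ O ≤ T₁ ∧ O ≤ T₂ ∧ Iv k T₁ ∧ Iv k T₂ ∧
        Nat.card T₁ = 4 * Nat.card O ∧ Nat.card T₂ = 4 * Nat.card O ∧ Nat.card H = 60 * Nat.card O ∧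
        3 ∣ Nat.card (T₁ ⊔ T₂ : Subgroup H) ∧ ∀ U, Iv k U → U ≤ T₁ ∨ U ≤ T₂) := by
  obtain ⟨O, -, ⟨hn, hO⟩, hm⟩ := Finite.exists_le_maximal
    (p := fun N : Subgroup H => N.Normal ∧ ¬ 3 ∣ Nat.card N) (a := ⊥) ⟨inferInstance, by simp⟩
  have h1 : ∀ N : Subgroup H, N.Normal → ¬ 3 ∣ Nat.card N → N ≤ O := fun N h1 h2 =>
    le_sup_right.trans (hm ⟨inferInstance, nd_sup hO h2 (by rw [Nm, normalizer_eq_top]; exact le_top)⟩
      le_sup_left)
  have h2 := h1 (Ce D) inferInstance (Y.cx.h3.nd_Ce hD h0)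
  have Y' := Y.quot hO
  have hp' : p.Prime := hp.elim (· ▸ Nat.prime_two) (· ▸ hq)
  obtain ⟨x, y, hxy⟩ := card_form hq ((card_quotient_dvd_card O).trans hc) (Y'.ord ▸ orderOf_dvd_natCard _)
    Y'.not_nine
  have h4 : ∀ N : Subgroup (H ⧸ O), O ≤ N.comap (QuotientGroup.mk' O) := fun N z hz => by
    rw [mem_comap, QuotientGroup.mk'_apply, (QuotientGroup.eq_one_iff z).2 hz]; exact one_mem _
  rcases Y'.struct hq h5 hxy (fun N h3 h4 => eq_bot_iff.2 fun z hz => by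
      obtain ⟨z, rfl⟩ := QuotientGroup.mk_surjective z
      exact (QuotientGroup.eq_one_iff z).2 (h1 (N.comap (QuotientGroup.mk' O)) inferInstance
        (Iv.comap hO (iv_of_normal h4 (k : H ⧸ O))).nd hz)) hp (fun U hU z => by
      obtain ⟨⟨z⟩, hz⟩ := z
      obtain ⟨i, m, hm, e⟩ := Nat.exists_eq_pow_mul_and_not_dvd (orderOf_pos z).ne' p hp'.ne_one
      refine ⟨i, Subtype.ext ((QuotientGroup.eq_one_iff (z ^ p ^ i)).2 (h2 (mem_Ce.2 fun d hd => ?_)))⟩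
      obtain ⟨j, hj⟩ := hP ⟨d, hd⟩
      refine Y.cx.coprime_comm (Iv.comap hO hU) (pow_mem hz _) (h4 U (h1 D inferInstance hD hd)) ?_
      refine Nat.Coprime.of_dvd (orderOf_dvd_of_pow_eq_one (n := m) (by rw [← pow_mul, ← e, pow_orderOf_eq_one]))
        (orderOf_dvd_of_pow_eq_one (n := p ^ j) (congrArg Subtype.val hj))
        ((hp'.coprime_iff_not_dvd.2 hm).symm.pow_right j)) with h | ⟨e1, e2, e3, T₁, T₂, j1, j2, j3, j4, j5, j6⟩
  · exact Or.inl ⟨O, hn, iv_of_normal hO k, fun U hU z hz =>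
      (QuotientGroup.eq_one_iff z).1 ((h _ hU.map_mk).le ⟨z, hz, rfl⟩)⟩
  refine Or.inr ⟨e1, e2, O, _, _, hn, h1 D inferInstance hD, h2, h4 T₁, h4 T₂, Iv.comap hO j1.1, Iv.comap hO j2.1,
    by rw [card_comap_mk, j4], by rw [card_comap_mk, j5], by rw [O.card_eq_card_quotient_mul_card_subgroup, e3],
    ?_, fun U hU => (j6 _ hU.map_mk).imp map_le_iff_le_comap.1 map_le_iff_le_comap.1⟩
  rw [comap_sup_eq _ _ _ (QuotientGroup.mk'_surjective O), card_comap_mk]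
  refine Dvd.dvd.mul_right (by_contra fun e => j3 ?_) _
  have : Iv (k : H ⧸ O) (T₁ ⊔ T₂) := ⟨Nm_sup j1.1.nm j2.1.nm, e⟩
  exact le_antisymm (le_sup_left.trans (j2.2 this le_sup_right)) (le_sup_right.trans (j1.2 this le_sup_left))

theorem Gx.local {k : H} (Z : Gx k) {q a b : ℕ} (hq : q.Prime) (h5 : 5 ≤ q)
    (hc : Nat.card H ∣ 9 * 2 ^ a * q ^ b) {D : Subgroup H} (hD : Iv k D) (h0 : D ≠ ⊥)
    {p : ℕ} (hp : p = 2 ∨ p = q) (hP : IsPGroup p D) :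
    Good k D ∨ (p = 2 ∧ q = 5 ∧ ∃ O T₁ T₂, Bad0 k D O T₁ T₂) := by
  have h1 : ∀ {U : Subgroup H}, U ≤ Nm D → ∀ {V : Subgroup (Nm D)}, U.subgroupOf (Nm D) ≤ V →
      U ≤ V.map (Nm D).subtype := fun h _ h' x hx => ⟨⟨x, h hx⟩, h' hx, rfl⟩
  have h2 : ∀ O : Subgroup (Nm D), O.Normal → Nm D ≤ Nm (O.map (Nm D).subtype) := fun O h =>
    le_normalizer_iff.2 (by rintro g hg _ ⟨x, hx, rfl⟩; exact ⟨_, h.conj_mem x hx ⟨g, hg⟩, rfl⟩)
  rcases (Z.m3 hD h0).local hq h5 ((card_subgroup_dvd_card _).trans hc) (D := D.subgroupOf (Nm D))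
    ((card_subgroupOf (le_Nm D)).symm ▸ hD.nd) (fun e => h0 (eq_bot_iff.2 ((h1 (le_Nm D) e.le).trans (by simp))))
    hp hP.comap_subtype with ⟨O, j1, j2, j3⟩ | ⟨e1, e2, O, T₁, T₂, j1, j2, j3, j4, j5, j6, j7, j8, j9, j10, j11, j12⟩
  · exact Or.inl ⟨_, j2.map_sub, h2 O j1, fun U hU h => h1 h (j3 _ (Iv.subOf hU h))⟩
  refine Or.inr ⟨e1, e2, O.map (Nm D).subtype, T₁.map (Nm D).subtype, T₂.map (Nm D).subtype, h1 (le_Nm D) j2,
    h1 (centralizer_le_normalizer _) (le_trans (fun x hx => mem_Ce.2 fun y hy =>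
      Subtype.ext (mem_Ce.1 hx y hy)) j3), h2 O j1, map_mono j4, map_mono j5, map_subtype_le _, map_subtype_le _,
    j6.map_sub, j7.map_sub, by simp only [card_map_sub, j8], by simp only [card_map_sub, j9],
    by simp only [card_map_sub, j10], by rw [← Subgroup.map_sup, card_map_sub]; exact j11,
    fun U hU h => (j12 _ (Iv.subOf hU h)).imp (h1 h) (h1 h)⟩

end Cfsg.Agent.SC3
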