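import Cfsg.Agent.SC3.Count

/-! Maximal invariant subgroups. -/

set_option autoImplicit false

namespace Cfsg.Agent.SC3

open Subgroup Finset

variable {H : Type*} [Group H] [Finite H]

/-- maximal invariant subgroups -/
abbrev Mx (k : H) (W : Subgroup H) : Prop := Maximal (Iv k) W

theorem Iv.exists_mx {k : H} {U : Subgroup H} (h : Iv k U) : ∃ W, U ≤ W ∧ Mx k W :=
  Finite.exists_le_maximal h

theorem Mx.le_of_Nm {k : H} {U W : Subgroup H} (h : Mx k W) (hU : Iv k U) (hn : U ≤ Nm W) : U ≤ W :=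
  le_sup_right.trans (h.2 (h.1.sup hU hn) le_sup_left)

omit [Finite H] in
theorem Mx.cj {k : H} {W : Subgroup H} (h : Mx k W) (g : H) : Mx (g * k * g⁻¹) (cj g W) :=
  ⟨h.1.cj g, fun U hU h1 => by
    have := h.2 (y := SC3.cj g⁻¹ U) (by simpa [mul_assoc] using hU.cj g⁻¹)
      (by simpa [cj_cj, cj_one] using cj_mono (g := g⁻¹) h1)
    simpa [cj_cj, cj_one] using cj_mono (g := g) this⟩

omit [Finite H] in
theorem card_subgroupOf {U M : Subgroup H} (h : U ≤ M) : Nat.card (U.subgroupOf M) = Nat.card U :=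
  Nat.card_congr (subgroupOfEquivOfLe h).toEquiv

omit [Finite H] in
theorem card_map_sub {M : Subgroup H} (U : Subgroup M) : Nat.card (U.map M.subtype) = Nat.card U :=
  card_map_of_injective M.subtype_injective

theorem Iv.map_sub {M : Subgroup H} {k : M} {U : Subgroup M} (h : Iv k U) : Iv (k : H) (U.map M.subtype) :=
  ⟨mem_Nm (by rintro _ ⟨x, hx, rfl⟩; exact ⟨_, Nm_conj h.nm hx, rfl⟩), card_map_sub U ▸ h.nd⟩

theorem Iv.subOf {M U : Subgroup H} {k : M} (h : Iv (k : H) U) (hU : U ≤ M) : Iv k (U.subgroupOf M) :=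
  ⟨mem_Nm fun _ hx => Nm_conj (U := U) h.nm hx, (card_subgroupOf hU).symm ▸ h.nd⟩

omit [Finite H] in
theorem m3_sub {M : Subgroup H} {k : H} (hk : orderOf k = 3) (h : k ∈ M)
    (hc : ∀ x ∈ M, Commute k x → x ∈ zpowers k) : M3 (⟨k, h⟩ : M) :=
  ⟨(orderOf_coe _).symm.trans hk, fun x hx => by
    obtain ⟨n, hn⟩ := hc x x.2 (congrArg Subtype.val hx)
    exact ⟨n, Subtype.ext hn⟩⟩

/-- the extended centralizer -/
abbrev Ak (k : H) : Subgroup H := Nm (zpowers k)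

theorem mem_Ak {k g : H} (hk : orderOf k = 3) : g ∈ Ak k ↔ g * k * g⁻¹ = k ∨ g * k * g⁻¹ = k⁻¹ := by
  refine ⟨fun h => (zp3 hk (Nm_conj h (mem_zpowers k))).resolve_left
    (ne_one_of_ord ((orderOf_conj _ _).trans hk)), fun h => mem_Nm ?_⟩
  rintro _ ⟨n, rfl⟩
  rw [← conj_zpow]
  rcases h with e | e <;> rw [e]
  exacts [zpow_mem (mem_zpowers k) n, zpow_mem (inv_mem (mem_zpowers k)) n]

theorem card_Ak {k : H} (hk : orderOf k = 3) : Nat.card (Ak k) ≤ 2 * Nat.card (C1 k) := by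
  by_cases h : ∃ t, t * k * t⁻¹ = k⁻¹
  · obtain ⟨t, ht⟩ := h
    have h1 : (Ak k : Set H) ⊆ (C1 k : Set H) ∪ (t * ·) '' (C1 k) := fun g hg =>
      ((mem_Ak hk).1 hg).imp (fun e => mem_C1.2 (mul_inv_eq_iff_eq_mul.1 e).symm) fun e =>
        ⟨t⁻¹ * g, mem_C1.2 (show k * (t⁻¹ * g) = t⁻¹ * g * k by
          calc _ = t⁻¹ * (t * k * t⁻¹) * g := by group
            _ = _ := by rw [ht, ← e]; group), by simp⟩
    have h2 := (Set.ncard_le_ncard h1).trans (Set.ncard_union_le _ _)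
    rw [Set.ncard_image_of_injective _ (mul_right_injective t)] at h2
    change Nat.card (Ak k) ≤ Nat.card (C1 k) + Nat.card (C1 k) at h2
    omega
  · have : Ak k ≤ C1 k := fun g hg => ((mem_Ak hk).1 hg).elim
      (fun e => mem_C1.2 (mul_inv_eq_iff_eq_mul.1 e).symm) fun e => absurd ⟨g, e⟩ h
    have := card_le_of_le this
    omega

theorem orbit_count {A W : Subgroup H} {X : Finset (Subgroup H)} (h : ∀ V ∈ X, ∃ a ∈ A, V = cj a W) :
    X.card * Nat.card (A ⊓ Nm W : Subgroup H) ≤ Nat.card A := by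
  choose! a ha ha' using h
  rw [← Fintype.card_coe, ← Nat.card_eq_fintype_card, ← Nat.card_prod]
  refine Nat.card_le_card_of_injective (fun p => (⟨a p.1 * p.2, mul_mem (ha _ p.1.2) p.2.2.1⟩ : A))
    fun p q e => ?_
  have h1 : a p.1 * p.2 = a q.1 * q.2 := congrArg Subtype.val e
  have h2 : p.1 = q.1 := Subtype.ext (by
    have h3 := congrArg (cj · W) h1
    simp only [← cj_cj, cj_eq_iff.2 p.2.2.2, cj_eq_iff.2 q.2.2.2] at h3
    rw [ha' _ p.1.2, ha' _ q.1.2, h3])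
  rw [h2] at h1
  exact Prod.ext h2 (Subtype.ext (mul_left_cancel h1))

open Classical in
/-- the set of maximal invariant subgroups -/
noncomputable def MX (k : H) : Finset (Subgroup H) := (Set.toFinite {W | Mx k W}).toFinset

theorem mem_MX {k : H} {W : Subgroup H} : W ∈ MX k ↔ Mx k W := by simp [MX]

open Classical in
/-- non-trivial elements -/
noncomputable def nt (W : Subgroup H) : Finset H := (Set.toFinite ((W : Set H) \ {1})).toFinset

theorem mem_nt {W : Subgroup H} {x : H} : x ∈ nt W ↔ x ∈ W ∧ x ≠ 1 := by simp [nt]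

theorem card_nt (W : Subgroup H) : (nt W).card = Nat.card W - 1 := by
  rw [nt, ← Set.ncard_eq_toFinset_card, Set.ncard_sdiff_singleton_of_mem W.one_mem]; rfl

open Classical in
theorem WW_eq (k : H) : (WW k).ncard = ((MX k).biUnion nt).card + 1 := by
  rw [← card_insert_of_notMem (a := 1) (by simp [mem_nt]), ← Set.ncard_coe_finset]
  congr 1
  ext w
  simp only [coe_insert, coe_biUnion, Set.mem_insert_iff, Set.mem_iUnion, mem_coe, mem_MX, mem_nt]
  constructor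
  · rintro ⟨U, hU, hw⟩
    obtain ⟨W, h1, h2⟩ := hU.exists_mx
    by_cases e : w = 1
    exacts [Or.inl e, Or.inr ⟨W, h2, h1 hw, e⟩]
  · rintro (rfl | ⟨W, h1, h2, -⟩)
    exacts [one_mem_WW k, ⟨W, h1.1, h2⟩]

theorem WW_le (k : H) : (WW k).ncard ≤ ∑ W ∈ MX k, (Nat.card W - 1) + 1 := by
  classical
  simp only [WW_eq, ← card_nt]
  exact Nat.succ_le_succ card_biUnion_le

theorem WW_ti {k : H} (h : ∀ V W, Mx k V → Mx k W → V ≠ W → V ⊓ W = ⊥) :
    (WW k).ncard = ∑ W ∈ MX k, (Nat.card W - 1) + 1 := by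
  classical
  simp only [WW_eq, ← card_nt]
  rw [card_biUnion fun V hV W hW e => disjoint_left.2 fun x h1 h2 => (mem_nt.1 h1).2
    ((h V W (mem_MX.1 hV) (mem_MX.1 hW) e).le ⟨(mem_nt.1 h1).1, (mem_nt.1 h2).1⟩)]

omit [Finite H] in
theorem le_Nm (U : Subgroup H) : U ≤ Nm U := le_normalizer

omit [Finite H] in
theorem exists_sylow_eq {p a : ℕ} [Fact p.Prime] {T : Subgroup H} (hT : Nat.card T = p ^ a)
    (h : ¬ p ^ (a + 1) ∣ Nat.card H) : ∃ P : Sylow p H, (P : Subgroup H) = T :=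
  ⟨(IsPGroup.of_card hT).toSylow fun e => h (by
    rw [← T.card_mul_index, hT, pow_succ]; exact Nat.mul_dvd_mul_left _ e), rfl⟩

theorem conj_of_card {p a : ℕ} [Fact p.Prime] {S T : Subgroup H} (hS : Nat.card S = p ^ a)
    (hT : Nat.card T = p ^ a) (h : ¬ p ^ (a + 1) ∣ Nat.card H) : ∃ g, T = cj g S := by
  obtain ⟨P, rfl⟩ := exists_sylow_eq hS h
  obtain ⟨Q, rfl⟩ := exists_sylow_eq hT h
  obtain ⟨g, hg⟩ := sylow_conj P Q
  exact ⟨g, hg.symm⟩

theorem exists_cj_le {p a : ℕ} [Fact p.Prime] {S T : Subgroup H} (hS : Nat.card S = p ^ a)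
    (hT : IsPGroup p T) (h : ¬ p ^ (a + 1) ∣ Nat.card H) : ∃ g, cj g T ≤ S := by
  obtain ⟨P, rfl⟩ := exists_sylow_eq hS h
  obtain ⟨Q, hQ⟩ := hT.exists_le_sylow
  obtain ⟨g, hg⟩ := sylow_conj Q P
  exact ⟨g, hg ▸ cj_mono hQ⟩

/-- subgroups of index two with small centralizers -/
structure HP (T D : Subgroup H) : Prop where
  le : D ≤ T
  card : Nat.card T = 2 * Nat.card D
  ne : D ≠ ⊥
  ex : ∃ k, Cx k ∧ Iv k D ∧ ∀ x ∈ T, x ∉ D → ∀ U ≤ D, k ∈ Nm U →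
    Nat.card (U ⊓ C1 x : Subgroup H) ^ 2 ≤ Nat.card U

omit [Finite H] in
theorem cj_inf (g : H) (U V : Subgroup H) : cj g (U ⊓ V) = cj g U ⊓ cj g V := by
  ext; simp [mem_cj]

omit [Finite H] in
theorem cj_ne_bot {g : H} {U : Subgroup H} (h : U ≠ ⊥) : cj g U ≠ ⊥ := fun e =>
  h ((map_eq_bot_iff_of_injective _ (MulAut.conj g).injective).1 e)

omit [Finite H] in
theorem HP.cj {T D : Subgroup H} (h : HP T D) (g : H) : HP (cj g T) (cj g D) := by
  obtain ⟨k, X, h1, h2⟩ := h.ex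
  refine ⟨cj_mono h.le, by rw [card_cj, card_cj, h.card], cj_ne_bot h.ne, _, X.cj g, h1.cj g,
    fun x hx hx' U hU hk => ?_⟩
  have := h2 _ (mem_cj.1 hx) (fun e => hx' (mem_cj.2 e)) (SC3.cj g⁻¹ U)
    (by simpa [cj_cj, cj_one] using cj_mono (g := g⁻¹) hU) (mem_Nm_cj.2 (by simpa using hk))
  rwa [← card_cj g, cj_inf, ← C1_cj, cj_cj, card_cj, mul_inv_cancel, cj_one,
    show g * (g⁻¹ * x * g) * g⁻¹ = x by group] at this

theorem HP.aux {T D E : Subgroup H} (h : HP T D) (h' : HP T E) :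
    Nat.card D ≤ 4 ∨ E ⊓ Ce E ≤ D ⊓ Ce D := by
  obtain ⟨k, X, h1, h2⟩ := h.ex
  have h3 : Nat.card D ≤ 2 * Nat.card (D ⊓ E : Subgroup H) := by
    have i1 := card_mul_relIndex (inf_le_left : D ⊓ E ≤ D)
    have i2 := card_mul_relIndex h'.le
    have i3 : E.relIndex T = 2 := by
      have := card_pos' E
      rw [h'.card] at i2
      nlinarith
    have i4 := relIndex_le_of_le_right (H := E) h.le (by omega)
    rw [inf_comm, inf_relIndex_right, inf_comm] at i1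
    nlinarith
  by_cases hc : E ⊓ Ce E ≤ D
  · exact Or.inr fun z hz => ⟨hc hz, X.index2 h1 inf_le_left h3 (hc hz) (centralizer_le inf_le_right hz.2)⟩
  · obtain ⟨x, hx, h4⟩ := SetLike.not_le_iff_exists.1 hc
    have h5 := h2 x (h'.le hx.1) h4 D le_rfl h1.nm
    have h6 := card_le_of_le (show D ⊓ E ≤ D ⊓ C1 x from fun y hy =>
      ⟨hy.1, mem_C1.2 (mem_Ce.1 hx.2 y hy.2)⟩)
    have := card_pos' D
    left; nlinarith

theorem HP.two {T D E : Subgroup H} (h : HP T D) (h' : HP T E) (hne : D ≠ E) : Nat.card D ≤ 4 := by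
  have h0 : Nat.card D = Nat.card E := by have := h.card; have := h'.card; omega
  refine (h.aux h').elim id fun h1 => (h'.aux h).elim (h0 ▸ id) fun h2 => ?_
  obtain ⟨k, X, h3, h4⟩ := h.ex
  obtain ⟨x, hx, h5⟩ := SetLike.not_le_iff_exists.1 fun e : E ≤ D => hne (eq_of_card_le e h0.le).symm
  have h6 := h4 x (h'.le hx) h5 _ inf_le_left (Cx.iv_center h3).nm
  rw [inf_eq_left.2 fun y hy => mem_C1.2 (mem_Ce.1 (h2 hy).2 x hx).symm] at h6
  have := X.four_le (Cx.iv_center h3) (X.center_ne h3 h.ne)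
  nlinarith

/-- the context for the analysis of the maximal invariant subgroups -/
structure Gx (k : H) : Prop where
  ss : SS H
  ord : orderOf k = 3
  hN : ∀ U, Iv k U → U ≠ ⊥ → ∀ x ∈ Nm U, Commute k x → x ∈ zpowers k

theorem M3.gx {k : H} (Y : M3 k) : Gx k := ⟨Y.ss, Y.ord, fun _ _ _ x _ => Y.cen x⟩

namespace Gx

variable {k : H} (Z : Gx k)
include Z

omit [Finite H] in
theorem cx : Cx k := ⟨Z.ss.h3, Z.ord⟩

omit [Finite H] in
theorem m3 {U : Subgroup H} (hU : Iv k U) (h : U ≠ ⊥) : M3 (⟨k, hU.nm⟩ : Nm U) :=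
  m3_sub Z.ord _ (Z.hN U hU h)

variable {W : Subgroup H} (hW : Mx k W) (h0 : W ≠ ⊥)
include hW h0

theorem idx : Nat.card (Nm W) = 3 * Nat.card W ∨
    (Nat.card (Nm W) = 6 * Nat.card W ∧ ∃ t ∈ Nm W, t * k * t⁻¹ = k⁻¹) := by
  have Y := Z.m3 hW.1 h0
  have h1 : ∀ U : Subgroup (Nm W), Iv (⟨k, hW.1.nm⟩ : Nm W) U → U ≤ W.subgroupOf (Nm W) := fun U hU x hx =>
    hW.le_of_Nm hU.map_sub (map_subtype_le _) ⟨x, hx, rfl⟩
  have h2 : (WW (⟨k, hW.1.nm⟩ : Nm W)).ncard ≤ Nat.card W := by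
    rw [← card_subgroupOf (le_Nm W)]
    exact Set.ncard_le_ncard (t := (W.subgroupOf (Nm W) : Set (Nm W))) fun x ⟨U, hU, hx⟩ => h1 U hU hx
  have h3 := Y.count
  have h4 := card_mul_relIndex (le_Nm W)
  have h5 : 3 ∣ Nat.card (Nm W) := Y.ord ▸ orderOf_dvd_natCard _
  rw [← h4] at h5
  obtain ⟨r, hr⟩ := (Nat.prime_three.dvd_mul.1 h5).resolve_left hW.1.nd
  have h6 := card_pos' W
  have h7 := card_pos' (Nm W)
  rw [hr] at h4
  have h8 : r = 1 ∨ r = 2 := by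
    have : r < 3 := by nlinarith
    have : r ≠ 0 := by rintro rfl; omega
    omega
  rcases h8 with rfl | rfl
  · left; omega
  by_cases hr : IsConj (⟨k, hW.1.nm⟩ : Nm W) (⟨k, hW.1.nm⟩ : Nm W)⁻¹
  · obtain ⟨t, ht⟩ := isConj_iff.1 hr
    exact Or.inr ⟨by omega, t, t.2, congrArg Subtype.val ht⟩
  · obtain ⟨K, -, i1, i2⟩ := Y.compl hr
    have := card_le_of_le (h1 K i1)
    rw [card_subgroupOf (le_Nm W)] at this
    omega

theorem orb' {V : Subgroup H} (h1 : Iv k V) (h : ∃ g, V = cj g W) : ∃ a ∈ Ak k, V = cj a W := by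
  obtain ⟨g, rfl⟩ := h
  obtain ⟨n, hn⟩ := (Z.m3 hW.1 h0).conj (x := ⟨_, mem_Nm_cj.1 h1.nm⟩)
    ((orderOf_coe _).symm.trans (by simpa using (Z.cx.cj g⁻¹).ord))
  refine ⟨g * (n : H)⁻¹, ?_, by rw [← cj_cj, cj_eq_iff.2 (inv_mem n.2)]⟩
  rw [← inv_mem_iff, mem_Ak Z.ord]
  refine hn.imp (fun e => ?_) (fun e => ?_) <;> simpa [mul_assoc] using congrArg Subtype.val e

theorem orb {X : Finset (Subgroup H)} (h : ∀ V ∈ X, Iv k V ∧ ∃ g, V = cj g W) :
    X.card * Nat.card (Ak k ⊓ Nm W : Subgroup H) ≤ Nat.card (Ak k) :=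
  orbit_count fun V hV => Z.orb' hW h0 (h V hV).1 (h V hV).2

theorem orb3 {X : Finset (Subgroup H)} (h : ∀ V ∈ X, Iv k V ∧ ∃ g, V = cj g W) :
    X.card * 3 ≤ Nat.card (Ak k) := by
  have h1 := card_le_of_le (show zpowers k ≤ Ak k ⊓ Nm W from le_inf le_normalizer (zpowers_le.2 hW.1.nm))
  rw [Z.cx.card_zp] at h1
  exact (Nat.mul_le_mul_left _ h1).trans (Z.orb hW h0 h)

omit hW h0 in
theorem six_le (hk : k ∈ Nm W) {t : H} (ht : t ∈ Nm W) (e : t * k * t⁻¹ = k⁻¹) :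
    6 ≤ Nat.card (Ak k ⊓ Nm W : Subgroup H) := by
  have h1 : zpowers k ≤ Ak k ⊓ Nm W := le_inf le_normalizer (zpowers_le.2 hk)
  have h2 := card_lt h1 fun e' => ne_inv3 Z.ord (by
    obtain ⟨n, rfl⟩ := e'.ge ⟨(mem_Ak Z.ord).2 (Or.inr e), ht⟩
    rw [← e]; group)
  have h3 := card_dvd_of_le h1
  rw [Z.cx.card_zp] at h2 h3
  omega

theorem orb6 (h6 : Nat.card (Nm W) = 6 * Nat.card W) {X : Finset (Subgroup H)}
    (h : ∀ V ∈ X, Iv k V ∧ ∃ g, V = cj g W) : X.card * 6 ≤ Nat.card (Ak k) := by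
  have := card_pos' W
  obtain ⟨-, t, ht, e⟩ := (Z.idx hW h0).resolve_left (by omega)
  exact (Nat.mul_le_mul_left _ (Z.six_le hW.1.nm ht e)).trans (Z.orb hW h0 h)

theorem cent_sq {x : H} (hx : x ∈ Nm W) (hx' : x ∉ W) {U : Subgroup H} (hU : U ≤ W) (hk : k ∈ Nm U) :
    Nat.card (U ⊓ C1 x : Subgroup H) ^ 2 ≤ Nat.card U := by
  have hy := Nm_conj (Nm_le_Nm_Nm W hW.1.nm) hx
  by_cases h3 : 3 ∣ Nat.card (zpowers x ⊔ zpowers (k * x * k⁻¹) : Subgroup H)
  · have := card_mul_le (A := U ⊓ C1 x) (B := U ⊓ C1 (k * x * k⁻¹)) inf_le_left inf_le_left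
      (eq_bot_iff.2 fun u hu => Z.cx.h3.eq_one h3 (nd_ord hW.1.nd (hU hu.1.1)) fun y hy =>
        (mem_C1.1 (sup_le (zpowers_le.2 (mem_C1.2 (mem_C1.1 hu.1.2).symm))
          (zpowers_le.2 (mem_C1.2 (mem_C1.1 hu.2.2).symm)) hy)).symm)
    rwa [C1_cj, ← cj_eq_iff.2 hk, ← cj_inf, card_cj, cj_eq_iff.2 hk, ← sq] at this
  exfalso
  have h4 : zpowers x ⊔ zpowers (k * x * k⁻¹) ≤ Nm W := sup_le (zpowers_le.2 hx) (zpowers_le.2 hy)
  have h5 := nd_sup hW.1.nd h3 h4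
  set J := W ⊔ (zpowers x ⊔ zpowers (k * x * k⁻¹))
  have h6 : Nat.card J ≤ 2 * Nat.card W := by
    obtain ⟨r, hr⟩ := card_dvd_of_le (le_sup_left : W ≤ J)
    have h7 : Nat.card J ∣ Nat.card W * 6 := by
      have := card_dvd_of_le (sup_le le_normalizer h4 : J ≤ Nm W)
      rcases Z.idx hW h0 with e | ⟨e, -⟩ <;> rw [e] at this
      · exact this.trans ⟨2, by ring⟩
      · rwa [mul_comm] at this
    rw [hr] at h5 h7 ⊢
    have h8 := Nat.dvd_of_mul_dvd_mul_left (card_pos' W) h7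
    have h9 : ¬ 3 ∣ r := fun e => h5 (e.mul_left _)
    have := Nat.le_of_dvd (by norm_num) h8
    have : r ≤ 2 := by interval_cases r <;> omega
    nlinarith
  have h7 : ∀ y ∉ W, W ⊔ zpowers y ≤ J → W ⊔ zpowers y = J := fun y hy h => by
    obtain ⟨r, hr⟩ := card_dvd_of_le (le_sup_left : W ≤ W ⊔ zpowers y)
    have := card_lt (le_sup_left : W ≤ W ⊔ zpowers y) fun e => hy (e.ge (mem_sup_right (mem_zpowers y)))
    have : 2 ≤ r := by by_contra; have : r ≤ 1 := by omega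
                       nlinarith
    exact eq_of_card_le h (by nlinarith)
  have h8 := h7 x hx' (sup_le_sup_left le_sup_left _)
  have h9 := h7 (k * x * k⁻¹) (fun e => hx' ((mem_normalizer_iff.1 hW.1.nm x).2 e)) (sup_le_sup_left le_sup_right _)
  refine hx' (hW.2 (y := J) ⟨?_, h5⟩ le_sup_left (h8.le (mem_sup_right (mem_zpowers x))))
  rw [← cj_eq_iff]
  conv_lhs => rw [← h8, cj, Subgroup.map_sup, MonoidHom.map_zpowers]
  exact (congrArg (· ⊔ _) (cj_eq_iff.2 hW.1.nm)).trans h9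

end Gx

end Cfsg.Agent.SC3
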