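import Mathlib

/-! A verified search for character degrees. -/

set_option autoImplicit false

namespace Cfsg.Agent.SC3

/-- final test -/
def fin (lo hi s t : ℤ) : Bool := decide (s = 0) && decide (lo ≤ t) && decide (t ≤ hi)

/-- copies of one item -/
def step (m : ℕ) (lo hi : ℤ) (d : ℕ) (c : ℤ) (rest : ℕ → ℤ → ℕ → ℤ → Bool) :
    ℕ → ℕ → ℤ → ℕ → ℤ → Bool
  | 0, k, s, sq, t => rest k s sq t
  | f + 1, k, s, sq, t =>
    if k = 0 then fin lo hi s t
    else if 9 * m < sq + d * d ∨ hi < t - (2 * k * (m / d) : ℕ) ∨ t + (2 * k * (m / d) : ℕ) < lo then false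
    else (decide (c.natAbs * c.natAbs ≤ k) && step m lo hi d c rest f (k - c.natAbs * c.natAbs) (s + c * d)
      (sq + d * d) (t + c * c * c * (m / d : ℕ))) || rest k s sq t

/-- the search -/
def go (m : ℕ) (lo hi : ℤ) : List (ℕ × ℤ) → ℕ → ℤ → ℕ → ℤ → Bool
  | [] => fun k s _ t => decide (k = 0) && fin lo hi s t
  | x :: r => step m lo hi x.1 x.2 (go m lo hi r) 8

/-- sum of squares of values -/
def sK (M : Multiset (ℕ × ℤ)) : ℕ := (M.map fun x : ℕ × ℤ => x.2.natAbs * x.2.natAbs).sum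
/-- sum of products -/
def sS (M : Multiset (ℕ × ℤ)) : ℤ := (M.map fun x : ℕ × ℤ => x.2 * x.1).sum
/-- sum of squares of degrees -/
def sQ (M : Multiset (ℕ × ℤ)) : ℕ := (M.map fun x : ℕ × ℤ => x.1 * x.1).sum
/-- sum of cubes -/
def sT (m : ℕ) (M : Multiset (ℕ × ℤ)) : ℤ := (M.map fun x : ℕ × ℤ => x.2 * x.2 * x.2 * (m / x.1 : ℕ)).sum

theorem sT_le (m : ℕ) {d : ℕ} (hd : 0 < d) (M : Multiset (ℕ × ℤ)) (h : ∀ x ∈ M, d ≤ x.1 ∧ |x.2| ≤ 2) :
    |sT m M| ≤ (2 * sK M * (m / d) : ℕ) := by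
  induction M using Multiset.induction_on with
  | empty => simp [sT, sK]
  | cons x M ih =>
    have h1 := ih fun y hy => h y (Multiset.mem_cons_of_mem hy)
    obtain ⟨h2, h3⟩ := h x (Multiset.mem_cons_self _ _)
    simp only [sT, sK, Multiset.map_cons, Multiset.sum_cons] at h1 ⊢
    refine (abs_add_le _ _).trans ?_
    have h4 : ((m / x.1 : ℕ) : ℤ) ≤ (m / d : ℕ) := by exact_mod_cast Nat.div_le_div_left h2 hd
    have h5 : |x.2 * x.2 * x.2 * (m / x.1 : ℕ)| ≤ 2 * (|x.2| * |x.2|) * (m / d : ℕ) := by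
      rw [abs_mul, abs_mul, abs_mul, Nat.abs_cast, mul_comm 2]
      gcongr
    push_cast [Nat.cast_natAbs] at h1 h5 ⊢
    linarith

theorem eq_zero_of_sK {M : Multiset (ℕ × ℤ)} (h : ∀ x ∈ M, x.2 ≠ 0) (h0 : sK M = 0) : M = 0 :=
  Multiset.eq_zero_of_forall_notMem fun x hx => h x hx (by
    simpa using Multiset.sum_eq_zero_iff.1 h0 _ (Multiset.mem_map_of_mem _ hx))

theorem go_sound (m : ℕ) (lo hi : ℤ) (it : List (ℕ × ℤ)) (hs : it.Pairwise fun x y => x.1 ≤ y.1)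
    (hi' : ∀ x ∈ it, 0 < x.1 ∧ x.2 ≠ 0 ∧ |x.2| ≤ 2) : ∀ (M : Multiset (ℕ × ℤ)) (k : ℕ) (s : ℤ) (sq : ℕ) (t : ℤ),
    (∀ x ∈ M, x ∈ it) → sK M = k → k ≤ 8 → s + sS M = 0 → sq + sQ M ≤ 9 * m → lo ≤ t + sT m M →
    t + sT m M ≤ hi → go m lo hi it k s sq t = true := by
  induction it with
  | nil =>
    intro M k s sq t h1 h2 _ h3 _ h4 h5
    obtain rfl : M = 0 := Multiset.eq_zero_of_forall_notMem fun x hx => by simpa using h1 x hx
    simp [sK, sS, sT] at h2 h3 h4 h5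
    simp [go, fin, *]
  | cons x r ih =>
    rw [List.pairwise_cons] at hs
    have ih' := ih hs.2 fun y hy => hi' y (List.mem_cons_of_mem _ hy)
    intro M k s sq t h1 h2 h8
    rw [go]
    obtain ⟨f, hf, h0⟩ : ∃ f, f = 8 ∧ k ≤ f := ⟨8, rfl, h8⟩
    rw [← hf]
    clear hf
    induction f generalizing M k s sq t with
    | zero =>
      obtain rfl : M = 0 := eq_zero_of_sK (fun y hy => (hi' y (h1 y hy)).2.1) (by omega)
      exact ih' 0 k s sq t (by simp) h2 (by omega)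
    | succ f ihf =>
      intro h3 h4 h5 h6
      rw [step]
      split_ifs with e1 e2
      · obtain rfl : M = 0 := eq_zero_of_sK (fun y hy => (hi' y (h1 y hy)).2.1) (by omega)
        simp [sS, sT] at h3 h5 h6
        simp [fin, *]
      · exfalso
        have h7 : ∀ y ∈ M, x.1 ≤ y.1 ∧ |y.2| ≤ 2 := fun y hy => ⟨(List.mem_cons.1 (h1 y hy)).elim
          (fun e => e ▸ le_rfl) (hs.1 y), (hi' y (h1 y hy)).2.2⟩
        have h9 := abs_le.1 (sT_le m (hi' x List.mem_cons_self).1 M h7)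
        obtain ⟨y, hy⟩ := Multiset.exists_mem_of_ne_zero (s := M) fun e => e1 (by simp [← h2, e, sK])
        have h10 := Multiset.single_le_sum (s := M.map fun x : ℕ × ℤ => x.1 * x.1) (fun _ _ => Nat.zero_le _) _
          (Multiset.mem_map_of_mem _ hy)
        have h11 := Nat.mul_le_mul (h7 y hy).1 (h7 y hy).1
        rw [h2] at h9
        unfold sQ at h4
        omega
      rw [Bool.or_eq_true]
      by_cases hx : x ∈ M
      · obtain ⟨M, rfl⟩ := Multiset.exists_cons_of_mem hx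
        have h7 : 0 < x.2.natAbs * x.2.natAbs := by
          have := Int.natAbs_pos.2 (hi' x List.mem_cons_self).2.1
          positivity
        simp only [sK, sS, sQ, sT, Multiset.map_cons, Multiset.sum_cons] at h2 h3 h4 h5 h6
        refine Or.inl (Bool.and_eq_true_iff.2 ⟨decide_eq_true (by omega), ihf M _ _ _ _
          (fun y hy => h1 y (Multiset.mem_cons_of_mem hy)) ?_ (by omega) (by omega) ?_ ?_ ?_ ?_⟩)
        · unfold sK; omega
        · unfold sS; linarith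
        · unfold sQ; omega
        · unfold sT; linarith
        · unfold sT; linarith
      · exact Or.inr (ih' M k s sq t (fun y hy => (List.mem_cons.1 (h1 y hy)).resolve_left
          fun e => hx (e ▸ hy)) h2 h8 h3 h4 h5 h6)

/-- the value attached to a degree -/
def cval (d : ℕ) : ℤ :=
  if d % 9 = 1 then 1 else if d % 9 = 8 then -1 else if d % 9 = 2 then 2 else if d % 9 = 7 then -2 else 0

/-- the possible degrees -/
def items (a q b : ℕ) : List (ℕ × ℤ) :=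
  (((List.range (a + 1)).flatMap fun x => (List.range (b + 1)).map fun y =>
    (2 ^ x * q ^ y, cval (2 ^ x * q ^ y))).filter fun z =>
      decide (1 < z.1) && decide (z.1 * z.1 < 9 * (2 ^ a * q ^ b)) && decide (z.2 ≠ 0)).insertionSort
        fun x y => x.1 ≤ y.1

/-- admissible data -/
structure Adm (a q b : ℕ) (M : Multiset (ℕ × ℤ)) : Prop where
  mem : ∀ x ∈ M, 1 < x.1 ∧ x.1 ∣ 2 ^ a * q ^ b ∧ x.2 ≠ 0 ∧ |x.2| ≤ 2 ∧ 9 ∣ (x.1 : ℤ) - x.2
  k : sK M = 8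
  s : 1 + sS M = 0
  sq : 1 + sQ M ≤ 9 * (2 ^ a * q ^ b)

theorem Adm.sq_lt {a q b : ℕ} {M : Multiset (ℕ × ℤ)} (h : Adm a q b M) {x : ℕ × ℤ} (hx : x ∈ M) :
    x.1 * x.1 < 9 * (2 ^ a * q ^ b) := by
  have h10 := Multiset.single_le_sum (s := M.map fun x : ℕ × ℤ => x.1 * x.1) (fun _ _ => Nat.zero_le _) _
    (Multiset.mem_map_of_mem _ hx)
  have := h.sq
  unfold sQ at this
  omega

theorem Adm.form {a q b : ℕ} {M : Multiset (ℕ × ℤ)} (h : Adm a q b M) (hq : q.Prime) {x : ℕ × ℤ}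
    (hx : x ∈ M) : ∃ i ≤ a, ∃ j ≤ b, x.1 = 2 ^ i * q ^ j := by
  obtain ⟨u, v, hu, hv, e⟩ := (Nat.dvd_mul).1 (h.mem x hx).2.1
  obtain ⟨i, hi, rfl⟩ := (Nat.dvd_prime_pow Nat.prime_two).1 hu
  obtain ⟨j, hj, rfl⟩ := (Nat.dvd_prime_pow hq).1 hv
  exact ⟨i, hi, j, hj, e.symm⟩

theorem Adm.mem_items {a q b : ℕ} {M : Multiset (ℕ × ℤ)} (h : Adm a q b M) (hq : q.Prime) {x : ℕ × ℤ}
    (hx : x ∈ M) : x ∈ items a q b := by
  obtain ⟨h1, -, h3, h4, h5⟩ := h.mem x hx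
  obtain ⟨i, hi, j, hj, e⟩ := h.form hq hx
  simp only [items, List.mem_insertionSort, List.mem_filter, List.mem_flatMap, List.mem_map, List.mem_range,
    Bool.and_eq_true, decide_eq_true_eq]
  refine ⟨⟨i, by omega, j, by omega, Prod.ext e.symm ?_⟩, ⟨h1, h.sq_lt hx⟩, h3⟩
  rw [← e, cval]
  have := abs_le.1 h4
  split_ifs <;> omega

theorem items_spec (a q b : ℕ) : ∀ x ∈ items a q b, 0 < x.1 ∧ x.2 ≠ 0 ∧ |x.2| ≤ 2 := by
  simp only [items, List.mem_insertionSort, List.mem_filter, List.mem_flatMap, List.mem_map, List.mem_range,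
    Bool.and_eq_true, decide_eq_true_eq]
  rintro _ ⟨⟨i, -, j, -, rfl⟩, ⟨h1, -⟩, h2⟩
  refine ⟨by omega, h2, ?_⟩
  simp only [cval]
  split_ifs <;> simp

theorem Adm.go {a q b : ℕ} {M : Multiset (ℕ × ℤ)} (h : Adm a q b M) (hq : q.Prime) {lo hi : ℤ}
    (h1 : lo ≤ (2 ^ a * q ^ b : ℕ) + sT (2 ^ a * q ^ b) M) (h2 : (2 ^ a * q ^ b : ℕ) + sT (2 ^ a * q ^ b) M ≤ hi) :
    go (2 ^ a * q ^ b) lo hi (items a q b) 8 1 1 (2 ^ a * q ^ b : ℕ) = true :=
  have : Std.Total fun x y : ℕ × ℤ => x.1 ≤ y.1 := ⟨fun _ _ => le_total _ _⟩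
  have : IsTrans (ℕ × ℤ) fun x y => x.1 ≤ y.1 := ⟨fun _ _ _ => le_trans⟩
  go_sound _ _ _ _ (List.pairwise_insertionSort _ _) (items_spec a q b) M _ _ _ _ (fun _ hx => h.mem_items hq hx)
    h.k le_rfl h.s h.sq h1 h2

theorem dvd_sT {m g : ℕ} {M : Multiset (ℕ × ℤ)} (h : ∀ x ∈ M, g ∣ m / x.1) : (g : ℤ) ∣ sT m M :=
  Multiset.dvd_sum fun _ hy => by
    obtain ⟨x, hx, rfl⟩ := Multiset.mem_map.1 hy
    exact (Int.natCast_dvd_natCast.2 (h x hx)).mul_left _

/-- common divisor -/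
def gcdL (m : ℕ) (l : List (ℕ × ℤ)) : ℕ := l.foldr (fun x g => Nat.gcd (m / x.1) g) m

theorem gcdL_dvd (m : ℕ) (l : List (ℕ × ℤ)) : gcdL m l ∣ m ∧ ∀ x ∈ l, gcdL m l ∣ m / x.1 := by
  induction l with
  | nil => simp [gcdL]
  | cons y l ih =>
    refine ⟨(Nat.gcd_dvd_right _ _).trans ih.1, fun x hx => ?_⟩
    rcases List.mem_cons.1 hx with rfl | hx
    exacts [Nat.gcd_dvd_left _ _, (Nat.gcd_dvd_right _ _).trans (ih.2 x hx)]

/-- condition for invariant Sylow `q`-subgroups -/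
def qc (a q b : ℕ) : Prop := q ^ b % 3 = 1 ∧ (3 * 2 ^ a % q = 1 ∨ 3 * 2 ^ (a - 1) % q = 1)

instance (a q b : ℕ) : Decidable (qc a q b) := by unfold qc; infer_instance

/-- contribution of the `2`-subgroups -/
def twos (a : ℕ) : List ℕ :=
  if a % 2 = 0 then ((List.range 7).map fun n => n * (2 ^ a - 1)) ++ (List.range 12).map fun v => v * 3
  else (List.range 4).flatMap fun n => (List.range 12).map fun v => n * (2 ^ (a - 1) - 1) + v * 3

/-- the possible numbers of factorizations -/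
def rhos (a q b : ℕ) : List ℕ :=
  (List.range (if qc a q b then 7 else 1)).flatMap fun n => (twos a).map fun t => 7 + n * (q ^ b - 1) + t

/-- the check for one order -/
def chk (a q b : ℕ) : Bool :=
  decide (2 ^ (a - 3) * q ^ b % 9 ≠ 1) || decide (a = 6 ∧ q = 17 ∧ b = 1) ||
    (fun m it g => (rhos a q b).all fun r => decide (72 * r ≤ m) || decide (9 * r % g ≠ 0) ||
      !go m (9 * r : ℕ) (9 * r : ℕ) it 8 1 1 m) (2 ^ a * q ^ b) (items a q b)
        (gcdL (2 ^ a * q ^ b) (items a q b))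

theorem Adm.chk {a q b : ℕ} {M : Multiset (ℕ × ℤ)} (h : Adm a q b M) (hq : q.Prime)
    (h9 : 2 ^ (a - 3) * q ^ b % 9 = 1) {r : ℕ} (hr : r ∈ rhos a q b) (h1 : 2 ^ a * q ^ b < 72 * r)
    (h2 : (2 ^ a * q ^ b : ℕ) + sT (2 ^ a * q ^ b) M = (9 * r : ℕ)) (hc : chk a q b = true) :
    a = 6 ∧ q = 17 ∧ b = 1 := by
  simp only [SC3.chk, Bool.or_eq_true, decide_eq_true_eq, List.all_eq_true] at hc
  refine (hc.resolve_right fun hc => ?_).resolve_left fun e => e h9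
  have h3 := gcdL_dvd (2 ^ a * q ^ b) (items a q b)
  rcases hc r hr with (e | e) | e
  · omega
  · refine e (Nat.mod_eq_zero_of_dvd (Int.natCast_dvd_natCast.1 (h2 ▸ dvd_add (Int.natCast_dvd_natCast.2 h3.1)
      (dvd_sT fun x hx => h3.2 x (h.mem_items hq hx)))))
  · rw [h.go hq h2.ge h2.le] at e
    exact Bool.false_ne_true e

/-- first family -/
def chk1 (a : ℕ) : Bool := (List.range 867).all fun q => decide (q % 2 = 0) || decide (q % 3 = 0) ||
  decide (q % 5 = 0 ∧ q ≠ 5) || decide (q = 1) || (List.range 5).all fun b => decide (867 ≤ q ^ b) || chk a q b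

/-- second family -/
def chk2 (a : ℕ) : Bool := (List.range 1536).all fun q =>
  decide (3 * 2 ^ a % q ≠ 1 ∧ 3 * 2 ^ (a - 1) % q ≠ 1) || decide (q < 5) || (List.range 16).all fun b => chk a q b

end Cfsg.Agent.SC3
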