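import Cfsg.Agent.SC3.Num

/-! The computations. -/

set_option autoImplicit false

namespace Cfsg.Agent.SC3

theorem chk1_all : (List.range 34).all (fun a => chk1 (a + 3)) = true := by decide +kernel

end Cfsg.Agent.SC3
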