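import Cfsg.Agent.SC3.Max

/-! The types of maximal invariant `2`-subgroups. -/

set_option autoImplicit false

namespace Cfsg.Agent.SC3

open Subgroup Finset

variable {H : Type*} [Group H] [Finite H]

instance fact2 : Fact (Nat.Prime 2) := ⟨Nat.prime_two⟩

omit [Finite H] in
theorem le_of_pow_dvd {p n a N : ℕ} (h : p ^ n ∣ N) (ha : ¬ p ^ (a + 1) ∣ N) : n ≤ a := by
  by_contra e
  exact ha ((pow_dvd_pow p (by omega)).trans h)

omit [Finite H] in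
theorem four_comm {V : Subgroup H} (h : Nat.card V = 4) : V ≤ Ce V := fun x hx => mem_Ce.2 fun y hy =>
  congrArg Subtype.val ((IsPGroup.isMulCommutative_of_card_eq_prime_sq (p := 2) (G := V) h).is_comm.comm
    ⟨x, hx⟩ ⟨y, hy⟩)

theorem exists_central {p : ℕ} [Fact p.Prime] {S : Subgroup H} (hS : IsPGroup p S) (h : S ≠ ⊥) :
    ∃ z ∈ S ⊓ Ce S, z ≠ 1 := by
  have := (nontrivial_iff_ne_bot S).2 h
  have := hS.center_nontrivial
  obtain ⟨⟨z, hz⟩, h1⟩ := exists_ne (1 : center S)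
  exact ⟨z, ⟨z.2, mem_Ce.2 fun x hx => (congrArg Subtype.val (mem_center_iff.1 hz ⟨x, hx⟩)).symm⟩,
    fun e => h1 (Subtype.ext (Subtype.ext e))⟩

theorem V_elt {S V : Subgroup H} (hS : IsPGroup 2 S) (h : V ≤ S) (hV : Nat.card V = 4) (hc : Ce V ≤ V)
    (hne : V ≠ S) : ∃ v ∈ S, v ≠ 1 ∧ S ⊓ C1 v = V := by
  obtain ⟨z, hz, h1⟩ := exists_central hS fun e => hne (le_antisymm h (e ▸ bot_le))
  have h2 : ¬ V ≤ Ce S := fun e => hne (le_antisymm h ((le_centralizer_iff.1 e).trans hc))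
  obtain ⟨v, hv, h3⟩ := SetLike.not_le_iff_exists.1 h2
  have h4 : z ∈ V := hc (centralizer_le h hz.2)
  refine ⟨v, h hv, fun e => h3 (e ▸ one_mem _), le_antisymm (fun x hx => hc ?_)
    (le_inf h fun y hy => mem_C1.2 (mem_Ce.1 (four_comm hV hv) y hy))⟩
  have h5 : V ⊓ C1 x = V := by
    have i1 := card_dvd_of_le (inf_le_left : V ⊓ C1 x ≤ V)
    have i2 : zpowers z ≤ V ⊓ C1 x := zpowers_le.2 ⟨h4, mem_C1.2 (mem_Ce.1 hz.2 x hx.1).symm⟩
    have i3 := card_lt i2 fun e => h3 (zpowers_le.2 hz.2 (e.ge ⟨hv, mem_C1.2 (mem_C1.1 hx.2).symm⟩))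
    have i4 : 1 < Nat.card (zpowers z) := one_lt_card_iff_ne_bot _ |>.2 (zpowers_ne_bot.2 h1)
    rw [hV] at i1
    have := Nat.le_of_dvd (by norm_num) i1
    refine eq_of_card_le inf_le_left ?_
    generalize Nat.card (V ⊓ C1 x : Subgroup H) = n at *
    interval_cases n <;> omega
  exact mem_Ce.2 fun y hy => mem_C1.1 (h5.ge hy).2

theorem class_card {S : Subgroup H} (v : H) {Y : Finset H}
    (hY : ∀ s ∈ S, s * v * s⁻¹ ∈ Y) : Nat.card S ≤ Nat.card (S ⊓ C1 v : Subgroup H) * Y.card := by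
  classical
  have := Fintype.ofFinite S
  rw [Nat.card_eq_fintype_card]
  refine card_le_mul_card_image_of_maps_to (f := fun s : S => s * v * (s : H)⁻¹) (fun s _ => hY s s.2) _
    fun b _ => ?_
  rcases (univ.filter fun s : S => s * v * (s : H)⁻¹ = b).eq_empty_or_nonempty with e | ⟨s, hs⟩
  · simp [e]
  rw [← Fintype.card_coe, ← Nat.card_eq_fintype_card]
  refine Nat.card_le_card_of_injective (fun t => ⟨(s : H)⁻¹ * t.1, S.mul_mem (S.inv_mem s.2) t.1.2, mem_C1.2 ?_⟩)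
    fun t u e => Subtype.ext (Subtype.ext (mul_left_cancel (congrArg Subtype.val e)))
  have h1 := (mem_filter.1 hs).2.trans (mem_filter.1 t.2).2.symm
  calc v * ((s : H)⁻¹ * t.1) = (s : H)⁻¹ * (s * v * (s : H)⁻¹) * t.1 := by group
    _ = _ := by rw [h1]; group

namespace Gx

variable {k : H} (Z : Gx k)
include Z

theorem two_type {W : Subgroup H} (hW : Mx k W) {D : Subgroup H} (hD : D ≤ W) {n a : ℕ}
    (hn : Nat.card D = 2 ^ n) (hne : D ≠ ⊥) (hall : ∀ x ∈ W, ∀ j, x ^ 2 ^ j = 1 → x ∈ D)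
    (hodd : ¬ 2 ∣ D.relIndex W) (hNm : Nm D = Nm W) (ha : ¬ 2 ^ (a + 1) ∣ Nat.card H)
    (ha' : 2 ^ a ∣ Nat.card H) : (Nat.card (Nm W) = 3 * Nat.card W ∧ n = a) ∨
      (Nat.card (Nm W) = 6 * Nat.card W ∧ ∃ T, HP T D ∧ T ≤ Nm W ∧ (n + 1 = a ∨ (n = 2 ∧ 3 ≤ a))) := by
  have h0 : W ≠ ⊥ := fun e => hne (eq_bot_iff.2 (e ▸ hD))
  have h1 := card_mul_relIndex hD
  have h2 := le_of_pow_dvd (hn ▸ card_subgroup_dvd_card D) ha
  have hI : Iv k D := hW.1.of_le hD (hNm ▸ hW.1.nm)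
  have hp : ∀ j, 2 ^ (n + j + 1) ∣ 3 * 2 ^ j * Nat.card W → False := fun j h => by
    rw [← h1, hn, show 3 * 2 ^ j * (2 ^ n * D.relIndex W) = 2 ^ (n + j) * (3 * D.relIndex W) by ring,
      pow_succ] at h
    have := Nat.dvd_of_mul_dvd_mul_left (by positivity) h
    omega
  rcases Z.idx hW h0 with e | ⟨e, -⟩
  · refine Or.inl ⟨e, by_contra fun h3 => hp 0 ?_⟩
    have := Sylow.prime_pow_dvd_card_normalizer ((pow_dvd_pow 2 (by omega)).trans ha') hn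
    change _ ∣ Nat.card (Nm D) at this
    simpa [hNm, e] using this
  have h3 : D ≤ Nm W := hD.trans (le_Nm W)
  obtain ⟨K, hK, hK'⟩ := Sylow.exists_subgroup_card_pow_succ (G := Nm W) (p := 2) (n := n)
    (by rw [e, ← h1, hn]; exact ⟨3 * D.relIndex W, by ring⟩) ((card_subgroupOf h3).trans hn)
  have h4 : Nat.card (K.map (Nm W).subtype) = 2 ^ (n + 1) := (card_map_sub K).trans hK
  have h5 : HP (K.map (Nm W).subtype) D := ⟨fun x hx => ⟨⟨x, h3 hx⟩, hK' hx, rfl⟩,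
    by rw [h4, hn, pow_succ'], hne, k, Z.cx, hI, fun x hx hx' U hU hk =>
      Z.cent_sq hW h0 (map_subtype_le _ hx) (fun e => hx' (hall x e (n + 1) (by
        rw [← h4]; exact congrArg Subtype.val (pow_card_eq_one' (x := (⟨x, hx⟩ : K.map (Nm W).subtype))))))
        (hU.trans hD) hk⟩
  refine Or.inr ⟨e, _, h5, map_subtype_le _, ?_⟩
  have h6 := le_of_pow_dvd (h4 ▸ card_subgroup_dvd_card _) ha
  refine or_iff_not_imp_left.2 fun h7 => ?_
  have h8 := Sylow.prime_pow_dvd_card_normalizer ((pow_dvd_pow 2 (by omega)).trans ha') h4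
  obtain ⟨g, hg, h9⟩ := SetLike.not_le_iff_exists.1 fun e' : Nm (K.map (Nm W).subtype) ≤ Nm D =>
    hp 1 (by simpa [hNm, e] using h8.trans (card_dvd_of_le e'))
  have h10 := h5.two (cj_eq_iff.2 hg ▸ h5.cj g) fun e' => h9 (cj_eq_iff.1 e'.symm)
  have h11 := Z.cx.four_le hI hne
  have : n = 2 := Nat.pow_right_injective le_rfl (show 2 ^ n = 2 ^ 2 by omega)
  omega

theorem V_cent {W : Subgroup H} (hW : Mx k W) (h : Nat.card W = 4) : Ce W ≤ W :=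
  hW.2 ⟨Nm_le_Nm_Ce W hW.1.nm, Z.cx.h3.nd_Ce hW.1.nd fun e => by simp [e] at h⟩ (four_comm h)

theorem V_excl {W S : Subgroup H} (hW : Mx k W) (h : Nat.card W = 4) {a : ℕ} (h3 : 3 ≤ a)
    (ha : ¬ 2 ^ (a + 1) ∣ Nat.card H) (hS : Iv k S) (hS' : Nat.card S = 2 ^ a) : False := by
  obtain ⟨g, hg⟩ := exists_cj_le hS' (IsPGroup.of_card (n := 2) h) ha
  have h1 : Ce (cj g W) ≤ cj g W := Ce_cj g W ▸ cj_mono (Z.V_cent hW h)
  have h2 := Nat.pow_le_pow_right two_pos h3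
  have h4 := Z.cx.four_le (Cx.iv_center hS) (Z.cx.center_ne hS fun e => by simp [e] at hS'; omega)
  have h5 := eq_of_card_le (inf_le_right.trans ((centralizer_le hg).trans h1) : S ⊓ Ce S ≤ _)
    (by rw [card_cj]; omega)
  have h6 := card_le_of_le ((le_centralizer_iff.1 (h5.ge.trans inf_le_right)).trans h1)
  rw [card_cj] at h6
  omega

theorem V_count {X : Finset (Subgroup H)} {a : ℕ} (h3 : 3 ≤ a) (ha : ¬ 2 ^ (a + 1) ∣ Nat.card H)
    (ha' : 2 ^ a ∣ Nat.card H)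
    (hX : ∀ W ∈ X, Mx k W ∧ Nat.card W = 4 ∧ Nat.card (Nm W) = 6 * Nat.card W) :
    X.card * 6 < 4 * Nat.card (Ak k) := by
  classical
  obtain ⟨S, hS⟩ := Sylow.exists_subgroup_card_pow_prime 2 ha'
  have h2 : 2 ^ a = 4 * 2 ^ (a - 2) := by rw [show a = a - 2 + 2 by omega, pow_add]; simp [mul_comm]
  have h4 := Nat.pow_le_pow_right two_pos h3
  have := card_mul_le_card_mul (s := X) (t := nt S) (fun W x => ∃ g, cj g W = S ⊓ C1 x)
    (m := 2 ^ (a - 2)) (n := Nat.card (Ak k) / 6) (fun W hW => by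
      obtain ⟨h5, h6, -⟩ := hX W hW
      obtain ⟨g, hg⟩ := exists_cj_le hS (IsPGroup.of_card (n := 2) h6) ha
      obtain ⟨v, hv, h7, h8⟩ := V_elt (IsPGroup.of_card hS) hg ((card_cj _ _).trans h6)
        (Ce_cj g W ▸ cj_mono (Z.V_cent h5 h6)) fun e => by rw [← e, card_cj] at hS; omega
      have := class_card (S := S) v (Y := (nt S).bipartiteAbove (fun W x => ∃ g, cj g W = S ⊓ C1 x) W)
        fun s hs => (mem_bipartiteAbove _).2 ⟨mem_nt.2 ⟨Nm_conj (le_Nm S hs) hv, by simpa using h7⟩,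
          s * g, by rw [← cj_cj, ← h8, cj_inf, cj_eq_iff.2 (le_Nm S hs), C1_cj]⟩
      rw [h8, card_cj, h6, hS] at this
      omega) (fun x _ => by
      rcases (X.bipartiteBelow (fun W x => ∃ g, cj g W = S ⊓ C1 x) x).eq_empty_or_nonempty with e | ⟨W, hW⟩
      · simp [e]
      obtain ⟨h5, g, hg⟩ := (mem_bipartiteBelow _).1 hW
      obtain ⟨h6, h7, h8⟩ := hX W h5
      rw [Nat.le_div_iff_mul_le (by norm_num)]
      refine Z.orb6 h6 (fun e => by simp [e] at h7) h8 fun V hV => ?_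
      obtain ⟨i1, g', i2⟩ := (mem_bipartiteBelow _).1 hV
      exact ⟨(hX V i1).1.1, g'⁻¹ * g, by rw [← cj_cj, hg, ← i2, cj_cj, inv_mul_cancel, cj_one]⟩)
  rw [card_nt, hS, h2] at this
  have h5 := Nat.div_mul_le_self (Nat.card (Ak k)) 6
  have h6 := card_pos' (Ak k)
  have h7 : 0 < 2 ^ (a - 2) := by positivity
  generalize Nat.card (Ak k) / 6 = c at *
  generalize 2 ^ (a - 2) = m at *
  rcases c with _ | c
  · have : X.card = 0 := by simpa [h7.ne'] using this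
    omega
  have h8 : X.card < 4 * (c + 1) := by
    by_contra h9
    obtain ⟨m, rfl⟩ : ∃ m', m = m' + 1 := ⟨m - 1, by omega⟩
    rw [show 4 * (m + 1) - 1 = 4 * m + 3 by omega] at this
    nlinarith
  omega

theorem two_sum {X : Finset (Subgroup H)} {a : ℕ} (ha : ¬ 2 ^ (a + 1) ∣ Nat.card H)
    (ha' : 2 ^ a ∣ Nat.card H) (hX : ∀ W ∈ X, Mx k W ∧ W ≠ ⊥ ∧ IsPGroup 2 W) :
    ∃ nS nH nV : ℕ, ∑ W ∈ X, (Nat.card W - 1) = nS * (2 ^ a - 1) + nH * (2 ^ (a - 1) - 1) + nV * 3 ∧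
      nS * 3 ≤ Nat.card (Ak k) ∧ nH * 6 ≤ Nat.card (Ak k) ∧ nV * 6 < 4 * Nat.card (Ak k) ∧
      (0 < nV → 3 ≤ a ∧ nS = 0) ∧ (0 < nH → a % 2 = 1 ∧ 5 ≤ a) ∧ (0 < nS → a % 2 = 0 ∧ 2 ≤ a) ∧
      X.card = nS + nH + nV ∧ (nH = 0 → nV = 0 → ∀ W ∈ X, Nat.card W = 2 ^ a) := by
  classical
  have hT : ∀ W ∈ X, Nat.card W ≠ 2 ^ a → Nat.card (Nm W) = 6 * Nat.card W ∧ 3 ≤ a ∧
      ∃ T, HP T W ∧ (Nat.card W ≠ 4 → Nat.card W = 2 ^ (a - 1) ∧ Nat.card T = 2 ^ a) := fun W hW h => by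
    obtain ⟨h1, h2, h3⟩ := hX W hW
    obtain ⟨n, hn⟩ := h3.exists_card_eq
    obtain ⟨h4, T, h5, -, h6⟩ := (Z.two_type h1 le_rfl hn h2 (fun _ h _ _ => h) (by simp) rfl ha ha').resolve_left
      fun e => h (e.2 ▸ hn)
    have h7 := Z.cx.four_le h1.1 h2
    have h8 : 2 ≤ n := (Nat.pow_le_pow_iff_right one_lt_two).1 (show 2 ^ 2 ≤ 2 ^ n by omega)
    refine ⟨h4, by omega, T, h5, fun h9 => ?_⟩
    obtain rfl := h6.resolve_right fun e => h9 (by rw [hn, e.1]; rfl)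
    exact ⟨hn, by rw [h5.card, hn, pow_succ']⟩
  have hm : ∀ W ∈ X, ∀ n, Nat.card W = 2 ^ n → n % 2 = 0 ∧ 2 ≤ n := fun W hW n hn => by
    have h1 := Z.cx.card_mod (hX W hW).1.1
    have h2 := Z.cx.four_le (hX W hW).1.1 (hX W hW).2.1
    rw [hn] at h1 h2
    refine ⟨by_contra fun e => ?_, (Nat.pow_le_pow_iff_right one_lt_two).1 (show 2 ^ 2 ≤ 2 ^ n by omega)⟩
    rw [← Nat.div_add_mod n 2, show n % 2 = 1 by omega, pow_succ, pow_mul, Nat.mul_mod, Nat.pow_mod] at h1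
    simp at h1
  let XS := X.filter fun W : Subgroup H => Nat.card W = 2 ^ a
  let XV := (X.filter fun W : Subgroup H => ¬ Nat.card W = 2 ^ a).filter fun W : Subgroup H => Nat.card W = 4
  let XH := (X.filter fun W : Subgroup H => ¬ Nat.card W = 2 ^ a).filter fun W : Subgroup H => ¬ Nat.card W = 4
  have hs : ∀ f : Subgroup H → ℕ, ∑ W ∈ X, f W = ∑ W ∈ XS, f W + ∑ W ∈ XH, f W + ∑ W ∈ XV, f W := fun f => by
    rw [add_assoc, add_comm (∑ W ∈ XH, f W), sum_filter_add_sum_filter_not, sum_filter_add_sum_filter_not]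
  have hH : ∀ W ∈ XH, W ∈ X ∧ Nat.card (Nm W) = 6 * Nat.card W ∧ Nat.card W ≠ 4 ∧
      Nat.card W = 2 ^ (a - 1) ∧ ∃ T, HP T W ∧ Nat.card T = 2 ^ a := fun W hW => by
    simp only [XH, mem_filter] at hW
    obtain ⟨h1, -, T, h2, h3⟩ := hT W hW.1.1 hW.1.2
    exact ⟨hW.1.1, h1, hW.2, (h3 hW.2).1, T, h2, (h3 hW.2).2⟩
  have hV : ∀ W ∈ XV, Mx k W ∧ Nat.card W = 4 ∧ Nat.card (Nm W) = 6 * Nat.card W ∧ 3 ≤ a := fun W hW => by
    simp only [XV, mem_filter] at hW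
    obtain ⟨h1, h2, -⟩ := hT W hW.1.1 hW.1.2
    exact ⟨(hX W hW.1.1).1, hW.2, h1, h2⟩
  refine ⟨XS.card, XH.card, XV.card, ?_, ?_, ?_, ?_, fun h => ?_, fun h => ?_, fun h => ?_, ?_, fun h1 h2 W hW => ?_⟩
  · rw [hs, sum_congr rfl (s₁ := XS) (g := fun _ => 2 ^ a - 1) fun W hW => by rw [(mem_filter.1 hW).2],
      sum_congr rfl (s₁ := XH) (g := fun _ => 2 ^ (a - 1) - 1) fun W hW => by rw [(hH W hW).2.2.2.1],
      sum_congr rfl (s₁ := XV) (g := fun _ => 3) fun W hW => by rw [(hV W hW).2.1]]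
    simp
  · rcases XS.eq_empty_or_nonempty with e | ⟨W, hW⟩
    · simp [e]
    have h1 := mem_filter.1 hW
    exact Z.orb3 (hX W h1.1).1 (hX W h1.1).2.1 fun V hV =>
      ⟨(hX V (mem_filter.1 hV).1).1.1, conj_of_card h1.2 (mem_filter.1 hV).2 ha⟩
  · rcases XH.eq_empty_or_nonempty with e | ⟨W, hW⟩
    · simp [e]
    obtain ⟨h1, h2, h3, h4, T, h5, h6⟩ := hH W hW
    refine Z.orb6 (hX W h1).1 (hX W h1).2.1 h2 fun V hV => ?_
    obtain ⟨i1, -, i3, -, T', i5, i6⟩ := hH V hV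
    obtain ⟨g, rfl⟩ := conj_of_card h6 i6 ha
    refine ⟨(hX V i1).1.1, g, by_contra fun e => i3 ?_⟩
    exact le_antisymm (i5.two (h5.cj g) e) (Z.cx.four_le (hX V i1).1.1 (hX V i1).2.1)
  · rcases XV.eq_empty_or_nonempty with e | ⟨W, hW⟩
    · simpa [e] using card_pos' (Ak k)
    exact Z.V_count (hV W hW).2.2.2 ha ha' fun W hW => ⟨(hV W hW).1, (hV W hW).2.1, (hV W hW).2.2.1⟩
  · obtain ⟨W, hW⟩ := card_pos.1 h
    obtain ⟨h1, h2, -, h3⟩ := hV W hW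
    exact ⟨h3, card_eq_zero.2 (eq_empty_of_forall_notMem fun S hS =>
      Z.V_excl h1 h2 h3 ha (hX S (mem_filter.1 hS).1).1.1 (mem_filter.1 hS).2)⟩
  · obtain ⟨W, hW⟩ := card_pos.1 h
    obtain ⟨h1, -, h3, h4, -⟩ := hH W hW
    have h5 := hm W h1 _ h4
    have : a - 1 ≠ 2 := fun e => h3 (by rw [h4, e]; rfl)
    omega
  · obtain ⟨W, hW⟩ := card_pos.1 h
    exact hm W (mem_filter.1 hW).1 _ (mem_filter.1 hW).2
  · simpa using hs fun _ => 1
  · by_contra e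
    by_cases e' : Nat.card W = 4
    · exact notMem_empty W (card_eq_zero.1 h2 ▸ mem_filter.2 ⟨mem_filter.2 ⟨hW, e⟩, e'⟩)
    · exact notMem_empty W (card_eq_zero.1 h1 ▸ mem_filter.2 ⟨mem_filter.2 ⟨hW, e⟩, e'⟩)

end Gx

end Cfsg.Agent.SC3
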